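import Cfsg.Agent.Lib.Invol.CentRank.Cyclic.Socle
import Cfsg.Agent.Lib.Grp.Solvable
import Cfsg.Agent.Lib.Invol.MinNonCA.Mod
import Cfsg.Agent.Lib.Local.CoreConsumers.Connected
import Cfsg.Agent.S3305

/-!
# Sylow 2-intersections of rank one: basic facts

Two commuting involutions lie in one Sylow 2-subgroup only; the hypothesis passes to quotients by normal
subgroups of odd order; perfect subgroups and minimal non-solvable invariant subgroups.
-/

set_option autoImplicit false
set_option linter.style.haveILetI false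
set_option linter.unusedSectionVars false

open Subgroup
open scoped commutatorElement

namespace Cfsg.Agent.Invol.RankOneInter

universe u v

/-- Distinct Sylow 2-subgroups have intersection of 2-rank at most one. -/
def RI (G : Type*) [Group G] : Prop :=
  ∀ S T : Sylow 2 G, S ≠ T → Cfsg.PRankLE 2 1 ↥((S : Subgroup G) ⊓ (T : Subgroup G))

/-- `N` is invariant under conjugation by `H`. -/
def Inv {G : Type*} [Group G] (H N : Subgroup G) : Prop :=
  ∀ h ∈ H, ∀ x ∈ N, h * x * h⁻¹ ∈ N

variable {G : Type u} [Group G] [Finite G]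

section RI

theorem eq_of_four (hR : RI G) {S T : Sylow 2 G} {a b : G} (ha : orderOf a = 2) (hb : orderOf b = 2)
    (hne : a ≠ b) (hc : Commute a b) (haS : a ∈ (S : Subgroup G)) (hbS : b ∈ (S : Subgroup G))
    (haT : a ∈ (T : Subgroup G)) (hbT : b ∈ (T : Subgroup G)) : S = T := by
  by_contra hST
  obtain ⟨K, hK, -, -, hle⟩ := CoreConsumers.exists_klein_of_commute ha hb hne hc
  set D := (S : Subgroup G) ⊓ (T : Subgroup G)
  have hKD : K ≤ D := hle.trans (sup_le (zpowers_le.2 ⟨haS, haT⟩) (zpowers_le.2 ⟨hbS, hbT⟩))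
  haveI := hK
  have h2 : ∀ x : K, x ^ 2 = 1 := fun x => by rw [pow_two, IsKleinFour.mul_self]
  have h4 := hR S T hST (K.subgroupOf D)
    ⟨⟨fun x y => Subtype.ext (Subtype.ext (congrArg Subtype.val
      (mul_comm_of_exponent_two IsKleinFour.exponent_two (⟨_, x.2⟩ : K) ⟨_, y.2⟩) :))⟩⟩
    fun x hx => Subtype.ext (congrArg Subtype.val (h2 ⟨_, hx⟩) :)
  rw [Nat.card_congr (subgroupOfEquivOfLe hKD).toEquiv, hK.card_four] at h4
  omega

theorem mem_normalizer_of_four (hR : RI G) {S : Sylow 2 G} {a b g : G} (ha : orderOf a = 2)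
    (hb : orderOf b = 2) (hne : a ≠ b) (hc : Commute a b) (haS : a ∈ (S : Subgroup G))
    (hbS : b ∈ (S : Subgroup G)) (hga : g * a * g⁻¹ ∈ (S : Subgroup G)) (hgb : g * b * g⁻¹ ∈ (S : Subgroup G)) :
    g ∈ normalizer ((S : Subgroup G) : Set G) := by
  have e := eq_of_four hR (S := g⁻¹ • S) (T := S) ha hb hne hc
    (CentRank.mem_smul_sylow.2 (by rwa [inv_inv])) (CentRank.mem_smul_sylow.2 (by rwa [inv_inv])) haS hbS
  simpa using inv_mem (Sylow.smul_eq_iff_mem_normalizer.1 e)

theorem centralizer_four_le (hR : RI G) {S : Sylow 2 G} {a b g : G} (ha : orderOf a = 2)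
    (hb : orderOf b = 2) (hne : a ≠ b) (hc : Commute a b) (haS : a ∈ (S : Subgroup G))
    (hbS : b ∈ (S : Subgroup G)) (hga : Commute g a) (hgb : Commute g b) :
    g ∈ normalizer ((S : Subgroup G) : Set G) :=
  mem_normalizer_of_four hR ha hb hne hc haS hbS (by rwa [hga.eq, mul_inv_cancel_right])
    (by rwa [hgb.eq, mul_inv_cancel_right])

theorem isSolvable_sylow_normalizer (S : Sylow 2 G) :
    Group.IsSolvable ↥(normalizer ((S : Subgroup G) : Set G)) := by
  haveI : Fact (Nat.Prime 2) := ⟨Nat.prime_two⟩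
  set N := normalizer ((S : Subgroup G) : Set G) with hN
  set S' := (S : Subgroup G).subgroupOf N with hS'
  haveI : S'.Normal := Subgroup.normal_in_normalizer
  haveI : Group.IsNilpotent S' :=
    ((S.isPGroup').of_equiv (Subgroup.subgroupOfEquivOfLe le_normalizer).symm).isNilpotent
  haveI : Group.IsSolvable S' := inferInstance
  haveI : Group.IsSolvable (N ⧸ S') := S0205.result (Nat.not_even_iff_odd.1 fun he =>
    S.not_dvd_index ((even_iff_two_dvd.1 he).trans (relIndex_dvd_index_of_le le_normalizer)))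
  exact (Group.isSolvable_iff_subgroup_quotient S').2 ⟨inferInstance, inferInstance⟩

theorem isSolvable_of_le {H K : Subgroup G} (hK : Group.IsSolvable K) (h : H ≤ K) : Group.IsSolvable H :=
  haveI := hK
  Group.isSolvable_of_isSolvable_injective (f := Subgroup.inclusion h) (Subgroup.inclusion_injective h)

/-- What centralises two commuting involutions is solvable. -/
theorem isSolvable_of_four (hR : RI G) {a b : G} (ha : orderOf a = 2) (hb : orderOf b = 2) (hne : a ≠ b)
    (hc : Commute a b) {M : Subgroup G} (hMa : ∀ m ∈ M, Commute m a) (hMb : ∀ m ∈ M, Commute m b) :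
    Group.IsSolvable M := by
  haveI : Fact (Nat.Prime 2) := ⟨Nat.prime_two⟩
  obtain ⟨S, hS⟩ := (Invol.isPGroup_closure_pair ha hb (a := 1) (by
    rw [pow_one]
    refine orderOf_eq_prime ?_ (fun e => hne ?_)
    · rw [hc.mul_pow, pow_two, pow_two, mul_self_of_orderOf_two ha, mul_self_of_orderOf_two hb, one_mul]
    · rw [eq_inv_of_mul_eq_one_left e, inv_of_orderOf_two hb])).exists_le_sylow
  exact isSolvable_of_le (isSolvable_sylow_normalizer S) fun m hm => centralizer_four_le hR ha hb hne hc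
    (hS left_mem_closure_pair) (hS right_mem_closure_pair) (hMa m hm) (hMb m hm)

theorem fourUnique (hR : RI G) : CentRank.FourUnique G := fun S T z u hz hu hne hc hzS huS hzT huT =>
  eq_of_four hR hz.1 hu hne.symm hc.symm hzS huS hzT huT

theorem pRankLE_congr {A : Type*} {B : Type*} [Group A] [Group B] (f : A →* B) (hf : Function.Injective f)
    {p k : ℕ} (h : Cfsg.PRankLE p k B) : Cfsg.PRankLE p k A := by
  intro X hX hXp
  rw [Nat.card_congr (X.equivMapOfInjective f hf).toEquiv]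
  exact h _ ⟨⟨by
    rintro ⟨_, x, hx, rfl⟩ ⟨_, y, hy, rfl⟩
    exact Subtype.ext (by
      show f x * f y = f y * f x
      rw [← map_mul, ← map_mul]
      exact congrArg f (congrArg Subtype.val (hX.is_comm.comm ⟨x, hx⟩ ⟨y, hy⟩) :))⟩⟩ (by
    rintro _ ⟨x, hx, rfl⟩
    rw [← map_pow, hXp x hx, map_one])

theorem ri_subgroup (hR : RI G) (H : Subgroup G) : RI H := by
  haveI : Fact (Nat.Prime 2) := ⟨Nat.prime_two⟩
  intro P Q hPQ
  obtain ⟨S, hS⟩ := (P.isPGroup'.map H.subtype).exists_le_sylow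
  obtain ⟨T, hT⟩ := (Q.isPGroup'.map H.subtype).exists_le_sylow
  have hne : S ≠ T := fun e => hPQ <| by
    subst e
    have hp : IsPGroup 2 ((S : Subgroup G).comap H.subtype) := S.isPGroup'.comap_subtype
    exact Sylow.ext ((P.3 hp (map_le_iff_le_comap.1 hS)).symm.trans (Q.3 hp (map_le_iff_le_comap.1 hT)))
  exact pRankLE_congr ((H.subtype.comp ((P : Subgroup H) ⊓ (Q : Subgroup H)).subtype).codRestrict
      ((S : Subgroup G) ⊓ (T : Subgroup G)) fun x => ⟨hS ⟨x, x.2.1, rfl⟩, hT ⟨x, x.2.2, rfl⟩⟩)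
    (fun a b e => Subtype.ext (H.subtype_injective (congrArg Subtype.val e :))) (hR S T hne)

/-- A quotient by a normal subgroup of odd order inherits the hypothesis. -/
theorem ri_quotient (hR : RI G) (N : Subgroup G) [N.Normal] (hN : Odd (Nat.card N)) : RI (G ⧸ N) := by
  haveI : Fact (Nat.Prime 2) := ⟨Nat.prime_two⟩
  intro S T hST
  set I := (S : Subgroup (G ⧸ N)) ⊓ (T : Subgroup (G ⧸ N)) with hI
  set f := QuotientGroup.mk' N with hf
  have hfs : Function.Surjective f := QuotientGroup.mk'_surjective N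
  have hIp : IsPGroup 2 I := S.2.to_le inf_le_left
  obtain ⟨Q⟩ : Nonempty (Sylow 2 ↥(I.comap f)) := inferInstance
  let D := (Q : Subgroup ↥(I.comap f)).map (I.comap f).subtype
  let f' : ↥(I.comap f) →* ↥I := f.subgroupComap _
  have hs : Function.Surjective f' := MonoidHom.subgroupComap_surjective_of_surjective f _ hfs
  have hfull : (Q : Subgroup ↥(I.comap f)).map f' = ⊤ := ((Q.mapSurjective hs).3 (hIp.to_subgroup ⊤) le_top).symm
  have hDI : D.map f ≤ I := by
    rintro _ ⟨_, ⟨q, -, rfl⟩, rfl⟩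
    exact q.2
  obtain ⟨S₁, hS₁, hS₁'⟩ := S3305.exists_lift f hfs S D (Q.2.map _) (hDI.trans inf_le_left)
  obtain ⟨T₁, hT₁, hT₁'⟩ := S3305.exists_lift f hfs T D (Q.2.map _) (hDI.trans inf_le_right)
  have hne : S₁ ≠ T₁ := fun h => hST (Sylow.ext (by rw [← hS₁', ← hT₁', h]))
  have hDr : Cfsg.PRankLE 2 1 ↥D :=
    pRankLE_congr (Subgroup.inclusion (le_inf hS₁ hT₁)) (Subgroup.inclusion_injective _) (hR S₁ T₁ hne)
  have hbij : Function.Bijective (fun d : D => (⟨f d, hDI ⟨d, d.2, rfl⟩⟩ : I)) := by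
    constructor
    · intro a b e
      have e' : f a = f b := congrArg Subtype.val e
      obtain ⟨k, hk⟩ := (S₁.2.to_le hS₁) (a⁻¹ * b)
      have hk' : ((a⁻¹ * b : D) : G) ^ 2 ^ k = 1 := congrArg Subtype.val hk
      have hmem : ((a⁻¹ * b : D) : G) ∈ N := QuotientGroup.eq.1 e'
      have h1 : orderOf ((a⁻¹ * b : D) : G) ∣ Nat.card N := N.orderOf_dvd_natCard hmem
      have h2 := Nat.eq_one_of_dvd_coprimes (Nat.Coprime.pow_left k (Nat.coprime_two_left.2 hN))
        (orderOf_dvd_of_pow_eq_one hk') h1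
      exact inv_mul_eq_one.1 (Subtype.ext (orderOf_eq_one_iff.1 h2))
    · intro s
      obtain ⟨q, hq, hqs⟩ := (hfull.ge (mem_top s) : s ∈ (Q : Subgroup ↥(I.comap f)).map f')
      exact ⟨⟨q, q, hq, rfl⟩, Subtype.ext (congrArg Subtype.val hqs :)⟩
  let e : D ≃* I := MulEquiv.ofBijective
    (MonoidHom.mk' (fun d : D => (⟨f d, hDI ⟨d, d.2, rfl⟩⟩ : I)) fun a b => Subtype.ext (map_mul f _ _)) hbij
  exact pRankLE_congr e.symm.toMonoidHom e.symm.injective hDr

end RI

section Radical

/-- The solvable radical. -/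
theorem exists_radical (X : Type*) [Group X] [Finite X] : ∃ R : Subgroup X, R.Characteristic ∧
    Group.IsSolvable R ∧ ∀ K : Subgroup X, K.Normal → Group.IsSolvable K → K ≤ R := by
  obtain ⟨R, ⟨hR1, hR2⟩, hRm⟩ := (Set.toFinite {R : Subgroup X | R.Normal ∧ Group.IsSolvable R}).exists_maximal
    ⟨⊥, inferInstance, inferInstance⟩
  have hmax : ∀ K : Subgroup X, K.Normal → Group.IsSolvable K → K ≤ R := fun K hK hKs => by
    haveI := hR1; haveI := hR2; haveI := hKs; haveI := hK
    exact le_sup_right.trans (hRm ⟨inferInstance, MinNonCA.isSolvable_sup inferInstance inferInstance⟩ le_sup_left)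
  refine ⟨R, characteristic_iff_map_le.2 fun e => ?_, hR2, hmax⟩
  haveI := hR2
  exact hmax _ (Normal.map hR1 e.toMonoidHom e.surjective)
    (Group.isSolvable_of_surjective (f := e.toMonoidHom.subgroupMap R) (e.toMonoidHom.subgroupMap_surjective R))

theorem inv_subgroupOf_normal {H N : Subgroup G} (h : Inv H N) : (N.subgroupOf H).Normal :=
  ⟨fun x hx g => h g g.2 x hx⟩

/-- A solvable subgroup normal in a normal subgroup lies in the radical. -/
theorem le_radical {R H N : Subgroup G} [H.Normal] (hRmax : ∀ K : Subgroup G, K.Normal → Group.IsSolvable K → K ≤ R)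
    (hNH : N ≤ H) (hinv : Inv H N) (hs : Group.IsSolvable N) : N ≤ R := by
  obtain ⟨R', hc, hs', hmax⟩ := exists_radical ↥H
  haveI := hc
  haveI := hs'
  have h1 : N.subgroupOf H ≤ R' := hmax _ (inv_subgroupOf_normal hinv)
    (Group.isSolvable_of_isSolvable_injective (f := (subgroupOfEquivOfLe hNH).toMonoidHom)
      (subgroupOfEquivOfLe hNH).injective)
  have h2 : R'.map H.subtype ≤ R := hRmax _ inferInstance
    (Group.isSolvable_of_surjective (f := H.subtype.subgroupMap R') (H.subtype.subgroupMap_surjective R'))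
  exact fun x hx => h2 ⟨⟨x, hNH hx⟩, h1 hx, rfl⟩

/-- A Sylow subgroup meets a subgroup normal in a normal subgroup in a Sylow subgroup. -/
theorem sylow_inf (S : Sylow 2 G) {H N : Subgroup G} [H.Normal] (hNH : N ≤ H) (hinv : Inv H N) :
    ∃ P : Sylow 2 N, (P : Subgroup N) = (S : Subgroup G).subgroupOf N := by
  haveI : Fact (Nat.Prime 2) := ⟨Nat.prime_two⟩
  let P₀ : Sylow 2 H := (S.isPGroup'.comap_subtype (K := H)).toSylow (Grp.sylow_inf_normal_relIndex S H)
  haveI := inv_subgroupOf_normal hinv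
  have h1 : ¬ 2 ∣ (P₀ : Subgroup H).relIndex (N.subgroupOf H) := by
    have := Grp.sylow_inf_normal_relIndex P₀ (N.subgroupOf H)
    exact this
  rw [show (P₀ : Subgroup H) = (S : Subgroup G).comap H.subtype from rfl, relIndex_comap,
    map_subgroupOf_eq_of_le hNH] at h1
  exact ⟨(S.isPGroup'.comap_subtype (K := N)).toSylow h1, rfl⟩

end Radical

section Perfect

theorem commutator_top_of_perfect {L : Subgroup G} (hL : ⁅L, L⁆ = L) : commutator ↥L = ⊤ := by
  refine Subgroup.map_injective L.subtype_injective ?_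
  rw [commutator_def, map_commutator, ← MonoidHom.range_eq_map, Subgroup.range_subtype, hL]

/-- A perfect group has no non-trivial map to a solvable group. -/
theorem eq_one_of_perfect {L : Subgroup G} (hL : ⁅L, L⁆ = L) {A : Type v} [Group A] [Group.IsSolvable A]
    (f : ↥L →* A) (x : ↥L) : f x = 1 := by
  have hd : ∀ n, derivedSeries ↥L n = ⊤ := by
    intro n
    induction n with
    | zero => rfl
    | succ n ih =>
      rw [derivedSeries_succ, ih]
      exact (commutator_def ↥L).symm.trans (commutator_top_of_perfect hL)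
  obtain ⟨n, hn⟩ := Group.IsSolvable.solvable (G := A)
  have := map_derivedSeries_le_derivedSeries f n ⟨x, (hd n).ge (mem_top x), rfl⟩
  rwa [hn, mem_bot] at this

/-- A perfect group centralises what it centralises modulo a central subgroup. -/
theorem commute_of_central {L : Subgroup G} (hL : ⁅L, L⁆ = L) {n : G}
    (hz : ∀ l ∈ L, ⁅n, l⁆ ∈ L ∧ ∀ m ∈ L, Commute ⁅n, l⁆ m) {l : G} (hl : l ∈ L) : Commute n l := by
  let A : Subgroup ↥L := center ↥L
  haveI : Group.IsSolvable A := Group.isSolvable_of_comm fun a b => Subtype.ext (mem_center_iff.1 b.2 a)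
  let f : ↥L →* A := MonoidHom.mk' (fun m => ⟨⟨⁅n, (m : G)⁆, (hz m m.2).1⟩,
      mem_center_iff.2 fun y => Subtype.ext ((hz m m.2).2 y y.2).symm.eq⟩) fun a b => Subtype.ext (Subtype.ext (by
    show ⁅n, (a : G) * b⁆ = ⁅n, (a : G)⁆ * ⁅n, (b : G)⁆
    have e := ((hz b b.2).2 a a.2).eq
    calc ⁅n, (a : G) * b⁆ = ⁅n, (a : G)⁆ * (a * ⁅n, (b : G)⁆ * (a : G)⁻¹) := by
          simp only [commutatorElement_def]; group
      _ = ⁅n, (a : G)⁆ * ⁅n, (b : G)⁆ := by rw [← e, mul_inv_cancel_right]))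
  have h1 : ⁅n, l⁆ = 1 := congrArg (fun a : A => ((a : ↥L) : G)) (eq_one_of_perfect hL f ⟨l, hl⟩)
  exact commutatorElement_eq_one_iff_mul_comm.1 h1

theorem not_isSolvable_of_perfect {L : Subgroup G} (hL : ⁅L, L⁆ = L) (hne : L ≠ ⊥) : ¬ Group.IsSolvable L := by
  intro h
  haveI := h
  refine hne (eq_bot_iff.2 fun x hx => mem_bot.2 ?_)
  exact congrArg Subtype.val (eq_one_of_perfect hL (MonoidHom.id ↥L) ⟨x, hx⟩)

theorem inv_conj {H N : Subgroup G} (hN : Inv H N) {h : G} (hh : h ∈ H) {x : G} :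
    h * x * h⁻¹ ∈ N ↔ x ∈ N := by
  refine ⟨fun hx => ?_, hN h hh x⟩
  have := hN h⁻¹ (inv_mem hh) _ hx
  rwa [show h⁻¹ * (h * x * h⁻¹) * h⁻¹⁻¹ = x by group] at this

theorem inv_normal (N : Subgroup G) [hN : N.Normal] (H : Subgroup G) : Inv H N :=
  fun h _ x hx => hN.conj_mem x hx h

theorem normal_of_inv_top {N : Subgroup G} (h : Inv ⊤ N) : N.Normal :=
  ⟨fun x hx g => h g (mem_top g) x hx⟩

/-- Minimal non-solvable invariant subgroups exist and are perfect. -/
theorem exists_min {H C : Subgroup G} (hC : Inv H C) (hns : ¬ Group.IsSolvable C) :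
    ∃ L : Subgroup G, L ≤ C ∧ Inv H L ∧ ¬ Group.IsSolvable L ∧ ⁅L, L⁆ = L ∧
      ∀ M : Subgroup G, M ≤ L → Inv H M → ¬ Group.IsSolvable M → M = L := by
  obtain ⟨L, hLC, hLm⟩ := (Set.toFinite {M : Subgroup G | Inv H M ∧ ¬ Group.IsSolvable M}).exists_le_minimal
    (show C ∈ _ from ⟨hC, hns⟩)
  obtain ⟨⟨hLi, hLns⟩, hmin⟩ := hLm
  have hmin' : ∀ M : Subgroup G, M ≤ L → Inv H M → ¬ Group.IsSolvable M → M = L := fun M hM hi hs =>
    le_antisymm hM (hmin ⟨hi, hs⟩ hM)
  refine ⟨L, hLC, hLi, hLns, hmin' _ (commutator_le_self L) ?_ ?_, hmin'⟩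
  · intro h hh x hx
    have hmap : ⁅L, L⁆.map (MulAut.conj h).toMonoidHom ≤ ⁅L, L⁆ := by
      rw [map_commutator]
      have hle : L.map (MulAut.conj h).toMonoidHom ≤ L := by
        rintro _ ⟨y, hy, rfl⟩
        exact hLi h hh y hy
      exact commutator_mono hle hle
    exact hmap ⟨x, hx, rfl⟩
  · intro hs
    refine hLns ?_
    haveI : (⁅L, L⁆.subgroupOf L).Normal := by
      rw [show ⁅L, L⁆.subgroupOf L = commutator ↥L from ?_]
      · infer_instance
      refine Subgroup.map_injective L.subtype_injective ?_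
      rw [map_subgroupOf_eq_of_le (commutator_le_self L), commutator_def, map_commutator,
        ← MonoidHom.range_eq_map, Subgroup.range_subtype]
    refine (Group.isSolvable_iff_subgroup_quotient (⁅L, L⁆.subgroupOf L)).2 ⟨?_, ?_⟩
    · haveI := hs
      exact Group.isSolvable_of_isSolvable_injective
        (f := (subgroupOfEquivOfLe (commutator_le_self L)).toMonoidHom) (subgroupOfEquivOfLe _).injective
    · refine Group.isSolvable_of_comm fun a b => ?_
      obtain ⟨a, rfl⟩ := QuotientGroup.mk_surjective a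
      obtain ⟨b, rfl⟩ := QuotientGroup.mk_surjective b
      rw [← QuotientGroup.mk_mul, ← QuotientGroup.mk_mul]
      refine QuotientGroup.eq.2 (mem_subgroupOf.2 ?_)
      have h1 : ⁅((b : L) : G)⁻¹, ((a : L) : G)⁻¹⁆ ∈ ⁅L, L⁆ := commutator_mem_commutator (inv_mem b.2) (inv_mem a.2)
      simpa [commutatorElement_def, mul_assoc] using h1

end Perfect

end Cfsg.Agent.Invol.RankOneInter
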