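import Cfsg.Agent.Lib.Invol.RankOneInter.Basic
import Cfsg.Agent.Lib.Invol.CentRank.Cyclic.Main
import Cfsg.Agent.Lib.Invol.CentInt.Strong
import Cfsg.Agent.Lib.Invol.StronglyEmbeddedCount

/-!
# Involutions controlling a Sylow subgroup, and odd index

If an element keeping an involution of `S` inside `S` normalises `S`, the normaliser is strongly embedded.
A simple normal subgroup with torus data has odd index when its elements normalising `S ⊓ N` normalise `S`.
-/

set_option autoImplicit false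
set_option linter.style.haveILetI false
set_option linter.unusedSectionVars false

open Subgroup

namespace Cfsg.Agent.Invol.RankOneInter

universe u

/-- The first three families of the conclusion. -/
def Models (X : Type u) [Group X] : Prop :=
  (∃ (n : ℕ) (F : Type) (_ : Field F) (_ : Fintype F), 2 ≤ n ∧ Fintype.card F = 2 ^ n ∧
      Nonempty (X ≃* Matrix.ProjectiveSpecialLinearGroup (Fin 2) F)) ∨
  (∃ (m : ℕ) (F : Type) (_ : Field F) (_ : Fintype F), 1 ≤ m ∧ Fintype.card F = 2 ^ (2 * m + 1) ∧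
      Nonempty (X ≃* ↥(Cfsg.Lie.Sz F (2 ^ (m + 1))))) ∨
  (∃ (n : ℕ) (F : Type) (_ : Field F) (_ : Fintype F), 2 ≤ n ∧ Fintype.card F = 4 ^ n ∧
      Nonempty (X ≃* Cfsg.PSU 3 F (2 ^ n)))

theorem Models.congr {A B : Type u} [Group A] [Group B] (h : Models A) (e : A ≃* B) : Models B := by
  rcases h with ⟨n, F, i, j, hn, hF, ⟨f⟩⟩ | ⟨m, F, i, j, hn, hF, ⟨f⟩⟩ | ⟨n, F, i, j, hn, hF, ⟨f⟩⟩
  · exact Or.inl ⟨n, F, i, j, hn, hF, ⟨e.symm.trans f⟩⟩
  · exact Or.inr (Or.inl ⟨m, F, i, j, hn, hF, ⟨e.symm.trans f⟩⟩)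
  · exact Or.inr (Or.inr ⟨n, F, i, j, hn, hF, ⟨e.symm.trans f⟩⟩)

theorem Models.concl {X : Type u} [Group X] (h : Models X) : CentRank.Concl X := by
  rcases h with h | h | h
  · exact Or.inl h
  · exact Or.inr (Or.inl h)
  · exact Or.inr (Or.inr (Or.inl h))

/-- An element keeping an involution of `S` inside `S` normalises `S`. -/
def Ctl {X : Type*} [Group X] (S : Sylow 2 X) : Prop :=
  ∀ t ∈ (S : Subgroup X), orderOf t = 2 → ∀ g : X, g * t * g⁻¹ ∈ (S : Subgroup X) →
    g ∈ normalizer ((S : Subgroup X) : Set X)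

variable {X : Type u} [Group X] [Finite X] {S : Sylow 2 X}

theorem false_of_isolated [IsSimpleGroup X] (hna : ¬ IsMulCommutative X) {t : X}
    (h : Cfsg.IsIsolatedInvolution t) : False := by
  obtain ⟨N, hN, hodd, hcm⟩ := ZStar.exists_odd_normal h
  rcases hN.eq_bot_or_eq_top with e | e
  · have hzc : t ∈ center X := mem_center_iff.2 fun g => by
      have h1 := mem_bot.1 (e ▸ hcm g)
      calc g * t = (t * g * t⁻¹ * g⁻¹) * g * t := by rw [h1, one_mul]
        _ = t * g := by group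
    rcases (inferInstance : (center X).Normal).eq_bot_or_eq_top with ec | ec
    · exact ne_one_of_orderOf_two h.1 (mem_bot.1 (ec ▸ hzc))
    · exact hna ⟨⟨fun a b => mem_center_iff.1 (ec ▸ mem_top b) a⟩⟩
  · exact Nat.not_even_iff_odd.2 hodd (even_card_of_mem h.1 (e ▸ mem_top t))

theorem mem_sylow_of_normalizes (S : Sylow 2 X) {t : X} (ht : orderOf t = 2)
    (hn : t ∈ normalizer ((S : Subgroup X) : Set X)) : t ∈ (S : Subgroup X) :=
  CentInt.two_elem_mem_sylow (n := 1) (by simpa using ht) hn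

theorem spEmbedded (h : Ctl S) (heven : 2 ∣ Nat.card X) (hne : normalizer ((S : Subgroup X) : Set X) ≠ ⊤) :
    Cfsg.IsStronglyPEmbedded 2 (normalizer ((S : Subgroup X) : Set X)) := by
  haveI : Fact (Nat.Prime 2) := ⟨Nat.prime_two⟩
  refine isStronglyPEmbedded_iff.2 ⟨(S.dvd_card_of_dvd_card heven).trans (card_dvd_of_le le_normalizer), hne,
    fun g hg hd => hg ?_⟩
  obtain ⟨t, htI, ht⟩ := exists_orderOf_prime_mem hd
  obtain ⟨htN, htg⟩ := mem_inf.1 htI
  rw [mem_map_conj] at htg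
  have ht' : orderOf (g⁻¹ * t * g) = 2 := by
    have := orderOf_conj_eq g⁻¹ t
    rwa [inv_inv, ht] at this
  have h1 := mem_sylow_of_normalizes S ht htN
  have h2 := mem_sylow_of_normalizes S ht' htg
  simpa using inv_mem (h t h1 ht g⁻¹ (by rwa [inv_inv]))

theorem stronglyEmbedded (h : Ctl S) (heven : 2 ∣ Nat.card X)
    (hne : normalizer ((S : Subgroup X) : Set X) ≠ ⊤) :
    Cfsg.IsStronglyEmbedded (normalizer ((S : Subgroup X) : Set X)) := by
  haveI : Fact (Nat.Prime 2) := ⟨Nat.prime_two⟩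
  obtain ⟨h1, h2, h3⟩ := isStronglyPEmbedded_iff.1 (spEmbedded h heven hne)
  exact ⟨h2, even_iff_two_dvd.2 h1, fun g hg =>
    Nat.not_even_iff_odd.1 fun he => h3 g hg (even_iff_two_dvd.1 he)⟩

theorem isConj_of_ctl (h : Ctl S) (hne : normalizer ((S : Subgroup X) : Set X) ≠ ⊤) {a b : X}
    (ha : orderOf a = 2) (hb : orderOf b = 2) : IsConj a b :=
  isConj_involutions (stronglyEmbedded h (ha ▸ orderOf_dvd_natCard a) hne) ha hb

theorem fourUnique_of_ctl (h : Ctl S) : CentRank.FourUnique X := by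
  haveI : Fact (Nat.Prime 2) := ⟨Nat.prime_two⟩
  intro P T z u hz _ _ _ hzP _ hzT _
  obtain ⟨g, rfl⟩ := MulAction.exists_smul_eq X S P
  obtain ⟨k, rfl⟩ := MulAction.exists_smul_eq X S T
  rw [CentRank.mem_smul_sylow] at hzP hzT
  have hn := h _ hzP (by
    have := orderOf_conj_eq g⁻¹ z
    rwa [inv_inv, hz.1] at this) (k⁻¹ * g) (by
    rwa [show k⁻¹ * g * (g⁻¹ * z * g) * (k⁻¹ * g)⁻¹ = k⁻¹ * z * k by group])
  have e : (k⁻¹ * g) • S = S := Sylow.smul_eq_iff_mem_normalizer.2 hn
  conv_rhs => rw [← e, ← mul_smul, mul_inv_cancel_left]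

/-- Without a normal 2-subgroup, without an odd normal subgroup and generated by 2-elements: a Bender group. -/
theorem isBenderGrp_of_ctl (h : Ctl S) (heven : 2 ∣ Nat.card X) (hO2 : Cfsg.pCore 2 X = ⊥)
    (hO : Cfsg.pPrimeCore 2 X = ⊥) (hgen : Cfsg.pElementClosure 2 (⊤ : Subgroup X) = ⊤) :
    CentInt.IsBenderGrp X := by
  haveI : Fact (Nat.Prime 2) := ⟨Nat.prime_two⟩
  have hS1 : (S : Subgroup X) ≠ ⊥ := S.ne_bot_of_dvd_card heven
  have hne : normalizer ((S : Subgroup X) : Set X) ≠ ⊤ := fun e => hS1 <| le_bot_iff.1 (hO2 ▸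
    Grp.le_pCore (normalizer_eq_top_iff.1 e) S.isPGroup')
  haveI : (Cfsg.pPrimeCore 2 X).Normal := Grp.pPrimeCore_isNormal
  rcases S2798.result _ (spEmbedded h heven hne) with hr | hr
  · obtain ⟨t, ht⟩ := exists_prime_orderOf_dvd_card' (G := X) 2 heven
    have h1 := (hr t ht).1
    rw [hO, bot_sup_eq] at h1
    have hnorm : (zpowers t).Normal := ⟨fun x hx g => by
      obtain ⟨k, rfl⟩ := mem_zpowers_iff.1 hx
      have : Commute g t := mem_centralizer_singleton_iff.1 (h1 ▸ mem_top g)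
      rw [(this.zpow_right k).eq, mul_inv_cancel_right]
      exact zpow_mem (mem_zpowers t) k⟩
    have := (Grp.le_pCore hnorm (isPGroup_zpowers (p := 2) (n := 1) (by simpa using ht))).trans hO2.le
    rw [le_bot_iff, zpowers_eq_bot] at this
    exact absurd this (ne_one_of_orderOf_two ht)
  · let π : X →* X ⧸ Cfsg.pPrimeCore 2 X := QuotientGroup.mk' _
    have hbij : Function.Bijective π :=
      ⟨(MonoidHom.ker_eq_bot_iff π).1 (by rw [QuotientGroup.ker_mk', hO]), QuotientGroup.mk'_surjective _⟩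
    have htop := CentInt.pElementClosure_map_top hgen π hbij.2
    let e : ↥(Cfsg.pElementClosure 2 (⊤ : Subgroup (X ⧸ Cfsg.pPrimeCore 2 X))) ≃* X :=
      ((MulEquiv.subgroupCongr htop).trans Subgroup.topEquiv).trans (MulEquiv.ofBijective π hbij).symm
    exact CentInt.IsBenderGrp.congr hr e

theorem models_of_ctl [IsSimpleGroup X] (hna : ¬ IsMulCommutative X) (h : Ctl S) (heven : 2 ∣ Nat.card X) :
    Models X := by
  haveI : Fact (Nat.Prime 2) := ⟨Nat.prime_two⟩
  have hne : normalizer ((S : Subgroup X) : Set X) ≠ ⊤ := fun e => by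
    rcases (normalizer_eq_top_iff.1 e).eq_bot_or_eq_top with e' | e'
    · exact S.ne_bot_of_dvd_card heven e'
    · haveI : Group.IsNilpotent X :=
        (S.isPGroup'.of_equiv ((MulEquiv.subgroupCongr e').trans topEquiv)).isNilpotent
      exact hna ⟨⟨IsSimpleGroup.comm_iff_isSolvable.2 inferInstance⟩⟩
  have hsp := spEmbedded h heven hne
  rcases (CoreConsumers.simple_borel hna heven (S2798.result _ hsp)).1 with
    ⟨F, i1, i2, n, hn2, hq, he⟩ | ⟨F, i1, i2, m, hm, hq, he⟩ | ⟨F, i1, i2, n, hn2, hq, he⟩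
  · exact Or.inl ⟨n, F, i1, i2, hn2, hq, he⟩
  · exact Or.inr (Or.inl ⟨m, F, i1, i2, hm, hq, he⟩)
  · refine Or.inr (Or.inr ⟨n, F, i1, i2, hn2, ?_, he⟩)
    rw [hq, ← pow_mul, mul_comm, pow_mul]
    norm_num

theorem index_dvd_card_out (N : Subgroup X) [N.Normal] (hC : centralizer (N : Set X) = ⊥) :
    N.index ∣ Nat.card (Cfsg.Out N) := by
  let φ : X →* Cfsg.Out N := (QuotientGroup.mk' (Cfsg.Inn N)).comp MulAut.conjNormal
  have hker : φ.ker = N := by
    ext x
    rw [MonoidHom.mem_ker, MonoidHom.comp_apply, QuotientGroup.mk'_apply, QuotientGroup.eq_one_iff]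
    constructor
    · rintro ⟨n, hn⟩
      have h1 : (n : X)⁻¹ * x ∈ centralizer (N : Set X) := by
        refine mem_centralizer_iff.2 fun y hy => ?_
        have e := congrArg Subtype.val (DFunLike.congr_fun hn ⟨y, hy⟩)
        rw [MulAut.conjNormal_apply] at e
        have e' : (n : X) * y * (n : X)⁻¹ = x * y * x⁻¹ := by simpa using e
        calc y * ((n : X)⁻¹ * x) = (n : X)⁻¹ * ((n : X) * y * (n : X)⁻¹) * x := by group
          _ = (n : X)⁻¹ * (x * y * x⁻¹) * x := by rw [e']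
          _ = (n : X)⁻¹ * x * y := by group
      rw [hC, mem_bot, inv_mul_eq_one] at h1
      exact h1 ▸ n.2
    · intro hx
      exact ⟨⟨x, hx⟩, MulEquiv.ext fun y => Subtype.ext (by simp [MulAut.conjNormal_apply])⟩
  exact (congrArg Subgroup.index hker.symm).trans (Subgroup.index_ker φ) ▸ Subgroup.card_subgroup_dvd_card _

theorem odd_index_of_torus (N : Subgroup X) [N.Normal] [IsSimpleGroup N] (hns : ¬ Group.IsSolvable N)
    (hC : centralizer (N : Set X) = ⊥)
    (hT : ∀ P : Sylow 2 N, CentRank.Cyc.TorusData (P : Subgroup N)) (S : Sylow 2 X)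
    (hN : ∀ x ∈ N, (∀ a ∈ (S : Subgroup X) ⊓ N, x * a * x⁻¹ ∈ (S : Subgroup X) ⊓ N) →
      x ∈ normalizer ((S : Subgroup X) : Set X)) : Odd N.index := by
  haveI : Fact (Nat.Prime 2) := ⟨Nat.prime_two⟩
  by_contra hodd
  rw [Nat.not_odd_iff_even] at hodd
  obtain ⟨s, hs, hsN⟩ : ∃ s ∈ (S : Subgroup X), s ∉ N := by
    by_contra hcon
    push Not at hcon
    exact S.not_dvd_index ((even_iff_two_dvd.1 hodd).trans (index_dvd_of_le hcon))
  -- an element of `S` of order two modulo `N`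
  obtain ⟨t, ht, htN, htt⟩ : ∃ t ∈ (S : Subgroup X), t ∉ N ∧ t * t ∈ N := by
    obtain ⟨k, hk⟩ := S.isPGroup' ⟨s, hs⟩
    have hk' : s ^ 2 ^ k = 1 := congrArg Subtype.val hk
    have hex : ∃ i, s ^ 2 ^ i ∈ N := ⟨k, by rw [hk']; exact one_mem N⟩
    classical
    obtain ⟨i, hi⟩ : ∃ i, Nat.find hex = i + 1 := ⟨Nat.find hex - 1, by
      have : Nat.find hex ≠ 0 := fun e => hsN (by simpa [e] using Nat.find_spec hex)
      omega⟩
    refine ⟨s ^ 2 ^ i, pow_mem hs _, Nat.find_min hex (by omega), ?_⟩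
    rw [← pow_add, ← two_mul, ← pow_succ', ← hi]
    exact Nat.find_spec hex
  set Y := N ⊔ zpowers t with hY
  have hNY : N ≤ Y := le_sup_left
  have htY : t ∈ Y := mem_sup_right (mem_zpowers t)
  have hidx : (N.subgroupOf Y).index = 2 := by
    refine Subgroup.index_eq_two_iff.2 ⟨⟨t, htY⟩, fun b => ?_⟩
    obtain ⟨n, hn, z, hz, e⟩ := mem_sup_of_normal_left.1 b.2
    obtain ⟨j, rfl⟩ := mem_zpowers_iff.1 hz
    have key : ((b : Y) : X) ∈ N ↔ Even j := by
      rw [← e, Subgroup.mul_mem_cancel_left N hn]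
      rcases Int.even_or_odd j with ⟨i, rfl⟩ | ⟨i, rfl⟩
      · refine iff_of_true ?_ ⟨i, rfl⟩
        rw [← two_mul, zpow_mul, zpow_two]
        exact zpow_mem htt i
      · refine iff_of_false (fun h => htN ?_) (by simp [parity_simps])
        rw [zpow_add, zpow_mul, zpow_two, zpow_one] at h
        exact (Subgroup.mul_mem_cancel_left N (zpow_mem htt i)).1 h
    have key' : ((b : Y) : X) * t ∈ N ↔ ¬ Even j := by
      rw [← e, mul_assoc, Subgroup.mul_mem_cancel_left N hn, ← zpow_add_one]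
      rcases Int.even_or_odd j with ⟨i, rfl⟩ | ⟨i, rfl⟩
      · refine iff_of_false (fun h => htN ?_) (by simp)
        rw [zpow_add, ← two_mul, zpow_mul, zpow_two, zpow_one] at h
        exact (Subgroup.mul_mem_cancel_left N (zpow_mem htt i)).1 h
      · refine iff_of_true ?_ (by simp [parity_simps])
        rw [show 2 * i + 1 + 1 = 2 * (i + 1) by ring, zpow_mul, zpow_two]
        exact zpow_mem htt _
    simp only [xor_def, mem_subgroupOf, Subgroup.coe_mul, key, key']
    tauto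
  haveI : (N.subgroupOf Y).Normal := inferInstance
  let e : ↥(N.subgroupOf Y) ≃* ↥N := subgroupOfEquivOfLe hNY
  haveI : IsSimpleGroup ↥(N.subgroupOf Y) := e.isSimpleGroup
  have hC' : centralizer ((N.subgroupOf Y : Subgroup Y) : Set Y) = ⊥ := by
    rw [eq_bot_iff]
    intro x hx
    have h1 : (x : X) ∈ centralizer (N : Set X) := mem_centralizer_iff.2 fun y hy =>
      congrArg Subtype.val (mem_centralizer_iff.1 hx ⟨y, hNY hy⟩ hy)
    rw [hC, mem_bot] at h1
    exact mem_bot.2 (Subtype.ext h1)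
  -- the trace of `S` on `Y`
  have hrel : ¬ 2 ∣ (S : Subgroup X).relIndex Y := by
    intro hd
    set A := (S : Subgroup X) ⊓ Y with hA
    have hNA : N.relIndex A = 2 := by
      have h1 : N.relIndex A ≤ N.relIndex Y :=
        Subgroup.relIndex_le_of_le_right inf_le_right Subgroup.index_ne_zero_of_finite
      have h2 : N.relIndex A ≠ 1 := fun e => htN (relIndex_eq_one.1 e ⟨ht, htY⟩)
      have h3 : N.relIndex A ≠ 0 := Subgroup.index_ne_zero_of_finite
      have h4 : N.relIndex Y = 2 := hidx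
      omega
    have h1 : (N ⊓ A).relIndex N * N.relIndex Y = (N ⊓ A).relIndex Y :=
      relIndex_mul_relIndex _ _ _ inf_le_left hNY
    have h2 : (N ⊓ A).relIndex A * A.relIndex Y = (N ⊓ A).relIndex Y :=
      relIndex_mul_relIndex _ _ _ inf_le_right inf_le_right
    rw [inf_relIndex_right, hNA, show A.relIndex Y = (S : Subgroup X).relIndex Y from inf_relIndex_right _ _,
      ← h1, show N.relIndex Y = 2 from hidx, mul_comm (2 : ℕ)] at h2
    have h3 : (N ⊓ A).relIndex N = ((S : Subgroup X) ⊓ N).relIndex N := by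
      congr 1
      exact le_antisymm (le_inf (inf_le_right.trans inf_le_left) inf_le_left)
        (le_inf inf_le_right (le_inf inf_le_left (inf_le_right.trans hNY)))
    refine Grp.sylow_inf_normal_relIndex S N ?_
    rw [← inf_relIndex_right, ← h3, ← Nat.eq_of_mul_eq_mul_right two_pos h2]
    exact hd
  let SY : Sylow 2 Y := (S.isPGroup'.comap_subtype (K := Y)).toSylow hrel
  refine CentRank.Cyc.false_of_torus_at (N.subgroupOf Y) hidx hC' inferInstance
    (fun h => hns (Group.isSolvable_of_surjective (f := e.toMonoidHom) e.surjective)) (fun P' => ?_) SY ?_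
  · obtain ⟨ψ, hψ⟩ := CentRank.exists_iso_sylow e.symm (default : Sylow 2 N) P'
    exact hψ ▸ (hT default).map ψ
  · intro x hx hxS
    have hxn : (x : X) ∈ normalizer ((S : Subgroup X) : Set X) := hN _ hx fun a ha => by
      have h1 := hxS (⟨a, hNY ha.2⟩ : Y) ⟨ha.1, ha.2⟩
      exact ⟨h1, Normal.conj_mem inferInstance a ha.2 _⟩
    rw [mem_normalizer_iff] at hxn ⊢
    exact fun y => hxn y

end Cfsg.Agent.Invol.RankOneInter
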