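import Cfsg.Agent.Lib.Invol.RankOneInter.Basic
import Cfsg.Agent.Lib.Invol.Core2.TwistRankOne
import Cfsg.Agent.Lib.Invol.RealizeModelQuat
import Cfsg.Agent.Lib.Grp.TwoSymFour.Known

/-!
# 2-subgroups with one involution

A perfect group normalising such a subgroup centralises it; a non-commutative one is quaternion.
-/

set_option autoImplicit false
set_option linter.style.haveILetI false
set_option linter.unusedSectionVars false

open Subgroup
open scoped commutatorElement

namespace Cfsg.Agent.Invol.RankOneInter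

universe u

variable {G : Type u} [Group G] [Finite G]

/-- `u` is the one involution of the 2-subgroup `Q`. -/
structure OneInvOn (Q : Subgroup G) (u : G) : Prop where
  pgroup : IsPGroup 2 Q
  two : orderOf u = 2
  mem : u ∈ Q
  uniq : ∀ x ∈ Q, x * x = 1 → x = 1 ∨ x = u

theorem OneInvOn.oneInv {Q : Subgroup G} {u : G} (h : OneInvOn Q u) :
    Core2.RankOneTwo.OneInv Q (⟨u, h.mem⟩ : Q) where
  pgroup := h.pgroup
  two := by rw [Subgroup.orderOf_mk, h.two]
  uniq x hx := (h.uniq x x.2 (congrArg Subtype.val hx)).imp (fun e => Subtype.ext e) fun e => Subtype.ext e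

/-- The squares lie in an invariant cyclic subgroup of index at most four. -/
theorem OneInvOn.exists_squares {Q : Subgroup G} {u : G} (h : OneInvOn Q u) :
    ∃ s : Q, (∃ g : Q, g * g = s) ∧ (∀ x : Q, x * x ∈ zpowers s) ∧ (zpowers s).index ≤ 4 := by
  haveI : Fact (Nat.Prime 2) := ⟨Nat.prime_two⟩
  rcases h.oneInv.shape with hc | ⟨a, ha4, hidx, hinv⟩
  · haveI := hc
    obtain ⟨g, hg⟩ := IsCyclic.exists_generator (α := Q)
    refine ⟨g * g, ⟨g, rfl⟩, fun x => ?_, ?_⟩
    · obtain ⟨i, rfl⟩ := mem_zpowers_iff.1 (hg x)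
      exact mem_zpowers_iff.2 ⟨i, (Commute.refl g).mul_zpow i⟩
    · have h1 : Nat.card (zpowers (g * g)) * (zpowers (g * g)).index = Nat.card Q := card_mul_index _
      rw [Nat.card_zpowers, show g * g = g ^ 2 from (pow_two g).symm, orderOf_pow' _ two_ne_zero,
        orderOf_eq_card_of_forall_mem_zpowers hg] at h1
      rw [pow_two] at h1
      have hpos : 0 < Nat.card Q := Nat.card_pos
      rcases Nat.eq_zero_or_pos ((zpowers (g * g)).index) with h0 | h0
      · omega
      have hg2 : Nat.gcd (Nat.card Q) 2 ∣ 2 := Nat.gcd_dvd_right _ _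
      have hdvd : Nat.gcd (Nat.card Q) 2 ∣ Nat.card Q := Nat.gcd_dvd_left _ _
      obtain ⟨c, hc⟩ := hdvd
      have hg0 : 0 < Nat.gcd (Nat.card Q) 2 := Nat.pos_of_dvd_of_pos hg2 two_pos
      have hq : Nat.card Q / Nat.gcd (Nat.card Q) 2 = c := Nat.div_eq_of_eq_mul_right hg0 hc
      rw [hq] at h1
      have hc0 : 0 < c := by
        rcases Nat.eq_zero_or_pos c with e | e
        · rw [e] at hc; simp only [mul_zero] at hc; omega
        · exact e
      have : (zpowers (g * g)).index = Nat.gcd (Nat.card Q) 2 :=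
        Nat.eq_of_mul_eq_mul_left hc0 (h1.trans (hc.trans (mul_comm _ _)))
      have := Nat.le_of_dvd two_pos hg2
      omega
  · refine ⟨a * a, ⟨a, rfl⟩, fun x => ?_, ?_⟩
    · by_cases hx : x ∈ zpowers a
      · obtain ⟨i, rfl⟩ := mem_zpowers_iff.1 hx
        exact mem_zpowers_iff.2 ⟨i, (Commute.refl a).mul_zpow i⟩
      · rw [(hinv x hx).2]
        obtain ⟨k, hk⟩ := ha4
        have hk0 : 0 < k := by have := orderOf_pos a; omega
        have ho : orderOf ((a * a) ^ k) = 2 := by
          rw [← pow_two, ← pow_mul, orderOf_pow' a (by omega), hk, Nat.gcd_eq_right ⟨2, by ring⟩,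
            show 4 * k = 2 * (2 * k) by ring, Nat.mul_div_cancel _ (by omega)]
        rw [← (h.oneInv.uniq _ (mul_self_of_orderOf_two ho)).resolve_left (ne_one_of_orderOf_two ho)]
        exact npow_mem_zpowers _ k
    · have h1 : Nat.card (zpowers (a * a)) * (zpowers (a * a)).index = Nat.card Q := card_mul_index _
      have h2 : Nat.card (zpowers a) * (zpowers a).index = Nat.card Q := card_mul_index _
      obtain ⟨k, hk⟩ := ha4
      have hk0 : 0 < k := by have := orderOf_pos a; omega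
      have haa : orderOf (a * a) = 2 * k := by
        rw [← pow_two, orderOf_pow' a two_ne_zero, hk, Nat.gcd_eq_right ⟨2 * k, by ring⟩]
        omega
      rw [Nat.card_zpowers, haa] at h1
      rw [Nat.card_zpowers, hidx, hk, ← h1] at h2
      exact le_of_eq (Nat.eq_of_mul_eq_mul_left (show 0 < 2 * k by omega) (h2.symm.trans (by ring)))

/-- A perfect group normalising a 2-group with one involution centralises it. -/
theorem OneInvOn.perfect_centralizes {Q : Subgroup G} {u : G} (h : OneInvOn Q u) {L : Subgroup G}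
    (hL : ⁅L, L⁆ = L) (hinv : Inv L Q) {l q : G} (hl : l ∈ L) (hq : q ∈ Q) : Commute l q := by
  classical
  obtain ⟨s, ⟨g₀, hg₀⟩, hsq, hidx⟩ := h.exists_squares
  let N : Subgroup Q := zpowers s
  let φ : ↥L →* MulAut Q := MonoidHom.mk' (fun m =>
    { toFun := fun x => ⟨(m : G) * x * (m : G)⁻¹, hinv m m.2 x x.2⟩
      invFun := fun x => ⟨(m : G)⁻¹ * x * (m : G), by simpa using hinv (m : G)⁻¹ (inv_mem m.2) x x.2⟩
      left_inv := fun x => Subtype.ext (by simp [mul_assoc])
      right_inv := fun x => Subtype.ext (by simp [mul_assoc])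
      map_mul' := fun x y => Subtype.ext (by simp [mul_assoc]) })
    fun a b => MulEquiv.ext fun x => Subtype.ext (by simp [mul_assoc])
  have hN : ∀ (m : L) (x : Q), x ∈ N → φ m x ∈ N := fun m x hx => by
    obtain ⟨i, rfl⟩ := mem_zpowers_iff.1 hx
    rw [map_zpow]
    refine zpow_mem ?_ i
    rw [← hg₀, map_mul]
    exact hsq _
  have hsm : ∀ m : L, φ m s = s := by
    let ψ : ↥L →* MulAut ↥N := MonoidHom.mk' (fun m =>
      { toFun := fun x => ⟨φ m (x : Q), hN m x x.2⟩
        invFun := fun x => ⟨φ m⁻¹ (x : Q), hN m⁻¹ x x.2⟩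
        left_inv := fun x => Subtype.ext (show φ m⁻¹ (φ m (x : Q)) = x by rw [← MulAut.mul_apply, ← map_mul, inv_mul_cancel, map_one]; rfl)
        right_inv := fun x => Subtype.ext (show φ m (φ m⁻¹ (x : Q)) = x by rw [← MulAut.mul_apply, ← map_mul, mul_inv_cancel, map_one]; rfl)
        map_mul' := fun x y => Subtype.ext (map_mul (φ m) (x : Q) (y : Q)) })
      fun a b => MulEquiv.ext fun x => Subtype.ext (show φ (a * b) (x : Q) = φ a (φ b (x : Q)) by rw [map_mul]; rfl)
    haveI : IsCyclic ↥N := inferInstance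
    haveI : Group.IsSolvable (MulAut ↥N) := Group.isSolvable_of_comm fun a b =>
      (IsCyclic.mulAutMulEquiv ↥N).injective (by rw [map_mul, map_mul, mul_comm])
    intro m
    exact congrArg Subtype.val (MulEquiv.congr_fun (eq_one_of_perfect hL ψ m) ⟨s, mem_zpowers s⟩)
  have hfix : ∀ (m : L) (x : Q), x ∈ N → φ m x = x := fun m x hx => by
    obtain ⟨i, rfl⟩ := mem_zpowers_iff.1 hx
    rw [map_zpow, hsm]
  -- the action on the cosets
  let act : ↥L →* Equiv.Perm (Q ⧸ N) := MonoidHom.mk' (fun m =>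
    { toFun := Quotient.map' (φ m) fun x y e => by
        rw [QuotientGroup.leftRel_apply] at e ⊢
        rw [← map_inv, ← map_mul]
        exact hN m _ e
      invFun := Quotient.map' (φ m⁻¹) fun x y e => by
        rw [QuotientGroup.leftRel_apply] at e ⊢
        rw [← map_inv, ← map_mul]
        exact hN m⁻¹ _ e
      left_inv := fun x => by
        obtain ⟨x, rfl⟩ := QuotientGroup.mk_surjective x
        show ((φ m⁻¹ (φ m x) : Q) : Q ⧸ N) = x
        rw [← MulAut.mul_apply, ← map_mul, inv_mul_cancel, map_one]; rfl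
      right_inv := fun x => by
        obtain ⟨x, rfl⟩ := QuotientGroup.mk_surjective x
        show ((φ m (φ m⁻¹ x) : Q) : Q ⧸ N) = x
        rw [← MulAut.mul_apply, ← map_mul, mul_inv_cancel, map_one]; rfl })
    fun a b => Equiv.ext fun x => by
      obtain ⟨x, rfl⟩ := QuotientGroup.mk_surjective x
      show ((φ (a * b) x : Q) : Q ⧸ N) = ((φ a (φ b x) : Q) : Q ⧸ N)
      rw [map_mul]; rfl
  haveI : Group.IsSolvable (Equiv.Perm (Q ⧸ N)) := by
    haveI := Grp.TwoSymFour.isSolvable_perm_four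
    haveI : Fintype (Q ⧸ N) := Fintype.ofFinite _
    have hle : Fintype.card (Q ⧸ N) ≤ 4 := by rw [← Nat.card_eq_fintype_card]; exact hidx
    obtain ⟨ι⟩ : Nonempty ((Q ⧸ N) ↪ Fin 4) := Function.Embedding.nonempty_of_card_le (by simpa using hle)
    exact Group.isSolvable_of_isSolvable_injective
      (f := (Equiv.Perm.viaEmbeddingHom ι)) (Equiv.Perm.viaEmbeddingHom_injective ι)
  have hcos : ∀ (m : L) (x : Q), x⁻¹ * φ m x ∈ N := fun m x => by
    have e : ((φ m x : Q) : Q ⧸ N) = x := Equiv.congr_fun (eq_one_of_perfect hL act m) (x : Q ⧸ N)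
    exact QuotientGroup.eq.1 e.symm
  -- the derivation is a homomorphism
  intros
  let x : Q := ⟨q, hq⟩
  haveI : Group.IsSolvable N := inferInstance
  let δ : ↥L →* ↥N := MonoidHom.mk' (fun m => ⟨x⁻¹ * φ m x, hcos m x⟩) fun a b => Subtype.ext (by
    show x⁻¹ * φ (a * b) x = (x⁻¹ * φ a x) * (x⁻¹ * φ b x)
    have e : φ (a * b) x = φ a x * (x⁻¹ * φ b x) := by
      rw [map_mul, MulAut.mul_apply]
      conv_lhs => rw [show φ b x = x * (x⁻¹ * φ b x) by group, map_mul, hfix a _ (hcos b x)]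
    rw [e, mul_assoc])
  have e : x⁻¹ * φ ⟨l, hl⟩ x = 1 := congrArg Subtype.val (eq_one_of_perfect hL δ ⟨l, hl⟩)
  have e' : l * q * l⁻¹ = q := congrArg Subtype.val (inv_mul_eq_one.1 e).symm
  exact mul_inv_eq_iff_eq_mul.1 e'

/-- A non-commutative 2-group with one involution is quaternion. -/
theorem quaternion_of_oneInv {R : Type*} [Group R] [Finite R] {u : R} (h : Core2.RankOneTwo.OneInv R u)
    (hn : ¬ ∀ x y : R, Commute x y) : ∃ n : ℕ, Nonempty (R ≃* QuaternionGroup (2 ^ (n + 1))) := by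
  haveI : Fact (Nat.Prime 2) := ⟨Nat.prime_two⟩
  obtain ⟨a, ha4, hidx, hinv⟩ := h.shape_of_noncomm hn
  obtain ⟨k, hk⟩ := IsPGroup.iff_orderOf.1 h.pgroup a
  obtain ⟨n, rfl⟩ : ∃ n, k = n + 2 := by
    have := Nat.le_of_dvd (by rw [hk]; positivity) ha4
    rw [hk] at this
    rcases k with _ | _ | k <;> [norm_num at this; norm_num at this; exact ⟨k, rfl⟩]
  obtain ⟨x, hx⟩ : ∃ x, x ∉ zpowers a := by
    by_contra hall
    push Not at hall
    rw [show zpowers a = ⊤ from eq_top_iff.2 fun x _ => hall x, index_top] at hidx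
    omega
  have hm : a ^ (2 ^ (n + 1)) = u := by
    have ho : orderOf (a ^ (2 ^ (n + 1))) = 2 := by
      rw [orderOf_pow' a (by positivity), hk, Nat.gcd_eq_right (pow_dvd_pow 2 (by omega)),
        pow_succ 2 (n + 1), Nat.mul_div_cancel_left _ (by positivity)]
    exact (h.uniq _ (mul_self_of_orderOf_two ho)).resolve_left (ne_one_of_orderOf_two ho)
  haveI : NeZero (2 ^ (n + 1)) := ⟨by positivity⟩
  obtain ⟨φ, hφ, -⟩ := TwoModel.quatHom (n := 2 ^ (n + 1)) (Nat.le_self_pow (by omega) 2)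
    (by rw [hk]; ring) (hinv x hx).1 ((hinv x hx).2.trans hm.symm)
  refine ⟨n, ⟨(MulEquiv.ofBijective φ (hφ.bijective_of_nat_card_le (le_of_eq ?_))).symm⟩⟩
  rw [TwoModel.card_quat, ← (zpowers a).card_mul_index, Nat.card_zpowers, hk, hidx]
  ring

end Cfsg.Agent.Invol.RankOneInter
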