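import Cfsg.Agent.Lib.Invol.RankOneInter.Bender
import Cfsg.Agent.Lib.Invol.RankOneInter.Root
import Cfsg.Agent.Lib.Invol.CentRank.Main
import Cfsg.Agent.Lib.Invol.G1Local.Holds

/-!
# With trivial `O₂(G)` and `O(G)` the intersections are cyclic

The socle is simple of odd index, and its Sylow 2-subgroups are abelian or have strongly embedded normaliser.
-/

set_option autoImplicit false
set_option linter.style.haveILetI false
set_option linter.unusedSectionVars false

open Subgroup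
open scoped commutatorElement

namespace Cfsg.Agent.Invol.RankOneInter

universe u

variable {G : Type u} [Group G] [Finite G]

theorem exists_two_commuting (hrad : ∀ N : Subgroup G, N.Normal → Group.IsSolvable N → N = ⊥) {H M : Subgroup G}
    [H.Normal] (hMH : M ≤ H) (hinv : Inv H M) (hns : ¬ Group.IsSolvable M) :
    ∃ a ∈ M, ∃ b ∈ M, orderOf a = 2 ∧ orderOf b = 2 ∧ a ≠ b ∧ Commute a b := by
  haveI : Fact (Nat.Prime 2) := ⟨Nat.prime_two⟩
  -- solvable normal subgroups of `M` are trivial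
  have hMrad : ∀ N : Subgroup M, N.Normal → Group.IsSolvable N → N = ⊥ := by
    intro N hN hNs
    obtain ⟨R', hc, hs', hmax⟩ := exists_radical ↥M
    haveI := hc
    haveI := hs'
    have h2 : R'.map M.subtype ≤ (⊥ : Subgroup G) := by
      refine le_radical (H := H) (fun K hK hKs => (hrad K hK hKs).le) ((map_subtype_le _).trans hMH) ?_
        (Group.isSolvable_of_surjective (f := M.subtype.subgroupMap R') (M.subtype.subgroupMap_surjective R'))
      rintro h hh _ ⟨x, hx, rfl⟩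
      let e : ↥M ≃* ↥M :=
        { toFun := fun y => ⟨h * y * h⁻¹, hinv h hh y y.2⟩
          invFun := fun y => ⟨h⁻¹ * y * h, by simpa using hinv h⁻¹ (inv_mem hh) y y.2⟩
          left_inv := fun y => Subtype.ext (by simp [mul_assoc])
          right_inv := fun y => Subtype.ext (by simp [mul_assoc])
          map_mul' := fun y z => Subtype.ext (by simp [mul_assoc]) }
      exact ⟨e x, characteristic_iff_map_le.1 hc e ⟨x, hx, rfl⟩, rfl⟩
    rw [le_bot_iff, map_eq_bot_iff_of_injective _ M.subtype_injective] at h2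
    exact le_bot_iff.1 (h2 ▸ hmax N hN hNs)
  obtain ⟨P⟩ : Nonempty (Sylow 2 M) := inferInstance
  have hPne : (P : Subgroup M) ≠ ⊥ :=
    P.ne_bot_of_dvd_card (even_iff_two_dvd.1 (Nat.not_odd_iff_even.1 fun ho => hns (S0205.result ho)))
  obtain ⟨t, htP, ht, htc⟩ := CoreConsumers.exists_central_involution P.2 hPne
  by_cases hone : ∀ s ∈ (P : Subgroup M), s * s = 1 → s = 1 ∨ s = t
  · exfalso
    have hiso := ZStar.isIsolated_of_sylow htP ht fun g hg =>
      (hone _ hg (mul_self_of_orderOf_two (by rw [orderOf_conj_eq, ht]))).resolve_left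
        (ne_one_of_orderOf_two (by rw [orderOf_conj_eq, ht]))
    obtain ⟨N, hN, hodd, hcm⟩ := ZStar.exists_odd_normal hiso
    have hN' := hMrad N hN (S0205.result hodd)
    have htz : t ∈ center M := mem_center_iff.2 fun g => by
      have h1 := mem_bot.1 (hN' ▸ hcm g)
      calc g * t = (t * g * t⁻¹ * g⁻¹) * g * t := by rw [h1, one_mul]
        _ = t * g := by group
    have := hMrad (center M) inferInstance (Group.isSolvable_of_comm fun a b => Subtype.ext (mem_center_iff.1 b.2 a))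
    rw [this, mem_bot] at htz
    exact ne_one_of_orderOf_two ht htz
  push Not at hone
  obtain ⟨s, hs, hss, hs1, hst⟩ := hone
  exact ⟨t, t.2, s, s.2, by rw [Subgroup.orderOf_coe, ht],
    orderOf_two_iff.2 ⟨congrArg Subtype.val hss, fun e => hs1 (Subtype.ext e)⟩,
    fun e => hst (Subtype.ext e.symm), congrArg Subtype.val (htc s hs).eq⟩

theorem exists_socle (hR : RI G) (hns : ¬ Group.IsSolvable G)
    (hrad : ∀ N : Subgroup G, N.Normal → Group.IsSolvable N → N = ⊥) :
    ∃ L : Subgroup G, L.Normal ∧ IsSimpleGroup L ∧ ¬ Group.IsSolvable L ∧ centralizer (L : Set G) = ⊥ := by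
  obtain ⟨L, -, hLi, hLns, hLp, hLmin⟩ := exists_min (H := (⊤ : Subgroup G)) (C := ⊤) (inv_normal ⊤ ⊤) (fun h => by
    haveI := h
    exact hns (Group.isSolvable_of_surjective (f := (topEquiv : (⊤ : Subgroup G) ≃* G).toMonoidHom) topEquiv.surjective))
  haveI hLn : L.Normal := normal_of_inv_top hLi
  obtain ⟨L₁, hL₁, hi₁, hns₁, hp₁, hmin₁⟩ := exists_min (H := L) (C := L) (inv_normal L L) hLns
  have hradle : ∀ K : Subgroup G, K.Normal → Group.IsSolvable K → K ≤ (⊥ : Subgroup G) := fun K hK hKs =>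
    (hrad K hK hKs).le
  have hfour : ∀ {H M : Subgroup G} [H.Normal], M ≤ H → Inv H M → ¬ Group.IsSolvable M → ∀ C : Subgroup G,
      (∀ m ∈ M, ∀ x ∈ C, Commute x m) → Group.IsSolvable C := by
    intro H M _ hMH hMi hMns C hC
    obtain ⟨a, ha, b, hb, ha2, hb2, hne, hab⟩ := exists_two_commuting hrad hMH hMi hMns
    exact isSolvable_of_four hR ha2 hb2 hne hab (fun m hm => hC a ha m hm) fun m hm => hC b hb m hm
  have heq : L₁ = L := by
    by_contra heq
    obtain ⟨g, hg⟩ : ∃ g : G, ¬ L₁.map (MulAut.conj g).toMonoidHom ≤ L₁ := by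
      by_contra hall
      push Not at hall
      exact heq (hLmin L₁ hL₁ (fun g _ x hx => hall g ⟨x, hx, rfl⟩) hns₁)
    set L₂ := L₁.map (MulAut.conj g).toMonoidHom with hL₂
    have hL₂L : L₂ ≤ L := by
      rintro _ ⟨x, hx, rfl⟩
      exact hLn.conj_mem x (hL₁ hx) g
    have hi₂ : Inv L L₂ := by
      rintro l hl _ ⟨x, hx, rfl⟩
      refine ⟨g⁻¹ * l * g * x * (g⁻¹ * l * g)⁻¹, hi₁ _ ?_ x hx, by simp [mul_assoc]⟩
      simpa using hLn.conj_mem l hl g⁻¹
    have hns₂ : ¬ Group.IsSolvable L₂ := fun h => hns₁ (by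
      haveI := h
      exact Group.isSolvable_of_isSolvable_injective
        (f := (L₁.equivMapOfInjective (MulAut.conj g).toMonoidHom (MulAut.conj g).injective).toMonoidHom)
        (MulEquiv.injective _))
    have hcard : Nat.card L₂ = Nat.card L₁ := card_map_of_injective (MulAut.conj g).injective
    have hinf : L₁ ⊓ L₂ = ⊥ := by
      refine le_bot_iff.1 (le_radical hradle (inf_le_left.trans hL₁)
        (fun l hl x hx => ⟨hi₁ l hl x hx.1, hi₂ l hl x hx.2⟩) ?_)
      by_contra h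
      have h1 := (hmin₁ _ inf_le_left (fun l hl x hx => ⟨hi₁ l hl x hx.1, hi₂ l hl x hx.2⟩) h).ge.trans inf_le_right
      exact hg (eq_of_le_of_card_ge h1 hcard.le).ge
    refine hns₂ (hfour hL₁ hi₁ hns₁ L₂ fun a ha b hb => ?_)
    have h1 : b * a * b⁻¹ * a⁻¹ ∈ L₁ ⊓ L₂ := by
      refine ⟨show b * a * b⁻¹ * a⁻¹ ∈ L₁ from mul_mem (hi₁ b (hL₂L hb) a ha) (inv_mem ha), ?_⟩
      show b * a * b⁻¹ * a⁻¹ ∈ L₂
      rw [show b * a * b⁻¹ * a⁻¹ = b * (a * b⁻¹ * a⁻¹) by group]
      exact mul_mem hb (hi₂ a (hL₁ ha) _ (inv_mem hb))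
    rw [hinf, mem_bot] at h1
    exact mul_inv_eq_iff_eq_mul.1 (mul_inv_eq_one.1 h1)
  subst heq
  refine ⟨L₁, hLn, ?_, hLns, hrad _ inferInstance
    (hfour le_rfl (inv_normal L₁ L₁) hLns _ fun m hm x hx => (mem_centralizer_iff.1 hx m hm).symm)⟩
  haveI : Nontrivial L₁ := (Subgroup.nontrivial_iff_ne_bot _).2 fun e => hLns
    (Group.isSolvable_of_comm fun a b => Subtype.ext (by
      have ha := mem_bot.1 (e ▸ a.2 : (a : G) ∈ (⊥ : Subgroup G))
      have hb := mem_bot.1 (e ▸ b.2 : (b : G) ∈ (⊥ : Subgroup G))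
      simp [ha, hb]))
  refine ⟨fun N hN => ?_⟩
  have hinv : Inv L₁ (N.map L₁.subtype) := by
    rintro h hh _ ⟨x, hx, rfl⟩
    exact ⟨_, hN.conj_mem x hx ⟨h, hh⟩, rfl⟩
  by_cases hs : Group.IsSolvable (N.map L₁.subtype : Subgroup G)
  · refine Or.inl ((map_eq_bot_iff_of_injective _ L₁.subtype_injective).1 ?_)
    exact le_bot_iff.1 (le_radical hradle (map_subtype_le _) hinv hs)
  · refine Or.inr (eq_top_iff.2 fun x _ => ?_)
    obtain ⟨y, hy, e⟩ := (hmin₁ _ (map_subtype_le _) hinv hs).ge x.2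
    rwa [← (Subtype.ext e : y = x)]

/-- The Sylow 2-intersections are cyclic. -/
theorem cycInter_of_trivial (hR : RI G) (hns : ¬ Group.IsSolvable G)
    (hcore : ∀ N : Subgroup G, N.Normal → Odd (Nat.card N) → N = ⊥) (hQ : Cfsg.pCore 2 G = ⊥) :
    ∀ S T : Sylow 2 G, S ≠ T → IsCyclic ↥((S : Subgroup G) ⊓ (T : Subgroup G)) := by
  haveI : Fact (Nat.Prime 2) := ⟨Nat.prime_two⟩
  obtain ⟨R, hRc, hRs, hRmax⟩ := exists_radical G
  haveI := hRc
  haveI := hRs
  have hR1 : R = ⊥ := by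
    have h1 : Cfsg.pPrimeCore 2 R = ⊥ := by
      refine (map_eq_bot_iff_of_injective _ R.subtype_injective).1 (hcore _ inferInstance ?_)
      rw [card_map_of_injective R.subtype_injective]
      exact Nat.coprime_two_right.1 Grp.pPrimeCore_coprime
    have h2 : Cfsg.pCore 2 R = ⊥ := by
      refine (map_eq_bot_iff_of_injective _ R.subtype_injective).1 (le_bot_iff.1 (hQ ▸ ?_))
      exact Grp.le_pCore inferInstance ((Grp.pCore_isPGroup (p := 2) (G := R)).map _)
    refine eq_bot_iff.2 fun r hr => mem_bot.2 ?_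
    have h3 : (⟨r, hr⟩ : R) ∈ Cfsg.pCore 2 R := Grp.centralizer_pCore_le h1 (mem_centralizer_iff.2 fun y hy => by
      rw [h2, SetLike.mem_coe, mem_bot] at hy
      rw [hy, one_mul, mul_one])
    rw [h2, mem_bot] at h3
    exact congrArg Subtype.val h3
  have hrad : ∀ N : Subgroup G, N.Normal → Group.IsSolvable N → N = ⊥ := fun N hN hNs =>
    le_bot_iff.1 (hR1 ▸ hRmax N hN hNs)
  obtain ⟨L, hLn, hLs, hLns, hLC⟩ := exists_socle hR hns hrad
  haveI := hLn
  haveI := hLs
  have hna : ¬ IsMulCommutative L := fun h => hLns (IsSimpleGroup.comm_iff_isSolvable.1 h.is_comm.comm)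
  have hfu : CentRank.FourUnique L := fourUnique (ri_subgroup hR L)
  have hsplit := CentRank.classify_split hfu hna (G1Local.g1_holds L hna hfu)
  -- every Sylow subgroup lies in the socle
  have hodd : Odd L.index := by
    obtain ⟨S⟩ : Nonempty (Sylow 2 G) := inferInstance
    obtain ⟨S₀⟩ : Nonempty (Sylow 2 L) := inferInstance
    rcases CentRank.Cyc.torus_or_odd hfu hna (hsplit S₀).1 with hT | hO
    · refine odd_index_of_torus L hLns hLC hT S fun x hxL hx => ?_
      obtain ⟨a, ha, b, hb, ha2, hb2, hne, hab⟩ :=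
        exists_two_commuting hrad le_rfl (inv_normal L L) hLns
      obtain ⟨P, hP⟩ := sylow_inf S (le_refl L) fun h hh x hx => mul_mem (mul_mem hh hx) (inv_mem hh)
      have hK : IsPGroup 2 (closure ({(⟨a, ha⟩ : L), ⟨b, hb⟩} : Set L)) := by
        obtain ⟨K, hK, hKa, hKb, -⟩ := CoreConsumers.exists_klein_of_commute
          (show orderOf (⟨a, ha⟩ : L) = 2 by rw [Subgroup.orderOf_mk, ha2])
          (show orderOf (⟨b, hb⟩ : L) = 2 by rw [Subgroup.orderOf_mk, hb2])
          (fun e => hne (congrArg Subtype.val e)) (Subtype.ext hab.eq)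
        exact (IsPGroup.of_card (n := 2) (by rw [hK.card_four]; norm_num)).to_le ((closure_le K).2 (by
          rintro y (rfl | rfl)
          exacts [hKa, hKb]))
      obtain ⟨P', hP'⟩ := hK.exists_le_sylow
      obtain ⟨k, hk⟩ := MulAction.exists_smul_eq L P' P
      have hmem : ∀ {y : G} (hy : y ∈ L), (⟨y, hy⟩ : L) ∈ (P' : Subgroup L) →
          (k : G) * y * (k : G)⁻¹ ∈ (S : Subgroup G) ⊓ L := fun {y} hy hy' => by
        have h1 : k * ⟨y, hy⟩ * k⁻¹ ∈ (P : Subgroup L) := by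
          rw [← hk, CentRank.mem_smul_sylow, show k⁻¹ * (k * ⟨y, hy⟩ * k⁻¹) * k = (⟨y, hy⟩ : L) by group]
          exact hy'
        exact ⟨(SetLike.ext_iff.1 hP _).1 h1, (k * ⟨y, hy⟩ * k⁻¹ : L).2⟩
      have h1 := hmem ha (hP' (subset_closure (Set.mem_insert _ _)))
      have h2 := hmem hb (hP' (subset_closure (Set.mem_insert_of_mem _ rfl)))
      exact mem_normalizer_of_four hR (by rw [orderOf_conj_eq, ha2]) (by rw [orderOf_conj_eq, hb2])
        (fun e => hne (mul_left_cancel (mul_right_cancel e))) (hab.map (MulAut.conj (k : G)).toMonoidHom)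
        h1.1 h2.1 (hx _ h1).1 (hx _ h2).1
    · exact hO.of_dvd_nat (index_dvd_card_out L hLC)
  have hSL : ∀ S : Sylow 2 G, (S : Subgroup G) ≤ L := fun S s hs => by
    obtain ⟨k, hk⟩ := S.isPGroup' ⟨s, hs⟩
    have hk' : s ^ 2 ^ k = 1 := congrArg Subtype.val hk
    have h2 : orderOf (QuotientGroup.mk' L s) ∣ 2 ^ k := orderOf_dvd_of_pow_eq_one (by rw [← map_pow, hk', map_one])
    have h3 : orderOf (QuotientGroup.mk' L s) ∣ L.index := index_eq_card L ▸ orderOf_dvd_natCard _
    exact (QuotientGroup.eq_one_iff _).1 (orderOf_eq_one_iff.1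
      (Nat.eq_one_of_dvd_coprimes (Nat.Coprime.pow_left k (Nat.coprime_two_left.2 hodd)) h2 h3))
  intro S T hST
  set I := (S : Subgroup G) ⊓ (T : Subgroup G) with hI
  by_cases hI1 : I = ⊥
  · rw [hI1]; infer_instance
  have hIp : IsPGroup 2 I := S.isPGroup'.to_le inf_le_left
  obtain ⟨t, ht⟩ : ∃ t : I, orderOf t = 2 := by
    refine exists_prime_orderOf_dvd_card' 2 ?_
    obtain ⟨n, hn⟩ := IsPGroup.iff_card.1 hIp
    rw [hn]
    refine dvd_pow_self 2 fun e => hI1 (card_eq_one.1 ?_)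
    rw [hn, e, pow_zero]
  have ht2 : orderOf (t : G) = 2 := by rw [Subgroup.orderOf_coe, ht]
  obtain ⟨P, hP⟩ := sylow_inf S (le_refl L) fun h hh x hx => mul_mem (mul_mem hh hx) (inv_mem hh)
  rcases (hsplit P).2 with hab | hse
  · -- abelian
    have hmemP : ∀ {x : G} (hx : x ∈ (S : Subgroup G)), (⟨x, hSL S hx⟩ : L) ∈ (P : Subgroup L) := fun hx =>
      (SetLike.ext_iff.1 hP _).2 hx
    have hc : ∀ x y : I, Commute x y := fun x y => Subtype.ext
      (congrArg Subtype.val (hab _ (hmemP x.2.1) _ (hmemP y.2.1)) : (x : G) * y = y * x)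
    refine isCyclic_of_comm' hIp t ht (fun x hx => ?_) hc
    by_contra hne
    rw [not_or] at hne
    exact hST (eq_of_four hR (orderOf_two_iff.2 ⟨congrArg Subtype.val hx, fun e => hne.1 (Subtype.ext e)⟩) ht2
      (fun e => hne.2 (Subtype.ext e)) (congrArg Subtype.val (hc x t).eq) x.2.1 t.2.1 x.2.2 t.2.2)
  · -- strongly embedded
    exfalso
    obtain ⟨P₂, hP₂⟩ := sylow_inf T (le_refl L) fun h hh x hx => mul_mem (mul_mem hh hx) (inv_mem hh)
    obtain ⟨k, hk⟩ := MulAction.exists_smul_eq L P P₂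
    set tL : L := ⟨(t : G), hSL S t.2.1⟩ with htL
    have htP : tL ∈ (P : Subgroup L) := (SetLike.ext_iff.1 hP _).2 t.2.1
    have htP₂ : tL ∈ (P₂ : Subgroup L) := (SetLike.ext_iff.1 hP₂ _).2 t.2.2
    have hkN : k ∈ normalizer ((P : Subgroup L) : Set L) := by
      by_contra hkN
      refine (isStronglyPEmbedded_iff.1 hse).2.2 k hkN ?_
      have htk : k⁻¹ * tL * k ∈ (P : Subgroup L) := CentRank.mem_smul_sylow.1 (hk.symm ▸ htP₂)
      have hmem : tL ∈ normalizer ((P : Subgroup L) : Set L) ⊓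
          (normalizer ((P : Subgroup L) : Set L)).map (MulAut.conj k).toMonoidHom :=
        ⟨le_normalizer htP, k⁻¹ * tL * k, le_normalizer htk, by simp [mul_assoc]⟩
      have h1 := orderOf_dvd_natCard (⟨tL, hmem⟩ : ↥(normalizer ((P : Subgroup L) : Set L) ⊓
          (normalizer ((P : Subgroup L) : Set L)).map (MulAut.conj k).toMonoidHom))
      rwa [Subgroup.orderOf_mk, htL, Subgroup.orderOf_mk, ht2] at h1
    rw [Sylow.smul_eq_iff_mem_normalizer.2 hkN] at hk
    refine hST (Sylow.ext (le_antisymm (fun x hx => ?_) fun x hx => ?_))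
    · exact (SetLike.ext_iff.1 hP₂ ⟨x, hSL S hx⟩).1 (hk ▸ (SetLike.ext_iff.1 hP ⟨x, hSL S hx⟩).2 hx)
    · exact (SetLike.ext_iff.1 hP ⟨x, hSL T hx⟩).1 (hk.symm ▸ (SetLike.ext_iff.1 hP₂ ⟨x, hSL T hx⟩).2 hx)
where
  isCyclic_of_comm' {R : Type u} [Group R] [Finite R] (hp : IsPGroup 2 R) (t : R) (ht : orderOf t = 2)
      (hu : ∀ x : R, x * x = 1 → x = 1 ∨ x = t) (hc : ∀ x y : R, Commute x y) : IsCyclic R := by
    have h : Core2.RankOneTwo.OneInv R t := ⟨hp, ht, hu⟩
    rcases h.shape with hcy | ⟨a, ha4, hidx, hinv⟩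
    · exact hcy
    · obtain ⟨x, hx⟩ : ∃ x, x ∉ zpowers a := by
        by_contra hall
        push Not at hall
        rw [show zpowers a = ⊤ from eq_top_iff.2 fun x _ => hall x, index_top] at hidx
        omega
      have e := (hinv x hx).1
      rw [(hc x a).eq, mul_inv_cancel_right] at e
      have := Nat.le_of_dvd two_pos (ha4.trans (orderOf_dvd_of_pow_eq_one (by
        rw [pow_two]; exact mul_eq_one_iff_eq_inv.2 e)))
      omega

end Cfsg.Agent.Invol.RankOneInter
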