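import Cfsg.Agent.Lib.Invol.RankOneInter.Pair
import Cfsg.Agent.Lib.Classical.SLNormal

/-!
# Two commuting perfect subgroups: the conclusion

`L₁ L₂` is the central product of two copies of `SL(2, 5)`; no 2-element outside induces an outer automorphism on
both, by the torus.
-/

set_option autoImplicit false
set_option linter.style.haveILetI false
set_option linter.unusedSectionVars false

open Subgroup
open scoped commutatorElement

namespace Cfsg.Agent.Invol.RankOneInter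

universe u

variable {G : Type u} [Group G] [Finite G]

/-- The second alternative of the conclusion, for trivial odd core. -/
def ConclTwo (G : Type*) [Group G] : Prop :=
  ∃ (G₁ : Subgroup G), G₁.Normal ∧ (Odd G₁.index ∨ ∃ k : ℕ, Odd k ∧ G₁.index = 2 * k) ∧
    ∃ (Z : Subgroup (Matrix.SpecialLinearGroup (Fin 2) (ZMod 5) × Matrix.SpecialLinearGroup (Fin 2) (ZMod 5)))
      (_ : Z.Normal),
      Z = Subgroup.zpowers ((-1 : Matrix.SpecialLinearGroup (Fin 2) (ZMod 5)),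
        (-1 : Matrix.SpecialLinearGroup (Fin 2) (ZMod 5))) ∧
      Nonempty (↥G₁ ≃*
        (Matrix.SpecialLinearGroup (Fin 2) (ZMod 5) × Matrix.SpecialLinearGroup (Fin 2) (ZMod 5)) ⧸ Z)

theorem mem_normalizer_iff_map {H : Subgroup G} {g : G} :
    g ∈ normalizer (H : Set G) ↔ H.map (MulAut.conj g).toMonoidHom = H := by
  constructor
  · intro h
    ext x
    constructor
    · rintro ⟨y, hy, rfl⟩
      exact (mem_normalizer_iff.1 h y).1 hy
    · intro hx
      refine ⟨g⁻¹ * x * g, (mem_normalizer_iff''.1 h x).1 hx, ?_⟩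
      simp [mul_assoc]
  · intro h
    refine mem_normalizer_iff.2 fun x => ⟨fun hx => h.le ⟨x, hx, rfl⟩, fun hx => ?_⟩
    obtain ⟨y, hy, e⟩ := h.ge hx
    have e' : g * y * g⁻¹ = g * x * g⁻¹ := e
    rwa [mul_left_cancel (mul_right_cancel e')] at hy

namespace Pair

variable {c : Cfg G} (P : Pair c)
include P

theorem isSimple_K : IsSimpleGroup P.K := by
  haveI : Fact (Nat.Prime 5) := ⟨Nat.prime_five⟩
  obtain ⟨e, -⟩ := P.exists_iso
  let f : Matrix.ProjectiveSpecialLinearGroup (Fin 2) (ZMod 5) ≃* P.K := QuotientGroup.congr _ _ e (by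
    ext y
    constructor
    · rintro ⟨x, hx, rfl⟩
      exact mem_center_iff.2 fun z => by
        have h := congrArg e (mem_center_iff.1 hx (e.symm z))
        rw [map_mul, map_mul, e.apply_symm_apply] at h
        exact h
    · intro hy
      exact ⟨e.symm y, mem_center_iff.2 fun z => e.injective (by
        rw [map_mul, map_mul, e.apply_symm_apply]; exact mem_center_iff.1 hy (e z)), e.apply_symm_apply y⟩)
  haveI : IsSimpleGroup (Matrix.ProjectiveSpecialLinearGroup (Fin 2) (ZMod 5)) :=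
    Classical.PSL_isSimple le_rfl fun _ => by simp
  exact f.symm.isSimpleGroup

theorem normalizer_cases : normalizer (P.L₁ : Set G) = ⊤ ∨ (normalizer (P.L₁ : Set G)).index = 2 := by
  by_cases hall : normalizer (P.L₁ : Set G) = ⊤
  · exact Or.inl hall
  refine Or.inr ?_
  obtain ⟨a, ha⟩ : ∃ a, a ∉ normalizer (P.L₁ : Set G) := by
    by_contra hh
    push Not at hh
    exact hall (eq_top_iff.2 fun x _ => hh x)
  refine Subgroup.index_eq_two_iff.2 ⟨a, fun b => ?_⟩
  have hmap : ∀ x y : G, P.L₁.map (MulAut.conj (x * y)).toMonoidHom =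
      (P.L₁.map (MulAut.conj y).toMonoidHom).map (MulAut.conj x).toMonoidHom := fun x y => by
    rw [Subgroup.map_map]
    congr 1
    ext z
    simp [mul_assoc]
  have ha' : P.L₁.map (MulAut.conj a).toMonoidHom = P.L₂ ∧ P.L₂.map (MulAut.conj a).toMonoidHom = P.L₁ :=
    (P.perm a).resolve_left fun h => ha (mem_normalizer_iff_map.2 h.1)
  have hne : P.L₁ ≠ P.L₂ := fun e => ha (mem_normalizer_iff_map.2 (ha'.1.trans e.symm))
  rw [mem_normalizer_iff_map, mem_normalizer_iff_map, hmap, ha'.1]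
  rcases P.perm b with ⟨h1, h2⟩ | ⟨h1, h2⟩
  · rw [h1, h2]; exact Or.inr ⟨rfl, hne.symm⟩
  · rw [h1, h2]; exact Or.inl ⟨rfl, hne.symm⟩

theorem normalizer_normal : (normalizer (P.L₁ : Set G)).Normal := by
  rcases P.normalizer_cases with h | h
  · rw [h]; infer_instance
  · exact Subgroup.normal_of_index_eq_two h

theorem sylow_le_mul {s : G} (hs : s ∈ (c.S : Subgroup G)) (hsn : s ∈ normalizer (P.L₁ : Set G)) :
    ∃ l ∈ P.L₁, ∀ y ∈ P.L₁, Commute (l⁻¹ * s) y := by
  haveI : Fact (Nat.Prime 2) := ⟨Nat.prime_two⟩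
  haveI := P.isSimple_K
  set N := normalizer (P.L₁ : Set G) with hN
  haveI hNn : N.Normal := P.normalizer_normal
  let N₁ : Subgroup G := N
  set C₁ := (centralizer (P.L₁ : Set G)).subgroupOf N₁ with hC₁
  haveI : C₁.Normal := by
    refine ⟨fun x hx g => mem_subgroupOf.2 (mem_centralizer_iff.2 fun y hy => ?_)⟩
    have h1 := mem_centralizer_iff.1 (mem_subgroupOf.1 hx) _ ((mem_normalizer_iff''.1 g.2 y).1 hy)
    simp only [Subgroup.coe_mul, InvMemClass.coe_inv]
    calc y * ((g : G) * x * (g : G)⁻¹) = (g : G) * (((g : G)⁻¹ * y * g) * x) * (g : G)⁻¹ := by group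
      _ = (g : G) * ((x : G) * ((g : G)⁻¹ * y * g)) * (g : G)⁻¹ := by rw [h1]
      _ = (g : G) * x * (g : G)⁻¹ * y := by group
  set π := QuotientGroup.mk' C₁ with hπdef
  have hπ := QuotientGroup.mk'_surjective C₁
  have hLN : P.L₁ ≤ N₁ := le_normalizer
  set M := (P.L₁.subgroupOf N₁).map π with hM
  haveI : M.Normal := by
    haveI : (P.L₁.subgroupOf N₁).Normal := Subgroup.normal_in_normalizer
    exact Normal.map inferInstance π hπ
  let φ : ↥P.L₁ →* ↥M := MonoidHom.mk' (fun l => ⟨π ⟨l, hLN l.2⟩, ⟨⟨l, hLN l.2⟩, l.2, rfl⟩⟩)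
    fun a b => Subtype.ext (map_mul π ⟨a, hLN a.2⟩ ⟨b, hLN b.2⟩)
  have hφs : Function.Surjective φ := by
    rintro ⟨_, ⟨x, hx, rfl⟩⟩
    exact ⟨⟨x, hx⟩, rfl⟩
  have hker : ∀ l : P.L₁, φ l = 1 ↔ l ∈ center ↥P.L₁ := fun l => by
    rw [P.mem_center₁]
    constructor
    · intro h
      have h1 := mem_subgroupOf.1 ((QuotientGroup.eq_one_iff _).1 (congrArg Subtype.val h : π _ = 1))
      exact P.central_eq l.2 fun y hy => (mem_centralizer_iff.1 h1 y hy).symm
    · intro h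
      refine Subtype.ext ((QuotientGroup.eq_one_iff _).2 (mem_subgroupOf.2 (mem_centralizer_iff.2 fun y hy => ?_)))
      rcases h with h | h <;> simp only [h]
      · rw [one_mul, mul_one]
      · exact c.ucen y
  let e : P.K ≃* ↥M := (QuotientGroup.quotientMulEquivOfEq (by
      ext l; exact (hker l).symm : center ↥P.L₁ = φ.ker)).trans (QuotientGroup.quotientKerEquivOfSurjective φ hφs)
  haveI hMs : IsSimpleGroup ↥M := e.symm.isSimpleGroup
  obtain ⟨S₁, hctl, -⟩ := P.exists_sylowK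
  have hna : ¬ IsMulCommutative P.K := fun h => P.ns₁ (by
    haveI : Group.IsSolvable P.K := Group.isSolvable_of_comm fun a b => h.is_comm.comm a b
    exact (Group.isSolvable_iff_subgroup_quotient (center ↥P.L₁)).2
      ⟨Group.isSolvable_of_comm fun a b => Subtype.ext (mem_center_iff.1 b.2 a), this⟩)
  have hMns : ¬ Group.IsSolvable ↥M := fun h => hna (by
    haveI := h
    haveI : Group.IsSolvable P.K := Group.isSolvable_of_isSolvable_injective (f := e.toMonoidHom) e.injective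
    exact ⟨⟨IsSimpleGroup.comm_iff_isSolvable.2 this⟩⟩)
  have hT : ∀ Q : Sylow 2 ↥M, CentRank.Cyc.TorusData (Q : Subgroup ↥M) := fun Q => by
    obtain ⟨ψ, hψ⟩ := CentRank.exists_iso_sylow e S₁ Q
    refine hψ ▸ (CentRank.Cyc.torus_small (fourUnique_of_ctl hctl) hna S₁ (Or.inl ?_)).map ψ
    exact CentRank.Cyc.sylow_card (k := 2) (m := 15) (P.card_K.1.trans (by norm_num)) (by decide) S₁
  have hCM : centralizer (M : Set (↥N₁ ⧸ C₁)) = ⊥ := by
    refine eq_bot_iff.2 fun x hx => mem_bot.2 ?_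
    obtain ⟨x, rfl⟩ := hπ x
    refine (QuotientGroup.eq_one_iff x).2 (mem_subgroupOf.2 (mem_centralizer_iff.2 fun y hy => ?_))
    refine (commute_of_central P.perf₁ (fun l hl => ?_) hy).symm
    have hlM : π ⟨l, hLN hl⟩ ∈ M := ⟨_, hl, rfl⟩
    have h1 := mem_centralizer_iff.1 hx _ hlM
    have h2 : π ⁅x, ⟨l, hLN hl⟩⁆ = 1 := by
      rw [map_commutatorElement, commutatorElement_eq_one_iff_mul_comm]
      exact h1.symm
    have h3 := mem_centralizer_iff.1 (mem_subgroupOf.1 ((QuotientGroup.eq_one_iff _).1 h2))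
    refine ⟨?_, fun m hm => (h3 m hm).symm⟩
    rw [commutatorElement_def]
    exact mul_mem ((mem_normalizer_iff.1 x.2 l).1 hl) (inv_mem hl)
  let S₀ : Sylow 2 ↥N₁ := (c.S.isPGroup'.comap_subtype (K := N₁)).toSylow (Grp.sylow_inf_normal_relIndex c.S N)
  set SX := S₀.mapSurjective hπ with hSX
  have hodd := odd_index_of_torus M hMns hCM hT SX (by
    rintro x ⟨⟨l, hlN⟩, hl, rfl⟩ hxS
    obtain ⟨a, -, ha, -, haa, -, -⟩ := P.exists_roots
    have h1 := (hxS (π ⟨a, hLN ha.2⟩) ⟨⟨_, ha.1, rfl⟩, ⟨_, ha.2, rfl⟩⟩)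
    -- the trace on `M` is the image of the trace on `L₁`
    obtain ⟨P₁, hP₁⟩ := P.sylow₁
    have htrace : (SX : Subgroup (↥N₁ ⧸ C₁)).subgroupOf M = (P₁ : Subgroup P.L₁).map φ := by
      refine (P₁.mapSurjective hφs).3 (SX.isPGroup'.comap_subtype) ?_
      rintro _ ⟨y, hy, rfl⟩
      exact ⟨⟨y, hLN y.2⟩, (SetLike.ext_iff.1 hP₁ y).1 hy, rfl⟩
    obtain ⟨p, hp, ep⟩ := htrace.le (show (⟨_, h1.2⟩ : M) ∈ (SX : Subgroup (↥N₁ ⧸ C₁)).subgroupOf M from h1.1)
    have hll : l ∈ P.L₁ := hl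
    let w : P.L₁ := ⟨l * a * l⁻¹, mul_mem (mul_mem hll ha.2) (inv_mem hll)⟩
    have ew : φ (p⁻¹ * w) = 1 := by
      rw [map_mul, map_inv, inv_mul_eq_one, ep]
      apply Subtype.ext
      show π ⟨l, hlN⟩ * π ⟨a, hLN ha.2⟩ * (π ⟨l, hlN⟩)⁻¹ = π ⟨l * a * l⁻¹, _⟩
      rw [← map_inv, ← map_mul, ← map_mul]
      rfl
    have hwS : (w : G) ∈ (c.S : Subgroup G) := by
      have h2 : ((p⁻¹ * w : P.L₁) : G) ∈ (c.S : Subgroup G) := by
        rcases (P.mem_center₁ _).1 ((hker _).1 ew) with h | h <;> rw [h] <;> [exact one_mem _; exact c.u_mem _]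
      have h3 := mul_mem (show (p : G) ∈ (c.S : Subgroup G) from (SetLike.ext_iff.1 hP₁ p).1 hp) h2
      simpa using h3
    have hn := P.ctl₁ ha haa hll hwS
    refine mem_normalizer_iff.2 fun y => ?_
    have hn' : (⟨l, hlN⟩ : N₁) ∈ normalizer ((S₀ : Subgroup ↥N₁) : Set ↥N₁) :=
      mem_normalizer_iff.2 fun y => mem_normalizer_iff.1 hn (y : G)
    exact mem_normalizer_iff.1 (Subgroup.le_normalizer_map π ⟨_, hn', rfl⟩) y)
  have hsM : π ⟨s, hsn⟩ ∈ M := by
    have h1 : IsPGroup 2 (zpowers (π ⟨s, hsn⟩)) :=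
      SX.isPGroup'.to_le (zpowers_le.2 ⟨⟨s, hsn⟩, hs, rfl⟩)
    obtain ⟨k, hk⟩ := h1.exists_card_eq
    rw [Nat.card_zpowers] at hk
    have h2 : orderOf (QuotientGroup.mk' M (π ⟨s, hsn⟩)) ∣ 2 ^ k := hk ▸ orderOf_map_dvd _ _
    have h3 : orderOf (QuotientGroup.mk' M (π ⟨s, hsn⟩)) ∣ M.index := index_eq_card M ▸ orderOf_dvd_natCard _
    exact (QuotientGroup.eq_one_iff _).1 (orderOf_eq_one_iff.1
      (Nat.eq_one_of_dvd_coprimes (Nat.Coprime.pow_left k (Nat.coprime_two_left.2 hodd)) h2 h3))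
  obtain ⟨⟨l, hlN⟩, hl, el⟩ := hsM
  refine ⟨l, hl, fun y hy => ?_⟩
  exact (mem_centralizer_iff.1 (mem_subgroupOf.1 (QuotientGroup.eq.1 el)) y hy).symm

theorem sylow_le_sup {s : G} (hs : s ∈ (c.S : Subgroup G)) (hsn : s ∈ normalizer (P.L₁ : Set G)) :
    s ∈ P.L₁ ⊔ P.L₂ := by
  have hsn₂ : s ∈ normalizer (P.L₂ : Set G) := by
    rw [mem_normalizer_iff_map] at hsn ⊢
    rcases P.perm s with h | h
    · exact h.2
    · exact h.2.trans ((hsn.symm.trans h.1))
  obtain ⟨l, hl, hc₁⟩ := P.sylow_le_mul hs hsn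
  obtain ⟨m, hm, hc₂⟩ := P.symm.sylow_le_mul hs hsn₂
  have hm' : m ∈ P.L₂ := hm
  set d := m⁻¹ * (l⁻¹ * s) with hd
  have hd₁ : ∀ y ∈ P.L₁, Commute d y := fun y hy => ((P.comm y hy m hm').symm.inv_left).mul_left (hc₁ y hy)
  have hd₂ : ∀ y ∈ P.L₂, Commute d y := fun y hy => by
    have e : d = l⁻¹ * (m⁻¹ * s) := by
      rw [hd, ← mul_assoc, ← mul_assoc, ((P.comm l hl m hm').inv_inv).eq]
    rw [e]
    exact ((P.comm l hl y hy).inv_left).mul_left (hc₂ y hy)
  let C := centralizer ((P.L₁ ⊔ P.L₂ : Subgroup G) : Set G)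
  have hnorm : (P.L₁ ⊔ P.L₂).Normal := ⟨fun x hx g => by
    have : (P.L₁ ⊔ P.L₂).map (MulAut.conj g).toMonoidHom = P.L₁ ⊔ P.L₂ := by
      rw [Subgroup.map_sup]
      rcases P.perm g with ⟨h1, h2⟩ | ⟨h1, h2⟩ <;> rw [h1, h2]
      exact sup_comm _ _
    exact this.le ⟨x, hx, rfl⟩⟩
  haveI := hnorm
  obtain ⟨a, -, ha, -, haa, -, -⟩ := P.exists_roots
  obtain ⟨b, -, hb, -, hbb, -, -⟩ := P.symm.exists_roots
  obtain ⟨h2, hne⟩ := P.root_mul ha.2 hb.2 haa hbb
  have hCs : Group.IsSolvable C := c.isSolvable_of_commutes h2 hne fun x hx =>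
    (mem_centralizer_iff.1 hx _ (mul_mem (mem_sup_left ha.2) (mem_sup_right hb.2))).symm
  have hCR : C ≤ c.R := c.Rmax C inferInstance hCs
  have hle : P.L₁ ⊔ P.L₂ ≤ centralizer ({d} : Set G) :=
    sup_le (fun z hz => mem_centralizer_singleton_iff.2 (hd₁ z hz).symm.eq)
      fun z hz => mem_centralizer_singleton_iff.2 (hd₂ z hz).symm.eq
  have hdC : d ∈ C := mem_centralizer_iff.2 fun y hy => mem_centralizer_singleton_iff.1 (hle hy)
  have hdG : d ∈ P.L₁ ⊔ P.L₂ := by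
    rcases P.R_eq (hCR hdC) with h | h <;> rw [h]
    · exact one_mem _
    · exact mem_sup_left P.u_mem
  have e : s = l * (m * d) := by rw [hd]; group
  rw [e]
  exact mul_mem (mem_sup_left hl) (mul_mem (mem_sup_right hm') hdG)

theorem concl : ConclTwo G := by
  haveI : Fact (Nat.Prime 2) := ⟨Nat.prime_two⟩
  obtain ⟨e₁, hu₁⟩ := P.exists_iso
  obtain ⟨e₂, hu₂⟩ : ∃ e : Matrix.SpecialLinearGroup (Fin 2) (ZMod 5) ≃* P.L₂, (e (-1) : G) = c.u :=
    P.symm.exists_iso
  have hm : ∀ x : Matrix.SpecialLinearGroup (Fin 2) (ZMod 5), (e₁ x : G) = c.u → x = -1 := fun x h =>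
    e₁.injective (Subtype.ext (h.trans hu₁.symm))
  let ψ : Matrix.SpecialLinearGroup (Fin 2) (ZMod 5) × Matrix.SpecialLinearGroup (Fin 2) (ZMod 5) →* G :=
    MonoidHom.noncommCoprod (P.L₁.subtype.comp e₁.toMonoidHom) (P.L₂.subtype.comp e₂.toMonoidHom)
      fun x y => P.comm _ (e₁ x).2 _ (e₂ y).2
  set Z := zpowers ((-1 : Matrix.SpecialLinearGroup (Fin 2) (ZMod 5)),
    (-1 : Matrix.SpecialLinearGroup (Fin 2) (ZMod 5))) with hZ
  have hker : ψ.ker = Z := by
    refine le_antisymm ?_ (zpowers_le.2 ?_)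
    · rintro ⟨x, y⟩ h
      have h' : (e₁ x : G) * (e₂ y : G) = 1 := h
      have hx2 : (e₁ x : G) ∈ P.L₂ := by
        rw [eq_inv_of_mul_eq_one_left h']; exact inv_mem (e₂ y).2
      rcases P.inf_eq (e₁ x).2 hx2 with hx | hx
      · have hx1 : x = 1 := e₁.injective (Subtype.ext (hx.trans (by simp)))
        rw [hx, one_mul] at h'
        have hy1 : y = 1 := e₂.injective (Subtype.ext (h'.trans (by simp)))
        rw [hx1, hy1]
        exact one_mem Z
      · rw [hx] at h'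
        have hy : (e₂ y : G) = c.u := (eq_inv_of_mul_eq_one_right h').trans (inv_of_orderOf_two c.hQ.two)
        have hy' : y = -1 := e₂.injective (Subtype.ext (hy.trans hu₂.symm))
        rw [hm x hx, hy']
        exact mem_zpowers _
    · show (e₁ (-1) : G) * (e₂ (-1) : G) = 1
      rw [hu₁, hu₂, c.uu]
  haveI hZn : Z.Normal := hker ▸ MonoidHom.normal_ker ψ
  have hran : ψ.range = P.L₁ ⊔ P.L₂ := by
    refine (MonoidHom.noncommCoprod_range (P.L₁.subtype.comp e₁.toMonoidHom) (P.L₂.subtype.comp e₂.toMonoidHom) _).trans ?_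
    rw [ MonoidHom.range_comp, MonoidHom.range_comp,
      MonoidHom.range_eq_top.2 e₁.surjective, MonoidHom.range_eq_top.2 e₂.surjective, ← MonoidHom.range_eq_map,
      ← MonoidHom.range_eq_map, Subgroup.range_subtype, Subgroup.range_subtype]
  set N := normalizer (P.L₁ : Set G) with hN
  set G₁ := P.L₁ ⊔ P.L₂ with hG₁
  have hG₁n : G₁.Normal := ⟨fun x hx g => by
    have : G₁.map (MulAut.conj g).toMonoidHom = G₁ := by
      rw [hG₁, Subgroup.map_sup]
      rcases P.perm g with ⟨h1, h2⟩ | ⟨h1, h2⟩ <;> rw [h1, h2]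
      exact sup_comm _ _
    exact this.le ⟨x, hx, rfl⟩⟩
  haveI := hG₁n
  have hNi : N.index = 1 ∨ N.index = 2 := P.normalizer_cases.imp (fun h => by rw [hN, h, index_top]) id
  have hle : G₁ ≤ N := sup_le le_normalizer fun x hx => mem_normalizer_iff.2 fun y => by
    constructor
    · intro hy
      rwa [(P.comm y hy x hx).symm.eq, mul_inv_cancel_right]
    · intro hy
      have h1 : y = x * y * x⁻¹ := by
        have h2 := (P.comm _ hy x hx).eq
        calc y = x⁻¹ * (x * y * x⁻¹ * x) := by group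
          _ = x⁻¹ * (x * (x * y * x⁻¹)) := by rw [h2]
          _ = x * y * x⁻¹ := by group
      rwa [h1]
  have hodd : Odd (G₁.relIndex N) := by
    refine Nat.not_even_iff_odd.1 fun he => ?_
    haveI : N.Normal := P.normalizer_normal
    have h1 : (c.S : Subgroup G).subgroupOf N ≤ G₁.subgroupOf N := fun x hx => P.sylow_le_sup hx x.2
    exact Grp.sylow_inf_normal_relIndex c.S N ((even_iff_two_dvd.1 he).trans (index_dvd_of_le h1))
  refine ⟨G₁, hG₁n, ?_, Z, hZn, rfl, ⟨?_⟩⟩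
  · rw [← relIndex_mul_index hle]
    rcases hNi with h | h <;> rw [h]
    · exact Or.inl (by rwa [mul_one])
    · exact Or.inr ⟨_, hodd, mul_comm _ _⟩
  · exact (MulEquiv.subgroupCongr hran.symm).trans ((QuotientGroup.quotientKerEquivRange ψ).symm.trans
      (QuotientGroup.quotientMulEquivOfEq hker))

end Pair

end Cfsg.Agent.Invol.RankOneInter
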