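import Cfsg.Agent.Lib.Invol.RankOneInter.Good
import Cfsg.Agent.Lib.Invol.RankOneInter.PairConcl

/-!
# Two commuting perfect subgroups, or one simple modulo the radical

A minimal non-solvable normal subgroup splits into at most two minimal subgroups normal in it.
-/

set_option autoImplicit false
set_option linter.style.haveILetI false
set_option linter.unusedSectionVars false

open Subgroup
open scoped commutatorElement

namespace Cfsg.Agent.Invol.RankOneInter

universe u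

variable {G : Type u} [Group G] [Finite G]

namespace Cfg

variable (c : Cfg G)

theorem mem_R_Q {M : Subgroup G} (hM : ⁅M, M⁆ = M) {x : G} (hx : x ∈ M) (hR : x ∈ c.R) : x ∈ c.Q :=
  c.Rcent x hR fun _ hq => c.perfect_centralizes hM hx hq

theorem exists_two_elem {M : Subgroup G} (hns : ¬ Group.IsSolvable M) :
    ∃ x ∈ M, x ∉ c.R ∧ ∃ k : ℕ, x ^ 2 ^ k = 1 := by
  haveI : Fact (Nat.Prime 2) := ⟨Nat.prime_two⟩
  haveI := c.Rn
  by_contra hno
  push Not at hno
  obtain ⟨P⟩ : Nonempty (Sylow 2 M) := inferInstance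
  have hle : (P : Subgroup M) ≤ c.R.subgroupOf M := fun p hp => by
    by_contra hR
    obtain ⟨k, hk⟩ := P.isPGroup' ⟨p, hp⟩
    exact hno p p.2 hR k (congrArg Subtype.val (congrArg Subtype.val hk :))
  have hodd : Odd (Nat.card (↥M ⧸ c.R.subgroupOf M)) := by
    rw [← index_eq_card]
    exact Nat.not_even_iff_odd.1 fun he => P.not_dvd_index ((even_iff_two_dvd.1 he).trans (index_dvd_of_le hle))
  refine hns ((Group.isSolvable_iff_subgroup_quotient (c.R.subgroupOf M)).2 ⟨?_, S0205.result hodd⟩)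
  haveI := c.Rs
  exact Group.isSolvable_of_isSolvable_injective (f := (M.subtype.comp (c.R.subgroupOf M).subtype).codRestrict c.R
    fun x => x.2) (fun a b e => Subtype.ext (Subtype.ext (congrArg Subtype.val e :)))

/-- Minimal invariant subgroups of `L` with small intersection commute. -/
theorem commute_min {L A B : Subgroup G} [L.Normal] (hA : A ≤ L) (hB : B ≤ L) (hAi : Inv L A) (hBi : Inv L B)
    (hBp : ⁅B, B⁆ = B) (hAmin : ∀ M : Subgroup G, M ≤ A → Inv L M → ¬ Group.IsSolvable M → M = A)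
    (hne : ¬ A ≤ B) : (∀ a ∈ A, ∀ b ∈ B, Commute a b) ∧ A ⊓ B ≤ c.R := by
  have hinv : Inv L (A ⊓ B) := fun g hg x hx => ⟨hAi g hg x hx.1, hBi g hg x hx.2⟩
  have hs : Group.IsSolvable (A ⊓ B : Subgroup G) := by
    by_contra hns
    exact hne ((hAmin _ inf_le_left hinv hns).ge.trans inf_le_right)
  have hR : A ⊓ B ≤ c.R := le_radical c.Rmax (inf_le_left.trans hA) hinv hs
  refine ⟨fun a ha b hb => commute_of_central hBp (fun m hm => ?_) hb, hR⟩
  have h1 : ⁅a, m⁆ ∈ A := by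
    rw [commutatorElement_def, show a * m * a⁻¹ * m⁻¹ = a * (m * a⁻¹ * m⁻¹) by group]
    exact mul_mem ha (hAi m (hB hm) _ (inv_mem ha))
  have h2 : ⁅a, m⁆ ∈ B := by
    rw [commutatorElement_def]
    exact mul_mem (hBi a (hA ha) m hm) (inv_mem hm)
  exact ⟨h2, fun n hn => (c.perfect_centralizes hBp hn (c.mem_R_Q hBp h2 (hR ⟨h1, h2⟩))).symm⟩

/-- At most two pairwise commuting such subgroups. -/
theorem false_of_three {A B M : Subgroup G} (hAp : ⁅A, A⁆ = A) (hA : ¬ Group.IsSolvable A) (hB : ¬ Group.IsSolvable B)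
    (hM : ¬ Group.IsSolvable M) (hAB : ∀ a ∈ A, ∀ b ∈ B, Commute a b) (hR : A ⊓ B ≤ c.R)
    (hAM : ∀ a ∈ A, ∀ m ∈ M, Commute a m) (hBM : ∀ b ∈ B, ∀ m ∈ M, Commute b m) : False := by
  haveI : Fact (Nat.Prime 2) := ⟨Nat.prime_two⟩
  obtain ⟨x, hx, hxR, i, hxi⟩ := c.exists_two_elem hA
  obtain ⟨y, hy, hyR, j, hyj⟩ := c.exists_two_elem hB
  have hpow : ∀ {z : G} {k : ℕ}, z ^ 2 ^ k = 1 → IsPGroup 2 (zpowers z) := fun {z k} hz => by
    obtain ⟨n, -, hn⟩ := (Nat.dvd_prime_pow Nat.prime_two).1 (orderOf_dvd_of_pow_eq_one hz)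
    exact IsPGroup.of_card (n := n) (by rw [Nat.card_zpowers, hn])
  have hxy : Commute x y := hAB x hx y hy
  have hp : IsPGroup 2 ↥(zpowers x ⊔ zpowers y) := (hpow hxi).to_sup_of_normal_left' (hpow hyj)
    (zpowers_le.2 (mem_normalizer_iff.2 fun z => by
      constructor
      · intro hz
        obtain ⟨n, rfl⟩ := mem_zpowers_iff.1 hz
        rw [(hxy.symm.zpow_right n).eq, mul_inv_cancel_right]
        exact zpow_mem (mem_zpowers x) n
      · intro hz
        obtain ⟨n, hn⟩ := mem_zpowers_iff.1 hz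
        rw [show z = y⁻¹ * (y * z * y⁻¹) * y by group, ← hn, mul_assoc, ((hxy.zpow_left n)).eq, inv_mul_cancel_left]
        exact zpow_mem (mem_zpowers x) n))
  set E := zpowers x ⊔ zpowers y with hE
  have hEc : ∀ e ∈ E, ∀ m ∈ M, Commute e m := fun e he m hm => by
    have hle : E ≤ centralizer ({m} : Set G) := sup_le (zpowers_le.2 (mem_centralizer_singleton_iff.2 (hAM x hx m hm).eq))
      (zpowers_le.2 (mem_centralizer_singleton_iff.2 (hBM y hy m hm).eq))
    exact mem_centralizer_singleton_iff.1 (hle he)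
  have hu : ∀ e ∈ E, e * e = 1 → e = 1 ∨ e = c.u := fun e he hee => by
    by_contra hne
    rw [not_or] at hne
    exact hM (c.isSolvable_of_commutes (orderOf_two_iff.2 ⟨hee, hne.1⟩) hne.2 fun m hm => (hEc e he m hm).symm)
  have hEcomm : ∀ a b : E, Commute a b := by
    have hle : E ≤ centralizer ({x} : Set G) ⊓ centralizer ({y} : Set G) := sup_le
      (zpowers_le.2 ⟨mem_centralizer_singleton_iff.2 rfl, mem_centralizer_singleton_iff.2 hxy.eq⟩)
      (zpowers_le.2 ⟨mem_centralizer_singleton_iff.2 hxy.symm.eq, mem_centralizer_singleton_iff.2 rfl⟩)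
    intro a b
    have h1 : E ≤ centralizer ({(a : G)} : Set G) := sup_le
      (zpowers_le.2 (mem_centralizer_singleton_iff.2 (mem_centralizer_singleton_iff.1 (hle a.2).1).symm))
      (zpowers_le.2 (mem_centralizer_singleton_iff.2 (mem_centralizer_singleton_iff.1 (hle a.2).2).symm))
    exact Subtype.ext (mem_centralizer_singleton_iff.1 (h1 b.2)).symm
  haveI hEcy : IsCyclic E := by
    obtain ⟨k, hk⟩ : ∃ k : E, orderOf k = 2 := by
      refine exists_prime_orderOf_dvd_card' 2 ?_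
      obtain ⟨n, hn⟩ := IsPGroup.iff_card.1 hp
      rw [hn]
      refine dvd_pow_self 2 fun e => hxR ?_
      rw [e, pow_zero] at hn
      rw [show x = 1 from congrArg Subtype.val
        ((Nat.card_eq_one_iff_unique.1 hn).1.elim (⟨x, mem_sup_left (mem_zpowers x)⟩ : E) 1)]
      exact one_mem _
    refine isCyclic_of_comm (u := k) ⟨hp, hk, fun e he => ?_⟩ hEcomm
    rcases hu e e.2 (congrArg Subtype.val he) with h | h
    · exact Or.inl (Subtype.ext h)
    · refine Or.inr (Subtype.ext (h.trans ?_))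
      rcases hu k k.2 (congrArg Subtype.val (mul_self_of_orderOf_two hk)) with h' | h'
      · exact absurd (Subtype.ext h' : k = 1) (ne_one_of_orderOf_two hk)
      · exact h'.symm
  obtain ⟨g, hg⟩ := IsCyclic.exists_generator (α := E)
  -- one of `x, y` is a power of the other
  have h2 : x ∈ zpowers y ∨ y ∈ zpowers x := by
    obtain ⟨n, hn⟩ := (Nat.dvd_prime_pow Nat.prime_two).1 (orderOf_dvd_of_pow_eq_one hxi) |>.imp fun n h => h.2
    obtain ⟨m, hm⟩ := (Nat.dvd_prime_pow Nat.prime_two).1 (orderOf_dvd_of_pow_eq_one hyj) |>.imp fun n h => h.2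
    have key : ∀ {p q : G}, p ∈ E → q ∈ E → orderOf p ∣ orderOf q → p ∈ zpowers q := fun {p q} hp hq hd => by
      classical
      haveI : Fintype E := Fintype.ofFinite _
      set n := orderOf (⟨q, hq⟩ : E) with hn
      have hsub : Finset.univ.filter (fun a : E => a ∈ zpowers (⟨q, hq⟩ : E)) ⊆
          Finset.univ.filter (fun a : E => a ^ n = 1) := fun a ha => by
        obtain ⟨i, rfl⟩ := mem_zpowers_iff.1 (Finset.mem_filter.1 ha).2
        refine Finset.mem_filter.2 ⟨Finset.mem_univ _, ?_⟩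
        rw [← zpow_natCast, ← zpow_mul, mul_comm, zpow_mul, zpow_natCast, hn, pow_orderOf_eq_one, one_zpow]
      have heq := Finset.eq_of_subset_of_card_le hsub ((IsCyclic.card_pow_eq_one_le (orderOf_pos _)).trans (by
        rw [← Fintype.card_subtype, ← Nat.card_eq_fintype_card]
        exact (Nat.card_zpowers _).ge))
      have hmem : (⟨p, hp⟩ : E) ∈ Finset.univ.filter (fun a : E => a ^ n = 1) := Finset.mem_filter.2
        ⟨Finset.mem_univ _, orderOf_dvd_iff_pow_eq_one.1 (by rw [hn, Subgroup.orderOf_mk, Subgroup.orderOf_mk]; exact hd)⟩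
      rw [← heq] at hmem
      obtain ⟨i, hi⟩ := mem_zpowers_iff.1 (Finset.mem_filter.1 hmem).2
      exact mem_zpowers_iff.2 ⟨i, by rw [← show ((⟨q, hq⟩ : E) : G) = q from rfl, ← SubgroupClass.coe_zpow, hi]⟩
    rcases le_total n m with h | h
    · exact Or.inl (key (mem_sup_left (mem_zpowers x)) (mem_sup_right (mem_zpowers y))
        (by rw [hn, hm]; exact pow_dvd_pow 2 h))
    · exact Or.inr (key (mem_sup_right (mem_zpowers y)) (mem_sup_left (mem_zpowers x))
        (by rw [hn, hm]; exact pow_dvd_pow 2 h))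
  rcases h2 with h | h
  · exact hxR (hR ⟨hx, zpowers_le.2 hy h⟩)
  · exact hyR (hR ⟨zpowers_le.2 hx h, hy⟩)

/-- The two cases. -/
theorem pair_or_simp : Nonempty (Pair c) ∨ Nonempty (Simp c) := by
  obtain ⟨L, -, hLi, hLns, hLp, hLmin⟩ := exists_min (H := (⊤ : Subgroup G)) (C := ⊤) (inv_normal ⊤ ⊤) (fun h => by
    haveI := h
    exact c.ns (Group.isSolvable_of_surjective (f := (topEquiv : (⊤ : Subgroup G) ≃* G).toMonoidHom) topEquiv.surjective))
  haveI hLn : L.Normal := normal_of_inv_top hLi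
  obtain ⟨L₁, hL₁, hi₁, hns₁, hp₁, hmin₁⟩ := exists_min (H := L) (C := L) (inv_normal L L) hLns
  by_cases heq : L₁ = L
  · subst heq
    by_cases hcs : Group.IsSolvable (centralizer (L₁ : Set G))
    · exact Or.inr ⟨⟨L₁, hLn, hLp, hLns, hmin₁, hcs⟩⟩
    obtain ⟨L₂, hL₂, hi₂, hns₂, hp₂, -⟩ := exists_min (H := (⊤ : Subgroup G)) (C := centralizer (L₁ : Set G))
      (inv_normal _ ⊤) hcs
    haveI hL₂n : L₂.Normal := normal_of_inv_top hi₂
    refine Or.inl ⟨⟨⊤, inferInstance, L₁, L₂, le_top, le_top, hLi, hi₂, hLp, hp₂, hLns, hns₂,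
      fun a ha b hb => mem_centralizer_iff.1 (hL₂ hb) a ha, fun g => Or.inl ⟨?_, ?_⟩⟩⟩
    · exact mem_normalizer_iff_map.1 (by rw [normalizer_eq_top_iff.2 hLn]; exact mem_top g)
    · exact mem_normalizer_iff_map.1 (by rw [normalizer_eq_top_iff.2 hL₂n]; exact mem_top g)
  let cj : G → Subgroup G := fun g => L₁.map (MulAut.conj g).toMonoidHom
  have hcjL : ∀ g, cj g ≤ L := by
    rintro g _ ⟨x, hx, rfl⟩
    exact hLn.conj_mem x (hL₁ hx) g
  have hcji : ∀ g, Inv L (cj g) := by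
    rintro g l hl _ ⟨x, hx, rfl⟩
    refine ⟨g⁻¹ * l * g * x * (g⁻¹ * l * g)⁻¹, hi₁ _ ?_ x hx, by simp [mul_assoc]⟩
    simpa using hLn.conj_mem l hl g⁻¹
  have hcjp : ∀ g, ⁅cj g, cj g⁆ = cj g := fun g => by
    show ⁅L₁.map _, L₁.map _⁆ = L₁.map _
    rw [← map_commutator, hp₁]
  have hcjns : ∀ g, ¬ Group.IsSolvable (cj g) := fun g h => hns₁ (by
    haveI := h
    exact Group.isSolvable_of_isSolvable_injective
      (f := (L₁.equivMapOfInjective (MulAut.conj g).toMonoidHom (MulAut.conj g).injective).toMonoidHom) (MulEquiv.injective _))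
  have hcjmin : ∀ g, ∀ M : Subgroup G, M ≤ cj g → Inv L M → ¬ Group.IsSolvable M → M = cj g := by
    intro g M hM hMi hMns
    have h1 : M.map (MulAut.conj g⁻¹).toMonoidHom = L₁ := by
      refine hmin₁ _ ?_ ?_ fun h => hMns ?_
      · rintro _ ⟨x, hx, rfl⟩
        obtain ⟨y, hy, rfl⟩ := hM hx
        simpa [mul_assoc] using hy
      · rintro l hl _ ⟨x, hx, rfl⟩
        exact ⟨g * l * g⁻¹ * x * (g * l * g⁻¹)⁻¹, hMi _ (hLn.conj_mem l hl g) x hx, by simp [mul_assoc]⟩
      · haveI := h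
        exact Group.isSolvable_of_isSolvable_injective
          (f := (M.equivMapOfInjective (MulAut.conj g⁻¹).toMonoidHom (MulAut.conj g⁻¹).injective).toMonoidHom) (MulEquiv.injective _)
    refine le_antisymm hM ?_
    rintro _ ⟨x, hx, rfl⟩
    obtain ⟨m, hm, rfl⟩ := h1.ge hx
    simpa [mul_assoc] using hm
  have hcomm : ∀ g k, cj g ≠ cj k → (∀ a ∈ cj g, ∀ b ∈ cj k, Commute a b) ∧ cj g ⊓ cj k ≤ c.R := fun g k hne =>
    c.commute_min (hcjL g) (hcjL k) (hcji g) (hcji k) (hcjp k) (hcjmin g) fun hle =>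
      hne (hcjmin k _ hle (hcji g) (hcjns g))
  have h1 : cj 1 = L₁ := by ext x; simp [cj]
  obtain ⟨a, ha⟩ : ∃ a, cj a ≠ L₁ := by
    by_contra hall
    push Not at hall
    refine heq (hLmin L₁ hL₁ (fun g _ x hx => ?_) hns₁)
    exact (hall g).le ⟨x, hx, rfl⟩
  have hall : ∀ g, cj g = L₁ ∨ cj g = cj a := fun g => by
    by_contra hne
    rw [not_or] at hne
    obtain ⟨hAB, hR⟩ := hcomm 1 a (by rw [h1]; exact ha.symm)
    exact c.false_of_three (hcjp 1) (hcjns 1) (hcjns a) (hcjns g) hAB hR (hcomm 1 g (by rw [h1]; exact (Ne.symm hne.1))).1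
      (hcomm a g (Ne.symm hne.2)).1
  have hmul : ∀ g k, (cj k).map (MulAut.conj g).toMonoidHom = cj (g * k) := fun g k => by
    show (L₁.map _).map _ = L₁.map _
    rw [Subgroup.map_map]
    congr 1
    ext x
    simp [mul_assoc]
  have hinj : ∀ g, (cj a).map (MulAut.conj g).toMonoidHom ≠ L₁.map (MulAut.conj g).toMonoidHom := fun g e =>
    ha (map_injective (MulAut.conj g).injective e)
  refine Or.inl ⟨⟨L, hLn, L₁, cj a, hL₁, hcjL a, hi₁, hcji a, hp₁, hcjp a, hns₁, hcjns a,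
    h1 ▸ (hcomm 1 a (by rw [h1]; exact ha.symm)).1, fun g => ?_⟩⟩
  have h2 := hinj g
  rw [hmul] at h2 ⊢
  rcases hall g with e | e <;> rcases hall (g * a) with e' | e'
  · exact absurd (e'.trans e.symm) h2
  · exact Or.inl ⟨e, e'⟩
  · exact Or.inr ⟨e, e'⟩
  · exact absurd (e'.trans e.symm) h2

/-- The same data at another Sylow subgroup. -/
theorem exists_at (c : Cfg G) (S' : Sylow 2 G) : ∃ c' : Cfg G, c'.S = S' := by
  obtain ⟨g, hg⟩ := MulAction.exists_smul_eq G c.S S'
  obtain ⟨y, hy, hy2, hyu⟩ := c.four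
  refine ⟨{ c with S := S', four := ⟨g * y * g⁻¹, ?_, by rw [orderOf_conj_eq, hy2], fun e => hyu ?_⟩ }, rfl⟩
  · rw [← hg, CentRank.mem_smul_sylow, show g⁻¹ * (g * y * g⁻¹) * g = y by group]
    exact hy
  · rw [show y = g⁻¹ * (g * y * g⁻¹) * g by group, e, mul_assoc, ← (c.ucen g).eq, inv_mul_cancel_left]

end Cfg

/-- The outcome with `O₂(G) ≠ 1` and trivial odd core. -/
theorem concl_of_cfg (c : Cfg G) :
    ConclTwo G ∨ ConclOne G ∨ ∀ S T : Sylow 2 G, S ≠ T → IsCyclic ↥((S : Subgroup G) ⊓ (T : Subgroup G)) := by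
  by_cases h2 : ConclTwo G
  · exact Or.inl h2
  by_cases h1 : ConclOne G
  · exact Or.inr (Or.inl h1)
  refine Or.inr (Or.inr fun S T hST => ?_)
  obtain ⟨c', rfl⟩ := c.exists_at S
  rcases c'.pair_or_simp with ⟨⟨P⟩⟩ | ⟨⟨D⟩⟩
  · exact absurd P.concl h2
  · by_cases hc : ∀ x y : c'.Q, Commute x y
    · exact D.isCyclic_inf D.allGood hc hST
    · exact absurd (D.concl_one D.allGood hc) h1

end Cfsg.Agent.Invol.RankOneInter
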