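import Cfsg.Agent.Lib.Invol.RankOneInter.Bender
import Cfsg.Agent.Lib.Invol.Core2.TwistFiveAt
import Cfsg.Agent.Lib.Transfer.CentralFour.Pair
import Cfsg.Agent.S0111

/-!
# An extraspecial Sylow subgroup with one-pointed involutions

`C ⧸ ⟨u⟩` is simple with elementary abelian Sylow 2-subgroup `T ⧸ ⟨u⟩`, and an involution other than `u` lies in
one conjugate of `T` only. A root of `u` with centraliser outside `N(T)` gives an orbit of five points, so `T` is
the central product of two quaternion groups, each strongly closed, which is impossible.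
-/

set_option autoImplicit false
set_option linter.style.haveILetI false
set_option linter.unusedSectionVars false

open Subgroup
open scoped commutatorElement

namespace Cfsg.Agent.Invol.RankOneInter

universe u

variable {C : Type u} [Group C] [Finite C] {T : Sylow 2 C} {u : C}

/-- An extraspecial Sylow 2-subgroup with control at the involutions other than `u`. -/
structure Ex (T : Sylow 2 C) (u : C) : Prop where
  two : orderOf u = 2
  cent : ∀ g : C, Commute g u
  cz : ∀ z : C, z ∈ center C → z = 1 ∨ z = u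
  sq : ∀ x ∈ (T : Subgroup C), x * x = 1 ∨ x * x = u
  sgn : ∀ x ∈ (T : Subgroup C), ∀ y ∈ (T : Subgroup C), y * x = x * y ∨ y * x = x * y * u
  cen : ∀ z ∈ (T : Subgroup C), (∀ y ∈ (T : Subgroup C), Commute z y) → z = 1 ∨ z = u
  invol : ∃ t ∈ (T : Subgroup C), orderOf t = 2 ∧ t ≠ u
  fix : ∀ y ∈ (T : Subgroup C), orderOf y = 2 → y ≠ u → ∀ g : C, g * y * g⁻¹ ∈ (T : Subgroup C) →
    g ∈ normalizer ((T : Subgroup C) : Set C)
  proper : normalizer ((T : Subgroup C) : Set C) ≠ ⊤

namespace Ex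

theorem uu (h : Ex T u) : u * u = 1 := mul_self_of_orderOf_two h.two

theorem u_ne (h : Ex T u) : u ≠ 1 := ne_one_of_orderOf_two h.two

theorem uu_cancel (h : Ex T u) {x : C} : x * u * u = x := by rw [mul_assoc, h.uu, mul_one]

theorem swap (h : Ex T u) {x y : C} : x * u * y = x * y * u := by rw [mul_assoc, ← (h.cent y).eq, mul_assoc]

theorem u_mem_T (h : Ex T u) : u ∈ (T : Subgroup C) := by
  haveI : Fact (Nat.Prime 2) := ⟨Nat.prime_two⟩
  obtain ⟨g, hg⟩ := exists_conj_mem_sylow (x := u) (p := 2) (n := 1) (by rw [h.two, pow_one]) T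
  rwa [(h.cent g).eq, mul_inv_cancel_right] at hg

theorem u_center (h : Ex T u) : u ∈ center C := mem_center_iff.2 fun g => (h.cent g).eq

theorem ax (h : Ex T u) : Core2.AX (normalizer ((T : Subgroup C) : Set C)) (⊥ : Subgroup C) := by
  refine ⟨h.proper, by simp, bot_le, fun _ _ => ?_, fun a b g ha hb hab _ haH hbH hga hgb => ?_, fun a ha ha2 => ?_⟩
  · exact mem_normalizer_fintype fun b hb => by simp_all
  · have hmem : ∀ {x : C}, orderOf x = 2 → x ∈ normalizer ((T : Subgroup C) : Set C) → x ∈ (T : Subgroup C) :=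
      fun hx hn => mem_sylow_of_normalizes T hx hn
    by_cases hau : a = u
    · exact h.fix b (hmem hb hbH) hb (fun e => hab (hau.trans e.symm)) g (hmem (by rw [orderOf_conj_eq, hb]) hgb)
    · exact h.fix a (hmem ha haH) ha hau g (hmem (by rw [orderOf_conj_eq, ha]) hga)
  · by_cases hau : a = u
    · obtain ⟨t, ht, ht2, htu⟩ := h.invol
      exact ⟨t, le_normalizer ht, ht2, fun e => htu (e.symm.trans hau), by rw [hau]; exact (h.cent t).symm.eq⟩
    · exact ⟨u, le_normalizer h.u_mem_T, h.two, hau, (h.cent a).eq⟩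

theorem mk_eq (h : Ex T u) {x y : C} (e : QuotientGroup.mk' (center C) x = QuotientGroup.mk' (center C) y) :
    y = x ∨ y = x * u := by
  rcases h.cz _ (QuotientGroup.eq.1 e) with e' | e'
  · exact Or.inl (inv_mul_eq_one.1 e').symm
  · exact Or.inr (inv_mul_eq_iff_eq_mul.1 e')

theorem mk_u (h : Ex T u) {x : C} : QuotientGroup.mk' (center C) (x * u) = QuotientGroup.mk' (center C) x := by
  rw [map_mul, show QuotientGroup.mk' (center C) u = 1 from (QuotientGroup.eq_one_iff _).2 h.u_center, mul_one]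

theorem sq_conj (h : Ex T u) (g : C) {x : C} (hx : x * x = u) : g * x * g⁻¹ * (g * x * g⁻¹) = u := by
  rw [show g * x * g⁻¹ * (g * x * g⁻¹) = g * (x * x) * g⁻¹ by group, hx, (h.cent g).eq, mul_inv_cancel_right]

theorem sq_mul_u (h : Ex T u) {x : C} : x * u * (x * u) = x * x := by
  rw [← mul_assoc, h.swap, h.uu_cancel]

theorem anti_symm (h : Ex T u) {x y : C} (hyx : y * x = x * y * u) : x * y = y * x * u := by
  rw [hyx, h.uu_cancel]

theorem commute_of_not_anti (h : Ex T u) {x y : C} (hx : x ∈ (T : Subgroup C)) (hy : y ∈ (T : Subgroup C))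
    (hn : y * x ≠ x * y * u) : Commute x y := ((h.sgn x hx y hy).resolve_right hn).symm

theorem exists_anti (h : Ex T u) {x : C} (hx : x ∈ (T : Subgroup C)) (hx1 : x ≠ 1) (hxu : x ≠ u) :
    ∃ y ∈ (T : Subgroup C), y * x = x * y * u := by
  by_contra hno
  push Not at hno
  exact (h.cen x hx fun y hy => h.commute_of_not_anti hx hy (hno y hy)).elim hx1 hxu

theorem not_anti_self (h : Ex T u) {x y : C} (hc : Commute x y) : y * x ≠ x * y * u := fun e => by
  rw [← hc.eq] at e
  exact h.u_ne (left_eq_mul.1 e)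

theorem root_ne (h : Ex T u) {x : C} (hx : x * x = u) : x ≠ 1 ∧ x ≠ u := by
  constructor <;> rintro rfl
  · exact h.u_ne (by rw [one_mul] at hx; exact hx.symm)
  · exact h.u_ne (hx.symm.trans h.uu)

theorem exists_root (h : Ex T u) : ∃ r ∈ (T : Subgroup C), r * r = u := by
  obtain ⟨t, ht, ht2, htu⟩ := h.invol
  obtain ⟨y, hy, e⟩ := h.exists_anti ht (ne_one_of_orderOf_two ht2) htu
  rcases h.sq y hy with hyy | hyy
  · refine ⟨t * y, mul_mem ht hy, ?_⟩
    rw [show t * y * (t * y) = t * (y * t) * y by group, e, ← mul_assoc, ← mul_assoc,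
      mul_self_of_orderOf_two ht2, one_mul, h.swap, hyy, one_mul]
  · exact ⟨y, hy, hyy⟩

/-- Some root has its centraliser outside the normaliser. -/
theorem exists_moved (h : Ex T u) [IsSimpleGroup (C ⧸ center C)] (hna : ¬ IsMulCommutative (C ⧸ center C)) :
    ∃ v ∈ (T : Subgroup C), v * v = u ∧ ¬ centralizer ({v} : Set C) ≤ normalizer ((T : Subgroup C) : Set C) := by
  haveI : Fact (Nat.Prime 2) := ⟨Nat.prime_two⟩
  by_contra hno
  push Not at hno
  set π := QuotientGroup.mk' (center C) with hπ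
  set S₁ := T.mapSurjective (QuotientGroup.mk'_surjective (center C)) with hS₁
  have hback : ∀ {x : C}, π x ∈ (S₁ : Subgroup (C ⧸ center C)) → x ∈ (T : Subgroup C) := by
    rintro x ⟨y, hy, e⟩
    rcases h.mk_eq e with rfl | rfl
    exacts [hy, mul_mem hy h.u_mem_T]
  haveI : IsMulCommutative (S₁ : Subgroup (C ⧸ center C)) := ⟨⟨by
    rintro ⟨_, x, hx, rfl⟩ ⟨_, y, hy, rfl⟩
    refine Subtype.ext ?_
    show π x * π y = π y * π x
    rw [← map_mul, ← map_mul]
    rcases h.sgn x hx y hy with e | e <;> rw [e]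
    exact h.mk_u.symm⟩⟩
  have hctl : Ctl S₁ := by
    intro t ht ht2 g hg
    obtain ⟨x, hx, rfl⟩ := ht
    obtain ⟨g, rfl⟩ := QuotientGroup.mk'_surjective _ g
    rw [← map_inv, ← map_mul, ← map_mul] at hg
    refine Subgroup.le_normalizer_map π ⟨g, ?_, rfl⟩
    have hx1 : x ≠ 1 := fun e => ne_one_of_orderOf_two ht2 (by rw [e, map_one])
    have hxu : x ≠ u := fun e => ne_one_of_orderOf_two ht2 ((QuotientGroup.eq_one_iff _).2 (e ▸ h.u_center))
    rcases h.sq x hx with hxx | hxx
    · exact h.fix x hx (orderOf_two_iff.2 ⟨hxx, hx1⟩) hxu g (hback hg)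
    obtain ⟨n, hn, e⟩ := S₁.conj_eq_normalizer_conj_of_mem (π x) (π g)⁻¹ ⟨x, hx, rfl⟩ (by
      rw [inv_inv, ← map_inv, ← map_mul, ← map_mul]
      exact ⟨_, hback hg, rfl⟩)
    obtain ⟨m, rfl⟩ := QuotientGroup.mk'_surjective _ n
    have hm : m ∈ normalizer ((T : Subgroup C) : Set C) := by
      refine mem_normalizer_fintype fun y hy => hback ?_
      rw [map_mul, map_mul, map_inv]
      exact (mem_normalizer_iff.1 hn _).1 ⟨y, hy, rfl⟩
    rw [inv_inv, ← map_inv, ← map_inv, ← map_mul, ← map_mul, ← map_mul, ← map_mul] at e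
    obtain ⟨t, ht', hdx⟩ : ∃ t ∈ (T : Subgroup C), Commute (t * (m * g)) x := by
      have e2 : m * g * x * (m * g)⁻¹ = x ∨ m * g * x * (m * g)⁻¹ = x * u := by
        rw [show m * g * x * (m * g)⁻¹ = m * (g * x * g⁻¹) * m⁻¹ by group]
        rcases h.mk_eq e with e1 | e1
        · left
          rw [← e1]; group
        · right
          rw [show g * x * g⁻¹ = m⁻¹ * x * m * u by rw [e1, h.uu_cancel], mul_assoc m, h.swap]
          group
      rcases e2 with e2 | e2
      · exact ⟨1, one_mem _, by rw [one_mul]; exact mul_inv_eq_iff_eq_mul.1 e2⟩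
      · obtain ⟨t, ht', et⟩ := h.exists_anti hx hx1 hxu
        refine ⟨t, ht', mul_inv_eq_iff_eq_mul.1 ?_⟩
        rw [show t * (m * g) * x * (t * (m * g))⁻¹ = t * (m * g * x * (m * g)⁻¹) * t⁻¹ by group, e2,
          ← mul_assoc, h.swap, et, mul_assoc (x * t) u, ← (h.cent t⁻¹).eq, ← mul_assoc, mul_inv_cancel_right,
          h.uu_cancel]
    have := mul_mem (inv_mem hm) (mul_mem (inv_mem (le_normalizer ht'))
      (hno x hx hxx (mem_centralizer_singleton_iff.2 hdx.eq)))
    simpa [mul_assoc] using this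
  obtain ⟨t, ht, ht2, htu⟩ := h.invol
  obtain ⟨r, hr, hrr⟩ := h.exists_root
  have htwo : ∀ {x : C}, x ∈ (T : Subgroup C) → x ≠ 1 → x ≠ u → orderOf (π x) = 2 := fun {x} hx h1 h2 => by
    refine orderOf_two_iff.2 ⟨?_, fun e => ?_⟩
    · rw [← map_mul]
      rcases h.sq x hx with e | e <;> rw [e]
      · exact map_one _
      · exact (QuotientGroup.eq_one_iff _).2 h.u_center
    · exact (h.cz x ((QuotientGroup.eq_one_iff _).1 e)).elim h1 h2
  have hne : normalizer ((S₁ : Subgroup (C ⧸ center C)) : Set (C ⧸ center C)) ≠ ⊤ := fun e => h.proper (by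
    refine eq_top_iff.2 fun g _ => mem_normalizer_fintype fun y hy => hback ?_
    rw [map_mul, map_mul, map_inv]
    exact (mem_normalizer_iff.1 (e.ge (mem_top (π g))) _).1 ⟨y, hy, rfl⟩)
  obtain ⟨k, hk⟩ := isConj_iff.1 (isConj_of_ctl hctl hne (htwo ht (ne_one_of_orderOf_two ht2) htu)
    (htwo hr (h.root_ne hrr).1 (h.root_ne hrr).2))
  obtain ⟨g, rfl⟩ := QuotientGroup.mk'_surjective _ k
  rw [← map_inv, ← map_mul, ← map_mul] at hk
  have h2 : g * t * g⁻¹ * (g * t * g⁻¹) = 1 := by
    rw [show g * t * g⁻¹ * (g * t * g⁻¹) = g * (t * t) * g⁻¹ by group, mul_self_of_orderOf_two ht2, mul_one,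
      mul_inv_cancel]
  rcases h.mk_eq hk with e | e <;> rw [e] at hrr
  · exact h.u_ne (hrr.symm.trans h2)
  · rw [h.sq_mul_u] at hrr
    exact h.u_ne (hrr.symm.trans h2)

/-- The centraliser of a root in `T` contains two anticommuting involutions. -/
theorem exists_pair (h : Ex T u) [IsSimpleGroup (C ⧸ center C)] (hna : ¬ IsMulCommutative (C ⧸ center C)) {v : C}
    (hv : v ∈ (T : Subgroup C)) (hvv : v * v = u) :
    ∃ a ∈ (T : Subgroup C), ∃ b ∈ (T : Subgroup C), a * a = 1 ∧ b * b = 1 ∧ Commute a v ∧ Commute b v ∧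
      b * a = a * b * u := by
  haveI : Fact (Nat.Prime 2) := ⟨Nat.prime_two⟩
  by_contra hno
  obtain ⟨w, hw, hwv⟩ := h.exists_anti hv (h.root_ne hvv).1 (h.root_ne hvv).2
  have hvT : zpowers v ≤ (T : Subgroup C) := zpowers_le.2 hv
  have huv : u ∈ zpowers v := hvv ▸ mul_mem (mem_zpowers v) (mem_zpowers v)
  have hmk : ∀ {x : C}, x ∈ (T : Subgroup C) → Commute x v →
      ∃ e, (e = x ∨ e = x * v) ∧ e ∈ (T : Subgroup C) ∧ e * e = 1 ∧ Commute e v := fun {x} hx hc => by
    rcases h.sq x hx with e | e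
    · exact ⟨x, Or.inl rfl, hx, e, hc⟩
    · exact ⟨x * v, Or.inr rfl, mul_mem hx hv, by rw [hc.symm.mul_mul_mul_comm, e, hvv, h.uu],
        hc.mul_left (Commute.refl v)⟩
  -- the centraliser of `v` in `T` is abelian, so it is `⟨v⟩`
  have hab : ∀ {x y : C}, x ∈ (T : Subgroup C) → y ∈ (T : Subgroup C) → Commute x v → Commute y v → Commute x y := by
    intro x y hx hy hxc hyc
    refine h.commute_of_not_anti hx hy fun e => hno ?_
    obtain ⟨a, ha', haT, haa, hac⟩ := hmk hx hxc
    obtain ⟨b, hb', hbT, hbb, hbc⟩ := hmk hy hyc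
    refine ⟨a, haT, b, hbT, haa, hbb, hac, hbc, ?_⟩
    have h1 : y * (x * v) = x * v * y * u := by
      rw [← mul_assoc, e, h.swap, mul_assoc x y v, hyc.eq, ← mul_assoc]
    rcases ha' with ha' | ha' <;> rcases hb' with hb' | hb' <;> rw [ha', hb']
    · exact e
    · rw [mul_assoc y v, ← hxc.eq, ← mul_assoc, e, h.swap, mul_assoc x y v]
    · exact h1
    · rw [mul_assoc y v, ← (hxc.mul_left (Commute.refl v)).eq, ← mul_assoc, h1, h.swap, mul_assoc (x * v) y v]
  have hcyc : ∀ {x : C}, x ∈ (T : Subgroup C) → Commute x v → x ∈ zpowers v := by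
    intro x hx hc
    have hcen : ∀ z, z ∈ (T : Subgroup C) → Commute z v → Commute z w → z ∈ zpowers v := by
      intro z hz hzv hzw
      have hz' : ∀ y ∈ (T : Subgroup C), Commute z y := fun y hy => by
        rcases h.sgn v hv y hy with e | e
        · exact hab hz hy hzv e
        · have h1 : Commute (w⁻¹ * y) v := by
            show w⁻¹ * y * v = v * (w⁻¹ * y)
            have h2 : w⁻¹ * v * u = v * w⁻¹ := by
              calc w⁻¹ * v * u = w⁻¹ * (v * w * u) * w⁻¹ := by
                    rw [← mul_assoc (w⁻¹) (v * w) u, ← mul_assoc, h.swap, mul_inv_cancel_right]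
                _ = v * w⁻¹ := by rw [← hwv]; group
            rw [mul_assoc, e, ← mul_assoc, ← mul_assoc, ← mul_assoc, ← h2, h.swap]
          have := hzw.mul_right (hab hz (mul_mem (inv_mem hw) hy) hzv h1)
          rwa [mul_inv_cancel_left] at this
      rcases h.cen z hz hz' with e | e
      · rw [e]; exact one_mem _
      · rw [e]; exact huv
    by_cases hxw : w * x = x * w * u
    · have h1 := hcen (x * v) (mul_mem hx hv) (hc.mul_left (Commute.refl v)) (by
        show x * v * w = w * (x * v)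
        rw [← mul_assoc, hxw, h.swap, mul_assoc x v w, mul_assoc x w v, mul_assoc x (w * v) u, hwv, h.uu_cancel])
      simpa using mul_mem h1 (inv_mem (mem_zpowers v))
    · exact hcen x hx hc (h.commute_of_not_anti hx hw hxw)
  -- transfer of an involution outside `⟨v⟩`
  obtain ⟨t, ht, ht2, htu⟩ := h.invol
  have htt := mul_self_of_orderOf_two ht2
  have hroots : ∀ {x : C}, x ∈ zpowers v → x ≠ 1 → x ≠ u → x * x = u := by
    intro x hx h1 h2
    obtain ⟨i, rfl⟩ := mem_zpowers_iff.1 hx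
    rcases Int.even_or_odd i with ⟨j, rfl⟩ | ⟨j, rfl⟩
    · exfalso
      rw [← two_mul, zpow_mul, zpow_two, hvv] at h1 h2
      rcases Int.even_or_odd j with ⟨k, rfl⟩ | ⟨k, rfl⟩
      · exact h1 (by rw [← two_mul, zpow_mul, zpow_two, h.uu, one_zpow])
      · exact h2 (by rw [zpow_add, zpow_mul, zpow_two, h.uu, one_zpow, one_mul, zpow_one])
    · rw [← zpow_add, show 2 * j + 1 + (2 * j + 1) = 2 * (2 * j + 1) by ring, zpow_mul, zpow_two, hvv, zpow_add,
        zpow_mul, zpow_two, h.uu, one_zpow, one_mul, zpow_one]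
  have htv : t ∉ zpowers v := fun e => h.u_ne ((hroots e (ne_one_of_orderOf_two ht2) htu).symm.trans htt)
  set π := QuotientGroup.mk' (center C) with hπ
  set S₁ := T.mapSurjective (QuotientGroup.mk'_surjective (center C)) with hS₁
  have hmem : ∀ {x : C}, π x ∈ (zpowers v).map π → x ∈ zpowers v := by
    rintro x ⟨y, hy, e⟩
    rcases h.mk_eq e with rfl | rfl
    exacts [hy, mul_mem hy huv]
  have hrel : ((zpowers v).map π).relIndex (S₁ : Subgroup (C ⧸ center C)) = 2 := by
    refine index_eq_two_iff.2 ⟨⟨π w, ⟨w, hw, rfl⟩⟩, ?_⟩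
    rintro ⟨_, y, hy, rfl⟩
    simp only [mem_subgroupOf, Subgroup.coe_mul]
    rw [← map_mul]
    rcases h.sgn v hv y hy with e | e
    · refine Or.inr ⟨mem_map_of_mem π (hcyc hy e), fun hh => ?_⟩
      have h1 : w ∈ zpowers v := by simpa using mul_mem (inv_mem (hcyc hy e)) (hmem hh)
      obtain ⟨i, rfl⟩ := mem_zpowers_iff.1 h1
      exact h.not_anti_self (Commute.self_zpow v i) hwv
    · refine Or.inl ⟨mem_map_of_mem π (hcyc (mul_mem hy hw) ?_), fun hh => ?_⟩
      · show y * w * v = v * (y * w)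
        rw [mul_assoc, hwv, ← mul_assoc, ← mul_assoc, e, h.swap, h.uu_cancel, mul_assoc]
      · obtain ⟨i, rfl⟩ := mem_zpowers_iff.1 (hmem hh)
        exact h.not_anti_self (Commute.self_zpow v i) e
  rcases S0111.result S₁ ((zpowers v).map π) (map_mono hvT) hrel (π t) (orderOf_two_iff.2
      ⟨by rw [← map_mul, htt, map_one],
      fun e => (h.cz t ((QuotientGroup.eq_one_iff _).1 e)).elim (ne_one_of_orderOf_two ht2) htu⟩)
    ⟨t, ht, rfl⟩ (fun e => htv (hmem e)) with ⟨N, hN, hNi, -⟩ | ⟨k, hk⟩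
  · rcases hN.eq_bot_or_eq_top with e | e
    · rw [e, index_bot] at hNi
      haveI : IsCyclic (C ⧸ center C) := isCyclic_of_prime_card (p := 2) hNi
      exact hna (IsCyclic.commutative (α := C ⧸ center C))
    · rw [e, index_top] at hNi; omega
  obtain ⟨g, rfl⟩ := QuotientGroup.mk'_surjective _ k
  rw [← map_inv, ← map_mul, ← map_mul] at hk
  have h2 : g * t * g⁻¹ * (g * t * g⁻¹) = 1 := by
    rw [show g * t * g⁻¹ * (g * t * g⁻¹) = g * (t * t) * g⁻¹ by group, htt, mul_one, mul_inv_cancel]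
  refine h.u_ne ((hroots (hmem hk) (fun e => ne_one_of_orderOf_two ht2 (conj_eq_one_iff.1 e)) fun e => htu ?_).symm.trans h2)
  rw [show t = g⁻¹ * (g * t * g⁻¹) * g by group, e, mul_assoc, ← (h.cent g).eq, inv_mul_cancel_left]

end Ex

end Cfsg.Agent.Invol.RankOneInter
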