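import Cfsg.Agent.Lib.Invol.RankOneInter.Extraspecial

/-!
# Five points of a root force two quaternion factors, each strongly closed

The orbit of five points gives `T = Q * W` with quaternion factors, an element of odd order fixing `W` moves the
three roots of `Q` cyclically, and no element of `N(T)` exchanges the factors.
-/

set_option autoImplicit false
set_option linter.style.haveILetI false
set_option linter.unusedSectionVars false

open Subgroup
open scoped commutatorElement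

namespace Cfsg.Agent.Invol.RankOneInter

universe u

variable {C : Type u} [Group C] [Finite C] {T : Sylow 2 C} {u : C}

namespace Ex

theorem cyc (h : Ex T u) {v : C} (hv : v ∈ (T : Subgroup C)) (hvv : v * v = u) :
    Core2.Cyc (normalizer ((T : Subgroup C) : Set C)) (zpowers v) u := by
  refine ⟨hvv ▸ mul_mem (mem_zpowers v) (mem_zpowers v), zpowers_le.2 (le_normalizer hv),
    T.isPGroup'.to_le (zpowers_le.2 hv), fun a ha b hb => ?_, fun a ha haa => ?_⟩
  · obtain ⟨i, rfl⟩ := mem_zpowers_iff.1 ha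
    obtain ⟨j, rfl⟩ := mem_zpowers_iff.1 hb
    exact (Commute.zpow_zpow_self v i j).eq
  · obtain ⟨i, rfl⟩ := mem_zpowers_iff.1 ha
    rcases Int.even_or_odd i with ⟨j, rfl⟩ | ⟨j, rfl⟩
    · rw [← two_mul, zpow_mul, zpow_two, hvv]
      rcases Int.even_or_odd j with ⟨k, rfl⟩ | ⟨k, rfl⟩
      · exact Or.inl (by rw [← two_mul, zpow_mul, zpow_two, h.uu, one_zpow])
      · exact Or.inr (by rw [zpow_add, zpow_mul, zpow_two, h.uu, one_zpow, one_mul, zpow_one])
    · exfalso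
      rw [← zpow_add, show 2 * j + 1 + (2 * j + 1) = 2 * (2 * j + 1) by ring, zpow_mul, zpow_two, hvv, zpow_add,
        zpow_mul, zpow_two, h.uu, one_zpow, one_mul, zpow_one] at haa
      exact h.u_ne haa

theorem conj_trivial (h : Ex T u) {s x : C} (hs : s ∈ (T : Subgroup C)) (hx : x ∈ (T : Subgroup C)) :
    s * x * s⁻¹ = x ∨ s * x * s⁻¹ = x * u := by
  rcases h.sgn x hx s hs with e | e
  · exact Or.inl (by rw [e, mul_inv_cancel_right])
  · exact Or.inr (by rw [e, h.swap.symm, mul_inv_cancel_right])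

theorem mk_comm (h : Ex T u) {x y : C} (hx : x ∈ (T : Subgroup C)) (hy : y ∈ (T : Subgroup C)) :
    Commute (QuotientGroup.mk' (center C) x) (QuotientGroup.mk' (center C) y) := by
  show _ * _ = _ * _
  rw [← map_mul, ← map_mul]
  rcases h.sgn x hx y hy with e | e <;> rw [e]
  exact h.mk_u.symm

/-- An element of `T` times one of `1, v, w, vw` centralises the anticommuting pair. -/
theorem exists_adjust (h : Ex T u) {v w x : C} (hv : v ∈ (T : Subgroup C)) (hw : w ∈ (T : Subgroup C))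
    (hx : x ∈ (T : Subgroup C)) (hwv : w * v = v * w * u) :
    ∃ f ∈ closure ({v, w} : Set C), Commute (x * f) v ∧ Commute (x * f) w := by
  have hvc : v ∈ closure ({v, w} : Set C) := subset_closure (Set.mem_insert v {w})
  have hwc : w ∈ closure ({v, w} : Set C) := subset_closure (Set.mem_insert_of_mem v rfl)
  have hvw : v * w = w * v * u := h.anti_symm hwv
  have hxf : ∀ {p q r : C}, p * r = r * p * u → q * r = r * q * u → Commute (p * q) r := fun {p q r} h1 h2 => by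
    show p * q * r = r * (p * q)
    rw [mul_assoc, h2, ← mul_assoc, ← mul_assoc, h1, h.swap, h.uu_cancel, mul_assoc]
  have hxm : ∀ {p q r : C}, Commute p r → q * r = r * q * u → p * q * r = r * (p * q) * u := fun {p q r} h1 h2 => by
    rw [mul_assoc, h2, ← mul_assoc, ← mul_assoc, h1.eq, mul_assoc r p q]
  rcases h.sgn v hv x hx with e1 | e1 <;> rcases h.sgn w hw x hx with e2 | e2
  · exact ⟨1, one_mem _, by rw [mul_one]; exact e1, by rw [mul_one]; exact e2⟩
  · exact ⟨v, hvc, (show Commute x v from e1).mul_left (Commute.refl v), hxf e2 hvw⟩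
  · exact ⟨w, hwc, hxf e1 hwv, (show Commute x w from e2).mul_left (Commute.refl w)⟩
  · have hvww : v * w * w = w * (v * w) * u := by
      conv_lhs => rw [hvw]
      rw [h.swap, mul_assoc w v w]
    exact ⟨v * w, mul_mem hvc hwc, hxf e1 (hxm (Commute.refl v) hwv), hxf e2 hvww⟩

/-- The factor `Q = C_T(v, w)` of an anticommuting pair. -/
def fac (T : Sylow 2 C) (v w : C) : Subgroup C :=
  (T : Subgroup C) ⊓ (centralizer ({v} : Set C) ⊓ centralizer ({w} : Set C))

theorem mem_fac {v w x : C} : x ∈ fac T v w ↔ x ∈ (T : Subgroup C) ∧ Commute x v ∧ Commute x w :=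
  ⟨fun hx => ⟨hx.1, mem_centralizer_singleton_iff.1 hx.2.1, mem_centralizer_singleton_iff.1 hx.2.2⟩,
    fun hx => ⟨hx.1, mem_centralizer_singleton_iff.2 hx.2.1.eq, mem_centralizer_singleton_iff.2 hx.2.2.eq⟩⟩

/-- The data found at a root: two commuting factors spanning `T`, both quaternion modulo nothing. -/
structure Two (T : Sylow 2 C) (u : C) (Q W : Subgroup C) : Prop where
  leQ : Q ≤ (T : Subgroup C)
  leW : W ≤ (T : Subgroup C)
  uQ : u ∈ Q
  uW : u ∈ W
  uniqQ : ∀ x ∈ Q, x * x = 1 → x = 1 ∨ x = u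
  uniqW : ∀ x ∈ W, x * x = 1 → x = 1 ∨ x = u
  comm : ∀ x ∈ Q, ∀ y ∈ W, Commute x y
  span : ∀ t ∈ (T : Subgroup C), ∃ x ∈ Q, ∃ y ∈ W, t = x * y
  pairQ : ∃ x ∈ Q, ∃ y ∈ Q, x * x = u ∧ y * y = u ∧ y * x = x * y * u
  pairW : ∃ x ∈ W, ∃ y ∈ W, x * x = u ∧ y * y = u ∧ y * x = x * y * u

theorem exists_two (h : Ex T u) {v a b : C} (hv : v ∈ (T : Subgroup C)) (hvv : v * v = u)
    (hmv : ¬ centralizer ({v} : Set C) ≤ normalizer ((T : Subgroup C) : Set C)) (haT : a ∈ (T : Subgroup C))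
    (hbT : b ∈ (T : Subgroup C)) (haa : a * a = 1) (hbb : b * b = 1) (hav : Commute a v) (hbv : Commute b v)
    (hab : b * a = a * b * u) : ∃ Q W : Subgroup C, Two T u Q W := by
  classical
  haveI : Fact (Nat.Prime 2) := ⟨Nat.prime_two⟩
  set H := normalizer ((T : Subgroup C) : Set C) with hH
  have hinT : ∀ {x : C}, orderOf x = 2 → x ∈ H → x ∈ (T : Subgroup C) := fun hx hn => mem_sylow_of_normalizes T hx hn
  have ha2 : orderOf a = 2 := orderOf_two_iff.2 ⟨haa, fun e => h.not_anti_self (e ▸ Commute.one_left b) hab⟩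
  have hb2 : orderOf b = 2 := orderOf_two_iff.2 ⟨hbb, fun e => h.not_anti_self (e ▸ Commute.one_right a) hab⟩
  have hau : a ≠ u := fun e => h.not_anti_self (e ▸ (h.cent b).symm) hab
  have hbu : b ≠ u := fun e => h.not_anti_self (e ▸ h.cent a) hab
  have hfixH : ∀ {y g : C}, y ∈ H → orderOf y = 2 → y ≠ u → g * y * g⁻¹ ∈ H → g ∈ H := fun {y g} hy hy2 hyu hg =>
    h.fix y (hinT hy2 hy) hy2 hyu g (hinT (by rw [orderOf_conj_eq, hy2]) hg)
  -- the members
  have hcyc := h.cyc hv hvv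
  set L := closure (Core2.members (zpowers v) u) with hL
  have ham : a ∈ Core2.members (zpowers v) u := Core2.Comp.mem_members ha2 hau hav
  have hbm : b ∈ Core2.members (zpowers v) u := Core2.Comp.mem_members hb2 hbu hbv
  have hcent : ∀ {c : C}, Commute c v → c ∈ centralizer (zpowers v : Set C) := fun {c} hc =>
    mem_centralizer_iff.2 fun g hg => by
      obtain ⟨i, rfl⟩ := mem_zpowers_iff.1 hg
      exact (hc.zpow_right i).symm.eq
  obtain ⟨t₁, ht₁, ht₁H⟩ : ∃ t ∈ Core2.members (zpowers v) u, t ∉ H := by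
    by_contra hno
    push Not at hno
    exact hmv fun c hc => hfixH (le_normalizer haT) ha2 hau
      (hno _ (Core2.members_conj hcyc ham (hcent (mem_centralizer_singleton_iff.1 hc))))
  have haL : a ∈ L := subset_closure ham
  have hbL : b ∈ L := subset_closure hbm
  set d := a * b * v with hd
  have hdT : d ∈ (T : Subgroup C) := mul_mem (mul_mem haT hbT) hv
  have hdd : d * d = 1 := by
    rw [((hav.mul_left hbv).symm).mul_mul_mul_comm, hvv, show a * b * (a * b) = a * (b * a) * b by group, hab,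
      ← mul_assoc a (a * b) u, ← mul_assoc a a b, haa, one_mul, h.swap, hbb, one_mul, h.uu]
  have hne_ab : ∀ {x : C}, x = a * b → ¬ Commute x v → False := fun {x} e hn => hn (e ▸ hav.mul_left hbv)
  have habv : a * b ∉ zpowers v := fun e => by
    obtain ⟨i, hi⟩ := mem_zpowers_iff.1 e
    have h1 : Commute a (a * b) := hi ▸ hav.zpow_right i
    refine h.not_anti_self (x := a) (y := b) ?_ hab
    have h2 := ((Commute.refl a).inv_right).mul_right h1
    rwa [inv_mul_cancel_left] at h2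
  have hd1 : d ≠ 1 := fun e => habv (by rw [eq_inv_of_mul_eq_one_left e]; exact inv_mem (mem_zpowers v))
  have hdu : d ≠ u := fun e => habv (by
    rw [eq_mul_inv_of_mul_eq e, ← hvv]
    exact mul_mem (mul_mem (mem_zpowers v) (mem_zpowers v)) (inv_mem (mem_zpowers v)))
  have hd2 : orderOf d = 2 := orderOf_two_iff.2 ⟨hdd, hd1⟩
  have hdv : Commute d v := (hav.mul_left hbv).mul_left (Commute.refl v)
  have hdL : d ∈ L := subset_closure (Core2.Comp.mem_members hd2 hdu hdv)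
  have hvL : v ∈ L := by simpa [hd, mul_assoc] using mul_mem (inv_mem (mul_mem haL hbL)) hdL
  have huL : u ∈ L := hvv ▸ mul_mem hvL hvL
  set v₀ : ↥L := ⟨v, hvL⟩ with hv₀
  set X := H.subgroupOf L with hX
  have hvc : ∀ x : ↥L, Commute x v₀ := fun x => Subtype.ext (Core2.Comp.commute_of_mem_closure x.2).eq
  haveI hn : (zpowers v₀).Normal := ⟨fun x hx g => by
    obtain ⟨i, rfl⟩ := mem_zpowers_iff.1 hx
    rw [((hvc g).zpow_right i).eq, mul_inv_cancel_right]
    exact zpow_mem (mem_zpowers _) i⟩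
  have hsub : (zpowers v).subgroupOf L = zpowers v₀ := by
    ext x
    rw [mem_subgroupOf, mem_zpowers_iff, mem_zpowers_iff]
    exact ⟨fun ⟨i, hi⟩ => ⟨i, Subtype.ext (by simpa [v₀] using hi)⟩,
      fun ⟨i, hi⟩ => ⟨i, by simpa [v₀] using congrArg Subtype.val hi⟩⟩
  have hSE : Cfsg.IsStronglyEmbedded (X.map (QuotientGroup.mk' (zpowers v₀))) := by
    haveI : ((zpowers v).subgroupOf L).Normal := Core2.members_normal (zpowers v) u
    exact Core2.Comp.se_of_eq hsub (h.ax.root_se (S := T) le_normalizer (fun s _ => h.cent s) h.two hcyc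
      ⟨v, mem_zpowers v, hvv⟩ ⟨⟨a, ham, le_normalizer haT⟩, t₁, ht₁, ht₁H⟩).1
  have hone : ∀ y : ↥L, orderOf y = 2 → y ≠ ⟨u, huL⟩ →
      ∃ k : ↥L, k * ⟨a, haL⟩ * k⁻¹ = y ∨ k * ⟨a, haL⟩ * k⁻¹ = y * ⟨u, huL⟩ := fun y hy hyu => by
    obtain ⟨g, hg, e⟩ := h.ax.members_class (S := T) hcyc h.two le_normalizer (fun s _ => h.cent s)
      ⟨v, mem_zpowers v, hvv⟩ ham (le_normalizer haT) ht₁ ht₁H
      (Core2.Comp.mem_members (by rw [Subgroup.orderOf_coe]; exact hy) (fun e => hyu (Subtype.ext e))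
        (Core2.Comp.commute_of_mem_closure y.2))
    refine ⟨⟨g⁻¹, inv_mem hg⟩, ?_⟩
    rcases e with e | e
    · exact Or.inl (Subtype.ext (show g⁻¹ * a * g⁻¹⁻¹ = (y : C) by rw [← e]; group))
    · refine Or.inr (Subtype.ext (show g⁻¹ * a * g⁻¹⁻¹ = (y : C) * u from ?_))
      rw [show a = g * y * g⁻¹ * u by rw [e, h.uu_cancel], ← mul_assoc, h.swap]
      group
  have hfix : ∀ y ∈ X, orderOf y = 2 → y ≠ (⟨u, huL⟩ : ↥L) → ∀ k : ↥L, k * y * k⁻¹ ∈ X → k ∈ X :=
    fun y hy hy2 hyu k hk => hfixH (y := (y : C)) hy (by rw [Subgroup.orderOf_coe]; exact hy2)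
      (fun e => hyu (Subtype.ext e)) hk
  have hidx : X.index = 5 := by
    refine BenderCover.index_eq_five X (u := (⟨u, huL⟩ : ↥L)) (v := v₀) (a := ⟨a, haL⟩) (b := ⟨b, hbL⟩)
      hvc (Subtype.ext hvv) (by rw [Subgroup.orderOf_mk, h.two]) (le_normalizer hv) ?_
      (by rw [Subgroup.orderOf_mk, ha2]) (le_normalizer haT) (by rw [Subgroup.orderOf_mk, hb2]) (le_normalizer hbT)
      (Subtype.ext hab) hone hfix hSE
    refine eq_top_iff.2 ?_
    rw [← closure_closure_coe_preimage (k := Core2.members (zpowers v) u)]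
    exact closure_mono fun x hx => by
      show orderOf x = 2
      rw [← Subgroup.orderOf_coe]; exact hx.1
  obtain ⟨o, ho⟩ : ∃ o : C ⧸ H, o = QuotientGroup.mk 1 := ⟨_, rfl⟩
  set Ω := MulAction.orbit ↥L o with hΩ
  have hoH : ∀ {g : C}, g • o = o ↔ g ∈ H := fun {g} => by rw [ho]; exact Core2.Comp.smul_base_eq
  have hΩ5 : Ω.ncard = 5 := by
    have hstab : MulAction.stabilizer ↥L o = X := by
      ext x
      exact hoH (g := (x : C))
    rw [← Nat.card_coe_set_eq, Nat.card_congr (MulAction.orbitEquivQuotientStabilizer ↥L o), hstab]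
    exact hidx
  have hufix : ∀ p : C ⧸ H, u • p = p := fun p => by
    obtain ⟨g, rfl⟩ := QuotientGroup.mk_surjective p
    show QuotientGroup.mk (u * g) = QuotientGroup.mk g
    rw [← (h.cent g).eq, QuotientGroup.mk_mul_of_mem g (le_normalizer h.u_mem_T)]
  have hvfix : ∀ p ∈ Ω, v • p = p := by
    rintro _ ⟨g, rfl⟩
    show v • (g : C) • o = (g : C) • o
    rw [← mul_smul, ← (Core2.Comp.commute_of_mem_closure g.2).eq, mul_smul, hoH.2 (le_normalizer hv)]
  have hfree : ∀ {y : C}, orderOf y = 2 → y ≠ u → y ∈ (T : Subgroup C) → ∀ {p : C ⧸ H}, y • p = p → p = o := by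
    intro y hy hyu hyT p hp
    obtain ⟨g, rfl⟩ := QuotientGroup.mk_surjective p
    have h1 : g⁻¹ * y * g⁻¹⁻¹ ∈ H := by
      have h2 : (g * 1)⁻¹ * (y * g) ∈ H := by rw [mul_one]; exact QuotientGroup.eq.1 hp.symm
      simpa [mul_assoc] using h2
    rw [ho, QuotientGroup.eq, mul_one]
    exact hfixH (le_normalizer hyT) hy hyu h1
  have hLn : ∀ {g : C}, (g * v * g⁻¹ = v ∨ g * v * g⁻¹ = v * u) → ∀ x ∈ L, g * x * g⁻¹ ∈ L := by
    intro g hg
    have hle : L ≤ L.comap (MulAut.conj g).toMonoidHom := (closure_le _).2 fun y hy => subset_closure (by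
      refine Core2.Comp.mem_members (by simp [orderOf_conj_eq, hy.1]) (fun e => hy.2.1 ?_) ?_
      · calc y = g⁻¹ * (g * y * g⁻¹) * g := by group
          _ = u := by
            rw [show g * y * g⁻¹ = u from e, mul_assoc, ← (h.cent g).eq, inv_mul_cancel_left]
      · have hyv : Commute y v := (mem_centralizer_iff.1 hy.2.2 v (mem_zpowers v)).symm
        have h1 : Commute (g * y * g⁻¹) (g * v * g⁻¹) := hyv.map (MulAut.conj g).toMonoidHom
        rcases hg with e | e <;> rw [e] at h1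
        · exact h1
        · simpa [h.uu_cancel] using h1.mul_right (h.cent (g * y * g⁻¹)))
    exact fun x hx => hle hx
  have hstable : ∀ {g : C}, g ∈ H → (g * v * g⁻¹ = v ∨ g * v * g⁻¹ = v * u) → ∀ {p}, p ∈ Ω → g • p ∈ Ω := by
    rintro g hgH hg _ ⟨⟨x, hx⟩, rfl⟩
    refine ⟨⟨g * x * g⁻¹, hLn hg x hx⟩, ?_⟩
    show (g * x * g⁻¹) • o = g • x • o
    rw [mul_smul, mul_smul, hoH.2 (inv_mem hgH)]
  have hstT : ∀ {s : C}, s ∈ (T : Subgroup C) → ∀ {p}, p ∈ Ω → s • p ∈ Ω := fun hs p hp =>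
    hstable (le_normalizer hs) (h.conj_trivial hs hv) hp
  -- the four moved points
  obtain ⟨p, hpΩ, hpo⟩ : ∃ p ∈ Ω, p ≠ o := by
    by_contra hno
    push Not at hno
    have h1 := Set.ncard_le_ncard (show Ω ⊆ {o} from hno) (Set.toFinite _)
    rw [hΩ5, Set.ncard_singleton] at h1
    omega
  have hap : a • p ≠ p := fun e => hpo (hfree ha2 hau haT e)
  have hbp : b • p ≠ p := fun e => hpo (hfree hb2 hbu hbT e)
  have hdp : d • p ≠ p := fun e => hpo (hfree hd2 hdu hdT e)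
  have hnoto : ∀ {x : C}, x ∈ (T : Subgroup C) → x • p ≠ o := fun {x} hx e => hpo (by
    rw [show p = x⁻¹ • o by rw [← e, inv_smul_smul], hoH.2 (inv_mem (le_normalizer hx))])
  have hdp' : d • p = a • b • p := by rw [hd, mul_smul, mul_smul, hvfix p hpΩ]
  have h_ab : a • p ≠ b • p := fun e => hdp (by rw [hdp', ← e, ← mul_smul, haa, one_smul])
  have h_ad : a • p ≠ d • p := fun e => hbp (by
    rw [hdp'] at e
    exact (MulAction.injective a e).symm)
  have h_bd : b • p ≠ d • p := fun e => hap (by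
    have h1 : b • d • p = a • p := by
      rw [hdp', ← mul_smul, ← mul_smul, hab, mul_assoc (a * b) u b, ← (h.cent b).eq, ← mul_assoc,
        mul_assoc a b b, hbb, mul_one, mul_smul, hufix]
    rw [← h1, ← e, ← mul_smul, hbb, one_smul])
  have hfour : ∀ q ∈ Ω, q ≠ o → q = p ∨ q = a • p ∨ q = b • p ∨ q = d • p := by
    intro q hq hqo
    set F : Set (C ⧸ H) := {o, p, a • p, b • p, d • p} with hF
    have hsubF : F ⊆ Ω := by
      rintro x (rfl | rfl | rfl | rfl | rfl)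
      exacts [⟨1, one_smul _ _⟩, hpΩ, hstT haT hpΩ, hstT hbT hpΩ, hstT hdT hpΩ]
    have hcard : F.ncard = 5 := by
      rw [hF, Set.ncard_insert_of_notMem, Set.ncard_insert_of_notMem, Set.ncard_insert_of_notMem,
        Set.ncard_pair h_bd]
      · simp [h_ab, h_ad]
      · simp [Ne.symm hap, Ne.symm hbp, Ne.symm hdp]
      · simp [Ne.symm hpo, (hnoto haT).symm, (hnoto hbT).symm, (hnoto hdT).symm]
    have hq' := (Set.eq_of_subset_of_ncard_le hsubF (by rw [hcard, hΩ5]) (Set.toFinite _)).ge hq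
    rcases hq' with e | e
    · exact absurd e hqo
    · exact e
  set T₀ := (T : Subgroup C) ⊓ MulAction.stabilizer C p with hT₀
  have hT₀inv : ∀ x ∈ T₀, x * x = 1 → x = 1 ∨ x = u := fun x hx hxx => by
    by_contra hne
    rw [not_or] at hne
    exact hpo (hfree (orderOf_two_iff.2 ⟨hxx, hne.1⟩) hne.2 hx.1 hx.2)
  have huT₀ : u ∈ T₀ := ⟨h.u_mem_T, hufix p⟩
  have hvT₀ : v ∈ T₀ := ⟨hv, hvfix p hpΩ⟩
  have hdec : ∀ t ∈ (T : Subgroup C), ∃ e, (e = 1 ∨ e = a ∨ e = b ∨ e = d) ∧ e * t ∈ T₀ := fun t ht => by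
    have key : ∀ {e : C}, e ∈ (T : Subgroup C) → e * e = 1 → t • p = e • p → e * t ∈ T₀ := fun {e} he hee hp' =>
      ⟨mul_mem he ht, show (e * t) • p = p by rw [mul_smul, hp', ← mul_smul, hee, one_smul]⟩
    rcases hfour _ (hstT ht hpΩ) (hnoto ht) with e | e | e | e
    · exact ⟨1, Or.inl rfl, key (one_mem _) (one_mul 1) (by rw [one_smul]; exact e)⟩
    · exact ⟨a, Or.inr (Or.inl rfl), key haT haa e⟩
    · exact ⟨b, Or.inr (Or.inr (Or.inl rfl)), key hbT hbb e⟩
    · exact ⟨d, Or.inr (Or.inr (Or.inr rfl)), key hdT hdd e⟩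
  -- a root anticommuting with `v` fixing `p`
  obtain ⟨w, hwT₀, hwv⟩ : ∃ w ∈ T₀, w * v = v * w * u := by
    obtain ⟨y, hy, hyv⟩ := h.exists_anti hv (h.root_ne hvv).1 (h.root_ne hvv).2
    obtain ⟨e, he, hey⟩ := hdec y hy
    refine ⟨e * y, hey, ?_⟩
    have hev : Commute e v := by
      rcases he with rfl | rfl | rfl | rfl
      exacts [Commute.one_left v, hav, hbv, hdv]
    rw [mul_assoc, hyv, ← mul_assoc, ← mul_assoc, hev.eq, mul_assoc v e y]
  have hwT : w ∈ (T : Subgroup C) := hwT₀.1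
  have hww : w * w = u := (h.sq w hwT).resolve_left fun e => by
    rcases hT₀inv w hwT₀ e with rfl | rfl
    · exact h.not_anti_self (Commute.one_right v) hwv
    · exact h.not_anti_self (h.cent v) hwv
  set W := closure ({v, w} : Set C) with hW
  have hWT₀ : W ≤ T₀ := (closure_le T₀).2 (by
    rintro x (rfl | rfl)
    exacts [hvT₀, hwT₀])
  set Q := fac T v w with hQ
  have hQT₀ : ∀ x ∈ Q, x ∈ T₀ → x = 1 ∨ x = u := fun x hx hx0 => by
    obtain ⟨hxT, hxv, hxw⟩ := mem_fac.1 hx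
    refine (h.sq x hxT).elim (hT₀inv x hx0) fun hxx => ?_
    have hvx : x * v = 1 ∨ x * v = u := hT₀inv _ (mul_mem hx0 hvT₀)
      (by rw [hxv.symm.mul_mul_mul_comm, hxx, hvv, h.uu])
    exfalso
    refine h.not_anti_self (x := v) (y := w) ?_ hwv
    have h1 : Commute (x * v) w := by
      rcases hvx with e | e <;> rw [e]
      exacts [Commute.one_left w, (h.cent w).symm]
    have h2 := hxw.inv_left.mul_left h1
    rwa [inv_mul_cancel_left] at h2
  have huW : u ∈ W := hvv ▸ mul_mem (subset_closure (Set.mem_insert v {w})) (subset_closure (Set.mem_insert v {w}))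
  have hQW : ∀ x ∈ Q, ∀ y ∈ W, Commute x y := fun x hx y hy => by
    obtain ⟨-, hxv, hxw⟩ := mem_fac.1 hx
    have hle : W ≤ centralizer ({x} : Set C) := (closure_le _).2 (by
      rintro z (rfl | rfl)
      exacts [mem_centralizer_singleton_iff.2 hxv.symm.eq, mem_centralizer_singleton_iff.2 hxw.symm.eq])
    exact (mem_centralizer_singleton_iff.1 (hle hy) : y * x = x * y).symm
  have hspan : ∀ t ∈ (T : Subgroup C), ∃ x ∈ Q, ∃ y ∈ W, t = x * y := fun t ht => by
    obtain ⟨f, hf, hfv, hfw⟩ := h.exists_adjust hv hwT ht hwv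
    exact ⟨t * f, mem_fac.2 ⟨mul_mem ht (hWT₀ hf).1, hfv, hfw⟩, f⁻¹, inv_mem hf, by rw [mul_inv_cancel_right]⟩
  set π := QuotientGroup.mk' (center C) with hπ
  obtain ⟨a', fa, ha'Q, hfa, rfl⟩ : ∃ a' f, a' ∈ Q ∧ f ∈ W ∧ a * f = a' := by
    obtain ⟨f, hf, hfv, hfw⟩ := h.exists_adjust hv hwT haT hwv
    exact ⟨_, f, mem_fac.2 ⟨mul_mem haT (hWT₀ hf).1, hfv, hfw⟩, hf, rfl⟩
  obtain ⟨b', fb, hb'Q, hfb, rfl⟩ : ∃ b' f, b' ∈ Q ∧ f ∈ W ∧ b * f = b' := by
    obtain ⟨f, hf, hfv, hfw⟩ := h.exists_adjust hv hwT hbT hwv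
    exact ⟨_, f, mem_fac.2 ⟨mul_mem hbT (hWT₀ hf).1, hfv, hfw⟩, hf, rfl⟩
  -- `Q` modulo `u`
  have hQeq : ∀ {x y : C}, x ∈ Q → y ∈ Q → (x⁻¹ * y) • p = p → π x = π y := fun {x y} hx hy e => by
    have h1 := hQT₀ _ (mul_mem (inv_mem hx) hy)
      ⟨show x⁻¹ * y ∈ (T : Subgroup C) from mul_mem (inv_mem (mem_fac.1 hx).1) (mem_fac.1 hy).1, e⟩
    refine QuotientGroup.eq.2 ?_
    rcases h1 with e1 | e1 <;> rw [e1]
    exacts [one_mem _, h.u_center]
  have hfix0 : ∀ {f : C}, f ∈ W → f • p = p := fun hf => (hWT₀ hf).2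
  have hcls : ∀ x ∈ Q, π x = 1 ∨ π x = π (a * fa) ∨ π x = π (b * fb) ∨ π x = π (a * fa * (b * fb)) := by
    intro x hx
    have hp' : ∀ {y : C}, y ∈ Q → y • p = x • p → π x = π y := fun {y} hy e => hQeq hx hy (by
      rw [mul_smul, e, inv_smul_smul])
    rcases hfour _ (hstT (mem_fac.1 hx).1 hpΩ) (hnoto (mem_fac.1 hx).1) with e | e | e | e
    · left
      rw [hp' (one_mem Q) (by rw [one_smul, e]), map_one]
    · exact Or.inr (Or.inl (hp' ha'Q (by rw [mul_smul, hfix0 hfa, e])))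
    · exact Or.inr (Or.inr (Or.inl (hp' hb'Q (by rw [mul_smul, hfix0 hfb, e]))))
    · refine Or.inr (Or.inr (Or.inr (hp' (mul_mem ha'Q hb'Q) ?_)))
      rw [e, hdp', mul_smul, mul_smul, mul_smul, hfix0 hfb]
      rcases h.sgn fa (hWT₀ hfa).1 b hbT with e1 | e1
      · rw [← mul_smul fa, ← e1, mul_smul, hfix0 hfa]
      · rw [← mul_smul fa, show fa * b = b * fa * u by rw [e1, h.uu_cancel], mul_smul, hufix, mul_smul, hfix0 hfa]
  have hab' : b * fb * (a * fa) = a * fa * (b * fb) * u := by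
    by_contra hno
    have h1 := h.commute_of_not_anti (mem_fac.1 ha'Q).1 (mem_fac.1 hb'Q).1 hno
    have hca : Commute (a * fa) (b * fb) := h1
    have h2 : a * fa * (b * fb) = a * b * (fa * fb) ∨ a * fa * (b * fb) = a * b * (fa * fb) * u := by
      rcases h.sgn b hbT fa (hWT₀ hfa).1 with e1 | e1
      · left
        rw [mul_assoc a fa, ← mul_assoc fa, e1]; group
      · right
        rw [mul_assoc a fa, ← mul_assoc fa, e1, h.swap]; group
    have h3 : b * fb * (a * fa) = b * a * (fb * fa) ∨ b * fb * (a * fa) = b * a * (fb * fa) * u := by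
      rcases h.sgn a haT fb (hWT₀ hfb).1 with e1 | e1
      · left
        rw [mul_assoc b fb, ← mul_assoc fb, e1]; group
      · right
        rw [mul_assoc b fb, ← mul_assoc fb, e1, h.swap]; group
    -- `fa, fb` are powers of `v` as `a, b` commute with `v`
    have hfv : ∀ {x f : C}, Commute x v → Commute (x * f) v → f ∈ W → f ∈ zpowers v := by
      intro x f hxv hxfv hf
      have h4 : Commute f v := by
        have := hxv.inv_left.mul_left hxfv
        rwa [inv_mul_cancel_left] at this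
      obtain ⟨g, hg, hgv, hgw⟩ := h.exists_adjust hv hwT (hWT₀ hf).1 hwv
      by_cases hfw : f * w = w * f * u
      · have h5 : Commute (f * v) w := by
          show f * v * w = w * (f * v)
          rw [mul_assoc, h.anti_symm hwv, ← mul_assoc, ← mul_assoc, hfw, h.swap, h.uu_cancel, mul_assoc]
        rcases hQT₀ (f * v) (mem_fac.2 ⟨mul_mem (hWT₀ hf).1 hv, h4.mul_left (Commute.refl v), h5⟩)
          (mul_mem (hWT₀ hf) hvT₀) with e | e
        · rw [eq_inv_of_mul_eq_one_left e]; exact inv_mem (mem_zpowers v)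
        · rw [eq_mul_inv_of_mul_eq e, ← hvv]
          exact mul_mem (mul_mem (mem_zpowers v) (mem_zpowers v)) (inv_mem (mem_zpowers v))
      · rcases hQT₀ f (mem_fac.2 ⟨(hWT₀ hf).1, h4, (h.commute_of_not_anti hwT (hWT₀ hf).1 hfw).symm⟩)
          (hWT₀ hf) with e | e
        · rw [e]; exact one_mem _
        · rw [e, ← hvv]; exact mul_mem (mem_zpowers v) (mem_zpowers v)
    obtain ⟨i, hi⟩ := mem_zpowers_iff.1 (hfv hav (mem_fac.1 ha'Q).2.1 hfa)
    obtain ⟨j, hj⟩ := mem_zpowers_iff.1 (hfv hbv (mem_fac.1 hb'Q).2.1 hfb)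
    rw [← hi, ← hj] at hca
    refine h.not_anti_self (x := a) (y := b) ?_ hab
    have h6 : Commute (a * v ^ i) b := by
      have := hca.mul_right (((hav.zpow_right j).mul_left (Commute.zpow_zpow_self v i j)).inv_right)
      rwa [mul_inv_cancel_right] at this
    have := h6.mul_left ((hbv.zpow_right i).symm.inv_left)
    rwa [mul_inv_cancel_right] at this
  have hdne : π (a * fa * (b * fb)) ≠ 1 ∧ π (a * fa) ≠ π (b * fb) := by
    constructor
    · intro e
      rcases h.cz _ ((QuotientGroup.eq_one_iff _).1 e) with e1 | e1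
      · refine h.not_anti_self (x := a * fa) (y := b * fb) ?_ hab'
        rw [eq_inv_of_mul_eq_one_right e1]; exact (Commute.refl _).inv_right
      · refine h.not_anti_self (x := a * fa) (y := b * fb) ?_ hab'
        rw [show b * fb = (a * fa)⁻¹ * u by rw [← e1, inv_mul_cancel_left]]
        exact ((Commute.refl _).inv_right).mul_right (h.cent _)
    · intro e
      refine h.not_anti_self (x := a * fa) (y := b * fb) ?_ hab'
      rcases h.mk_eq e with e1 | e1 <;> rw [e1]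
      exact (Commute.refl _).mul_right (h.cent _)
  -- an element of odd order moving `a` to `b`
  obtain ⟨k, n, hkH, hkv, hn, hkn, hkab⟩ : ∃ k : C, ∃ n : ℕ, k ∈ H ∧ Commute k v ∧ Odd n ∧ k ^ n = 1 ∧
      π (k * a * k⁻¹) = π b := by
    obtain ⟨k₀, hk₀⟩ := hone ⟨b, hbL⟩ (by rw [Subgroup.orderOf_mk, hb2]) (fun e => hbu (congrArg Subtype.val e))
    have hk : (k₀ : C) * a * (k₀ : C)⁻¹ = b ∨ (k₀ : C) * a * (k₀ : C)⁻¹ = b * u :=
      hk₀.imp (congrArg Subtype.val) (congrArg Subtype.val)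
    have hkH : (k₀ : C) ∈ H := hfixH (le_normalizer haT) ha2 hau (by
      rcases hk with e | e <;> rw [e]
      exacts [le_normalizer hbT, mul_mem (le_normalizer hbT) (le_normalizer h.u_mem_T)])
    obtain ⟨s, o', ho', hord⟩ := Nat.exists_eq_two_pow_mul_odd (orderOf_pos (k₀ : C)).ne'
    obtain ⟨x, y, hxy⟩ : IsCoprime ((2 ^ s : ℕ) : ℤ) (o' : ℤ) :=
      Nat.isCoprime_iff_coprime.2 (Nat.Coprime.pow_left s (Nat.coprime_two_left.2 ho'))
    have hko : (k₀ : C) ^ o' ∈ (T : Subgroup C) := by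
      obtain ⟨j, -, hj⟩ := (Nat.dvd_prime_pow Nat.prime_two).1 (orderOf_dvd_of_pow_eq_one
        (show ((k₀ : C) ^ o') ^ 2 ^ s = 1 by rw [← pow_mul, mul_comm, ← hord, pow_orderOf_eq_one]))
      exact CentInt.two_elem_mem_sylow hj (pow_mem hkH _)
    refine ⟨(k₀ : C) ^ (((2 ^ s : ℕ) : ℤ) * x), o', zpow_mem hkH _,
      (Core2.Comp.commute_of_mem_closure k₀.2).zpow_left _, ho', ?_, ?_⟩
    · rw [← zpow_natCast, ← zpow_mul, show ((2 ^ s : ℕ) : ℤ) * x * o' = ((2 ^ s * o' : ℕ) : ℤ) * x by push_cast; ring,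
        zpow_mul, zpow_natCast, ← hord, pow_orderOf_eq_one, one_zpow]
    · have hsplit : (k₀ : C) ^ (((2 ^ s : ℕ) : ℤ) * x) = k₀ * ((k₀ : C) ^ o') ^ (-y) := by
        rw [← zpow_natCast, ← zpow_mul, ← zpow_one_add]
        congr 1
        linarith [hxy]
      set t := ((k₀ : C) ^ o') ^ (-y) with ht
      rw [hsplit, show (k₀ : C) * t * a * ((k₀ : C) * t)⁻¹ = k₀ * (t * a * t⁻¹) * (k₀ : C)⁻¹ by group]
      rcases h.conj_trivial (zpow_mem hko (-y)) haT with e | e <;> rw [e] <;> rcases hk with e' | e'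
      · rw [e']
      · rw [e', h.mk_u]
      · rw [show (k₀ : C) * (a * u) * (k₀ : C)⁻¹ = k₀ * a * (k₀ : C)⁻¹ * u by
          rw [← mul_assoc, h.swap], e', h.mk_u]
      · rw [show (k₀ : C) * (a * u) * (k₀ : C)⁻¹ = k₀ * a * (k₀ : C)⁻¹ * u by
          rw [← mul_assoc, h.swap], e', h.mk_u, h.mk_u]
  have hkT : ∀ {x : C}, x ∈ (T : Subgroup C) → k * x * k⁻¹ ∈ (T : Subgroup C) := fun hx =>
    (mem_normalizer_iff.1 hkH _).1 hx
  have hkfix : k * v * k⁻¹ = v := by rw [hkv.eq, mul_inv_cancel_right]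
  have hkT₀ : ∀ x ∈ T₀, k * x * k⁻¹ ∈ T₀ := by
    intro x hx
    refine ⟨hkT hx.1, ?_⟩
    have hkp := hfour _ (hstable hkH (Or.inl hkfix) hpΩ) (fun e => hpo (by
      rw [show p = k⁻¹ • o by rw [← e, inv_smul_smul], hoH.2 (inv_mem hkH)]))
    obtain ⟨e, heT, hee, hp'⟩ : ∃ e ∈ (T : Subgroup C), e * e = 1 ∧ k • p = e • p := by
      rcases hkp with e | e | e | e
      exacts [⟨1, one_mem _, one_mul 1, by rw [e, one_smul]⟩, ⟨a, haT, haa, e⟩, ⟨b, hbT, hbb, e⟩, ⟨d, hdT, hdd, e⟩]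
    have h1 : (k * x * k⁻¹) • e • p = e • p := by
      rw [← hp', mul_smul, mul_smul, inv_smul_smul, show x • p = p from hx.2]
    rcases h.sgn e heT _ (hkT hx.1) with e1 | e1 <;> rw [← mul_smul, e1, mul_smul] at h1
    · exact MulAction.injective e h1
    · rw [hufix, mul_smul] at h1
      exact MulAction.injective e h1
  have hVne : π v ≠ 1 := fun e => (h.cz v ((QuotientGroup.eq_one_iff _).1 e)).elim (h.root_ne hvv).1 (h.root_ne hvv).2
  have hKV : Commute (π k) (π v) := hkv.map π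
  have hKn : π k ^ n = 1 := by rw [← map_pow, hkn, map_one]
  have hkw : k * w * k⁻¹ = w ∨ k * w * k⁻¹ = w * u := by
    set x := k * w * k⁻¹ with hx
    have hxT₀ : x ∈ T₀ := hkT₀ w hwT₀
    have hxv : x * v = v * x * u := by
      calc x * v = k * (w * v) * k⁻¹ := by rw [hx, mul_assoc (k * w), ← (hkv.inv_left).symm.eq]; group
        _ = k * (v * w * u) * k⁻¹ := by rw [hwv]
        _ = v * x * u := by rw [← mul_assoc k, ← mul_assoc k, hkv.eq, h.swap, hx]; group
    have hxw : Commute (x * w) v := by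
      show x * w * v = v * (x * w)
      rw [mul_assoc, hwv, ← mul_assoc, ← mul_assoc, hxv, h.swap, h.uu_cancel, mul_assoc]
    have hinv : w⁻¹ = w * u := inv_eq_of_mul_eq_one_right (by rw [← mul_assoc, hww, h.uu])
    have hcases : π x = π w ∨ π x = π w * π v := by
      have key : ∀ z, z = x * w ∨ z = x * w * v → Commute z w → z = 1 ∨ z = u := fun z hz hzw => by
        have hzT : z ∈ T₀ := by
          rcases hz with rfl | rfl
          exacts [mul_mem hxT₀ hwT₀, mul_mem (mul_mem hxT₀ hwT₀) hvT₀]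
        exact hQT₀ z (mem_fac.2 ⟨hzT.1, by rcases hz with rfl | rfl; exacts [hxw, hxw.mul_left (Commute.refl v)],
          hzw⟩) hzT
      have hπ1 : ∀ {z : C}, z = 1 ∨ z = u → π z = 1 := fun {z} hz => by
        rcases hz with rfl | rfl
        exacts [map_one _, (QuotientGroup.eq_one_iff _).2 h.u_center]
      have hπww : π w * π w = 1 := by rw [← map_mul, hww]; exact hπ1 (Or.inr rfl)
      by_cases hc : w * (x * w) = x * w * w * u
      · right
        have hz : Commute (x * w * v) w := by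
          show x * w * v * w = w * (x * w * v)
          rw [mul_assoc (x * w), h.anti_symm hwv, ← mul_assoc (x * w), ← mul_assoc (x * w), ← mul_assoc w (x * w), hc,
            h.swap]
        have h1 := hπ1 (key _ (Or.inr rfl) hz)
        rw [map_mul, map_mul] at h1
        have hπvv : π v * π v = 1 := by rw [← map_mul, hvv]; exact hπ1 (Or.inr rfl)
        calc π x = π x * π w * π v * (π v * π w) := by
              rw [← mul_assoc, mul_assoc (π x * π w), hπvv, mul_one, mul_assoc, hπww, mul_one]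
          _ = π w * π v := by rw [h1, one_mul, (h.mk_comm hwT hv).eq]
      · left
        have h1 := hπ1 (key _ (Or.inl rfl) (h.commute_of_not_anti (mul_mem hxT₀ hwT₀).1 hwT hc))
        rw [map_mul] at h1
        calc π x = π x * π w * π w := by rw [mul_assoc, hπww, mul_one]
          _ = π w := by rw [h1, one_mul]
    rcases hcases with e | e
    · exact h.mk_eq e.symm
    · exfalso
      have hit : ∀ m : ℕ, π k ^ m * π w * (π k ^ m)⁻¹ = π w * π v ^ m := by
        intro m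
        induction m with
        | zero => simp
        | succ m ih =>
          have h1 : π k * π w * (π k)⁻¹ = π w * π v := by rw [← map_inv, ← map_mul, ← map_mul, ← hx]; exact e
          calc π k ^ (m + 1) * π w * (π k ^ (m + 1))⁻¹ = π k ^ m * (π k * π w * (π k)⁻¹) * (π k ^ m)⁻¹ := by
                rw [pow_succ, mul_inv_rev]; group
            _ = π k ^ m * π w * (π k ^ m)⁻¹ * (π k ^ m * π v * (π k ^ m)⁻¹) := by rw [h1]; group
            _ = π w * π v ^ (m + 1) := by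
              rw [ih, (hKV.pow_left m).eq, mul_inv_cancel_right, pow_succ, mul_assoc]
      have h2 := hit n
      rw [hKn, one_mul, inv_one, mul_one, left_eq_mul] at h2
      obtain ⟨j, hj⟩ := hn
      rw [hj, pow_succ, pow_mul, pow_two, show π v * π v = 1 by
        rw [← map_mul, hvv]; exact (QuotientGroup.eq_one_iff _).2 h.u_center, one_pow, one_mul] at h2
      exact hVne h2
  have hkQ : ∀ x ∈ Q, k * x * k⁻¹ ∈ Q := fun x hx => by
    obtain ⟨hxT, hxv, hxw⟩ := mem_fac.1 hx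
    refine mem_fac.2 ⟨hkT hxT, ?_, ?_⟩
    · have h1 : Commute (k * x * k⁻¹) (k * v * k⁻¹) := hxv.map (MulAut.conj k).toMonoidHom
      rwa [hkfix] at h1
    · have h1 : Commute (k * x * k⁻¹) (k * w * k⁻¹) := hxw.map (MulAut.conj k).toMonoidHom
      rcases hkw with e | e <;> rw [e] at h1
      · exact h1
      · simpa [h.uu_cancel] using h1.mul_right (h.cent (k * x * k⁻¹))
  set A := π (a * fa) with hA
  set B := π (b * fb) with hB
  have hKA : π k * A * (π k)⁻¹ = B := by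
    rw [hA, ← map_inv, ← map_mul, ← map_mul]
    refine hQeq (hkQ _ ha'Q) hb'Q ?_
    have hkb : k * a * k⁻¹ = b ∨ k * a * k⁻¹ = b * u := h.mk_eq hkab.symm
    have hf2 : k * fa * k⁻¹ ∈ T₀ := hkT₀ _ (hWT₀ hfa)
    rw [show (k * (a * fa) * k⁻¹)⁻¹ * (b * fb) = (k * fa * k⁻¹)⁻¹ * ((k * a * k⁻¹)⁻¹ * b) * fb by group,
      mul_smul, mul_smul, hfix0 hfb]
    have h3 : ((k * a * k⁻¹)⁻¹ * b) • p = p := by
      rcases hkb with e | e <;> rw [e]
      · rw [inv_mul_cancel, one_smul]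
      · rw [mul_inv_rev, inv_mul_cancel_right, Invol.inv_of_orderOf_two h.two, hufix]
    rw [h3]
    exact (inv_mem hf2).2
  have hsq : ∀ {x y : C}, π y = π x → y * y = x * x := fun {x y} e => by
    rcases h.mk_eq e with e1 | e1 <;> rw [e1]
    exact h.sq_mul_u.symm
  have hsqk : ∀ x : C, x ∈ (T : Subgroup C) → k * x * k⁻¹ * (k * x * k⁻¹) = x * x := fun x hx => by
    rw [show k * x * k⁻¹ * (k * x * k⁻¹) = k * (x * x) * k⁻¹ by group]
    rcases h.sq x hx with e | e <;> rw [e]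
    · rw [mul_one, mul_inv_cancel]
    · rw [(h.cent k).eq, mul_inv_cancel_right]
  have hAT : a * fa ∈ (T : Subgroup C) := (mem_fac.1 ha'Q).1
  have hBT : b * fb ∈ (T : Subgroup C) := (mem_fac.1 hb'Q).1
  have hs1 : b * fb * (b * fb) = a * fa * (a * fa) := by
    rw [← hsqk _ hAT]
    exact hsq (by rw [map_mul, map_mul, map_inv]; exact hKA.symm)
  have hKB : π k * B * (π k)⁻¹ = A * B := by
    have h1 := hcls _ (hkQ _ hb'Q)
    rw [map_mul, map_mul, map_inv] at h1
    rcases h1 with e | e | e | e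
    · exfalso
      rw [conj_eq_one_iff] at e
      rw [show B = 1 from e, conj_eq_one_iff] at hKA
      exact hdne.2 (show A = B from hKA.trans (show B = 1 from e).symm)
    · exfalso
      obtain ⟨j, hj⟩ := hn
      have h2 : Commute (π k ^ 2) A := mul_inv_eq_iff_eq_mul.1 (by
        calc π k ^ 2 * A * (π k ^ 2)⁻¹ = π k * (π k * A * (π k)⁻¹) * (π k)⁻¹ := by rw [pow_two]; group
          _ = A := by rw [hKA]; exact e)
      have h3 : Commute (π k) A := by
        have h4 : (π k ^ 2) ^ (j + 1) = π k := by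
          rw [← pow_mul, show 2 * (j + 1) = n + 1 by omega, pow_succ, hKn, one_mul]
        exact h4 ▸ h2.pow_left (j + 1)
      rw [h3.eq, mul_inv_cancel_right] at hKA
      exact hdne.2 hKA
    · exfalso
      have h1 : π k * A * (π k)⁻¹ = π k * B * (π k)⁻¹ := hKA.trans e.symm
      exact hdne.2 (mul_left_cancel (mul_right_cancel h1))
    · rw [e, map_mul]
  have hs2 : a * fa * (b * fb) * (a * fa * (b * fb)) = b * fb * (b * fb) := by
    rw [← hsqk _ hBT]
    refine hsq ?_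
    rw [map_mul π (a * fa), map_mul π (k * (b * fb)), map_mul π k, map_inv]
    exact hKB.symm
  have hsu : a * fa * (a * fa) = u := by
    refine (h.sq _ hAT).resolve_left fun e => h.u_ne ?_
    rw [show a * fa * (b * fb) * (a * fa * (b * fb)) = a * fa * (b * fb * (a * fa)) * (b * fb) by group, hab',
      ← mul_assoc (a * fa) (a * fa * (b * fb)) u, ← mul_assoc (a * fa) (a * fa) (b * fb), e, one_mul, h.swap,
      hs1, e, one_mul] at hs2
    exact hs2
  have huQ : u ∈ Q := mem_fac.2 ⟨h.u_mem_T, (h.cent v).symm, (h.cent w).symm⟩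
  refine ⟨Q, W, inf_le_left, fun x hx => (hWT₀ hx).1, huQ, huW, fun x hx hxx => ?_,
    fun x hx hxx => hT₀inv x (hWT₀ hx) hxx, hQW, hspan,
    ⟨a * fa, ha'Q, b * fb, hb'Q, hsu, hs1.trans hsu, hab'⟩,
    ⟨v, subset_closure (Set.mem_insert v {w}), w, subset_closure (Set.mem_insert_of_mem v rfl), hvv, hww, hwv⟩⟩
  rcases hcls x hx with e | e | e | e
  · exact h.cz x ((QuotientGroup.eq_one_iff _).1 e)
  all_goals exfalso
  · rw [hsq e, hsu] at hxx; exact h.u_ne hxx
  · rw [hsq e, hs1, hsu] at hxx; exact h.u_ne hxx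
  · rw [hsq e, hs2, hs1, hsu] at hxx; exact h.u_ne hxx

/-- The factors are strongly closed modulo the centre, which is impossible. -/
theorem false_of_two (h : Ex T u) [IsSimpleGroup (C ⧸ center C)] (hna : ¬ IsMulCommutative (C ⧸ center C))
    {Q W : Subgroup C} (d : Two T u Q W) : False := by
  haveI : Fact (Nat.Prime 2) := ⟨Nat.prime_two⟩
  set H := normalizer ((T : Subgroup C) : Set C) with hH
  set π := QuotientGroup.mk' (center C) with hπ
  obtain ⟨x₁, hx₁, y₁, hy₁, hx₁x, hy₁y, hxy₁⟩ := d.pairQ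
  obtain ⟨x₂, hx₂, y₂, hy₂, hx₂x, hy₂y, hxy₂⟩ := d.pairW
  have hsqroot : ∀ {P : Subgroup C}, P ≤ (T : Subgroup C) → (∀ x ∈ P, x * x = 1 → x = 1 ∨ x = u) →
      ∀ x ∈ P, x ≠ 1 → x ≠ u → x * x = u := fun hP hu x hx h1 h2 =>
    (h.sq x (hP hx)).resolve_left fun e => (hu x hx e).elim h1 h2
  have hcong : ∀ {P : Subgroup C}, P ≤ (T : Subgroup C) → (∀ x ∈ P, x * x = 1 → x = 1 ∨ x = u) →
      ∀ {x y : C}, x ∈ P → y ∈ P → x * x = u → y * y = u → Commute x y → π x = π y := by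
    intro P _ hu x y hx hy hxx hyy hc
    have h1 := hu (x * y) (mul_mem hx hy) (by rw [hc.symm.mul_mul_mul_comm, hxx, hyy, h.uu])
    have h2 : π x * π y = 1 := by
      rw [← map_mul]
      rcases h1 with e | e <;> rw [e]
      exacts [map_one _, (QuotientGroup.eq_one_iff _).2 h.u_center]
    have h3 : π y * π y = 1 := by rw [← map_mul, hyy]; exact (QuotientGroup.eq_one_iff _).2 h.u_center
    exact mul_right_cancel (h2.trans h3.symm)
  -- a root lies in one of the factors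
  have hside : ∀ x ∈ (T : Subgroup C), x * x = u → x ∈ Q ∨ x ∈ W := by
    intro x hx hxx
    obtain ⟨q, hq, r, hr, rfl⟩ := d.span x hx
    by_cases hq1 : q = 1 ∨ q = u
    · right
      rcases hq1 with e | e <;> rw [e]
      exacts [(one_mul r).symm ▸ hr, mul_mem d.uW hr]
    by_cases hr1 : r = 1 ∨ r = u
    · left
      rcases hr1 with e | e <;> rw [e]
      exacts [(mul_one q).symm ▸ hq, mul_mem hq d.uQ]
    rw [not_or] at hq1 hr1
    rw [(d.comm q hq r hr).symm.mul_mul_mul_comm, hsqroot d.leQ d.uniqQ q hq hq1.1 hq1.2,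
      hsqroot d.leW d.uniqW r hr hr1.1 hr1.2, h.uu] at hxx
    exact absurd hxx.symm h.u_ne
  have hmem : ∀ {P : Subgroup C}, u ∈ P → ∀ {x : C}, π x ∈ P.map π → x ∈ P := by
    rintro P huP x ⟨y, hy, e⟩
    rcases h.mk_eq e with rfl | rfl
    exacts [hy, mul_mem hy huP]
  have hinter : ∀ x ∈ Q, x ∈ W → x = 1 ∨ x = u := fun x hxQ hxW => by
    by_contra hne
    rw [not_or] at hne
    have hxx := hsqroot d.leQ d.uniqQ x hxQ hne.1 hne.2
    have e1 := hcong d.leQ d.uniqQ hxQ hx₁ hxx hx₁x (d.comm x₁ hx₁ x hxW).symm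
    have e2 := hcong d.leQ d.uniqQ hxQ hy₁ hxx hy₁y (d.comm y₁ hy₁ x hxW).symm
    refine h.not_anti_self (x := x₁) (y := y₁) ?_ hxy₁
    rcases h.mk_eq (e1.symm.trans e2) with e | e <;> rw [e]
    exact (Commute.refl x₁).mul_right (h.cent x₁)
  -- images of a pair under the normaliser stay in one factor
  have hroot : ∀ {g x : C}, g ∈ H → x ∈ (T : Subgroup C) → x * x = u → g * x * g⁻¹ ∈ Q ∨ g * x * g⁻¹ ∈ W :=
    fun {g x} hg hx hxx => hside _ ((mem_normalizer_iff.1 hg x).1 hx) (h.sq_conj g hxx)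
  have hanti : ∀ {g x y : C}, y * x = x * y * u → ¬ Commute (g * x * g⁻¹) (g * y * g⁻¹) := fun {g x y} e hc => by
    have h1 := hc.map (MulAut.conj g⁻¹).toMonoidHom
    simp [mul_assoc] at h1
    exact h.not_anti_self h1 e
  have hsame : ∀ {g x y : C}, g ∈ H → x ∈ (T : Subgroup C) → y ∈ (T : Subgroup C) → x * x = u → y * y = u →
      y * x = x * y * u → ∀ P, (P = Q ∨ P = W) → g * x * g⁻¹ ∈ P → g * y * g⁻¹ ∈ P := by
    intro g x y hg hx hy hxx hyy e P hP hgx
    rcases hroot hg hy hyy with h1 | h1 <;> rcases hP with rfl | rfl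
    · exact h1
    · exact absurd (d.comm _ h1 _ hgx).symm (hanti e)
    · exact absurd (d.comm _ hgx _ h1) (hanti e)
    · exact h1
  have hfac : ∀ {g : C}, g ∈ H →
      ((∀ x ∈ Q, g * x * g⁻¹ ∈ Q) ∧ ∀ x ∈ W, g * x * g⁻¹ ∈ W) ∨
        ((∀ x ∈ Q, g * x * g⁻¹ ∈ W) ∧ ∀ x ∈ W, g * x * g⁻¹ ∈ Q) := by
    intro g hg
    have hcn : ∀ {x : C}, x = 1 ∨ x = u → g * x * g⁻¹ = x := fun {x} hx => by
      rcases hx with rfl | rfl
      · group
      · rw [(h.cent g).eq, mul_inv_cancel_right]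
    have key : ∀ (P R : Subgroup C), (P = Q ∨ P = W) → (R = Q ∨ R = W) → ∀ {x₀ y₀ : C}, x₀ ∈ R → y₀ ∈ R →
        x₀ * x₀ = u → y₀ * y₀ = u → y₀ * x₀ = x₀ * y₀ * u → g * x₀ * g⁻¹ ∈ P → ∀ x ∈ R, g * x * g⁻¹ ∈ P := by
      intro P R hP hR x₀ y₀ hx₀ hy₀ hx₀x hy₀y e hgx x hx
      have hRle : R ≤ (T : Subgroup C) := by rcases hR with rfl | rfl; exacts [d.leQ, d.leW]
      have hRu : ∀ x ∈ R, x * x = 1 → x = 1 ∨ x = u := by rcases hR with rfl | rfl; exacts [d.uniqQ, d.uniqW]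
      have huP : u ∈ P := by rcases hP with rfl | rfl; exacts [d.uQ, d.uW]
      by_cases hx1 : x = 1 ∨ x = u
      · rw [hcn hx1]
        rcases hx1 with rfl | rfl
        exacts [one_mem _, huP]
      rw [not_or] at hx1
      have hxx := hsqroot hRle hRu x hx hx1.1 hx1.2
      by_cases hc : x * x₀ = x₀ * x * u
      · exact hsame hg (hRle hx₀) (hRle hx) hx₀x hxx hc P hP hgx
      · rcases h.mk_eq (hcong hRle hRu hx₀ hx hx₀x hxx (h.commute_of_not_anti (hRle hx₀) (hRle hx) hc)) with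
          rfl | rfl
        · exact hgx
        · rw [show g * (x₀ * u) * g⁻¹ = g * x₀ * g⁻¹ * (g * u * g⁻¹) by group, hcn (Or.inr rfl)]
          exact mul_mem hgx huP
    have hnot : ∀ P, (P = Q ∨ P = W) → g * x₁ * g⁻¹ ∈ P → g * x₂ * g⁻¹ ∈ P → False := by
      intro P hP h1 h2
      have hPle : P ≤ (T : Subgroup C) := by rcases hP with rfl | rfl; exacts [d.leQ, d.leW]
      have hPu : ∀ x ∈ P, x * x = 1 → x = 1 ∨ x = u := by rcases hP with rfl | rfl; exacts [d.uniqQ, d.uniqW]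
      have e1 := hcong hPle hPu h1 h2 (h.sq_conj g hx₁x) (h.sq_conj g hx₂x)
        ((d.comm x₁ hx₁ x₂ hx₂).map (MulAut.conj g).toMonoidHom)
      have h3 : x₂ ∈ Q := by
        rcases h.mk_eq e1 with e | e
        · rw [mul_left_cancel (mul_right_cancel e)]; exact hx₁
        · rw [show x₂ = x₁ * u from mul_left_cancel (mul_right_cancel (b := g⁻¹)
            (e.trans (by rw [← mul_assoc g, h.swap])))]
          exact mul_mem hx₁ d.uQ
      exact (hinter x₂ h3 hx₂).elim (h.root_ne hx₂x).1 (h.root_ne hx₂x).2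
    rcases hroot hg (d.leQ hx₁) hx₁x with h1 | h1 <;> rcases hroot hg (d.leW hx₂) hx₂x with h2 | h2
    · exact (hnot Q (Or.inl rfl) h1 h2).elim
    · exact Or.inl ⟨key Q Q (Or.inl rfl) (Or.inl rfl) hx₁ hy₁ hx₁x hy₁y hxy₁ h1,
        key W W (Or.inr rfl) (Or.inr rfl) hx₂ hy₂ hx₂x hy₂y hxy₂ h2⟩
    · exact Or.inr ⟨key W Q (Or.inr rfl) (Or.inl rfl) hx₁ hy₁ hx₁x hy₁y hxy₁ h1,
        key Q W (Or.inl rfl) (Or.inr rfl) hx₂ hy₂ hx₂x hy₂y hxy₂ h2⟩
    · exact (hnot W (Or.inr rfl) h1 h2).elim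
  have hfixed : ∀ {g : C}, g ∈ H → (∀ x ∈ Q, g * x * g⁻¹ ∈ Q) ∧ ∀ x ∈ W, g * x * g⁻¹ ∈ W := by
    intro g hg
    refine (hfac hg).resolve_right fun ⟨hQW, hWQ⟩ => ?_
    obtain ⟨s, o, ho, hord⟩ := Nat.exists_eq_two_pow_mul_odd (orderOf_pos g).ne'
    have hT' : g ^ o ∈ (T : Subgroup C) := by
      obtain ⟨j, -, hj⟩ := (Nat.dvd_prime_pow Nat.prime_two).1 (orderOf_dvd_of_pow_eq_one
        (show (g ^ o) ^ 2 ^ s = 1 by rw [← pow_mul, mul_comm, ← hord, pow_orderOf_eq_one]))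
      exact CentInt.two_elem_mem_sylow hj (pow_mem hg _)
    obtain ⟨j, rfl⟩ := ho
    have hodd : ∀ j : ℕ, g ^ (2 * j + 1) * x₁ * (g ^ (2 * j + 1))⁻¹ ∈ W := by
      intro j
      induction j with
      | zero => simpa using hQW x₁ hx₁
      | succ j ih =>
        rw [show 2 * (j + 1) + 1 = 2 + (2 * j + 1) by ring, pow_add g 2, show g ^ 2 * g ^ (2 * j + 1) * x₁ *
          (g ^ 2 * g ^ (2 * j + 1))⁻¹ = g * (g * (g ^ (2 * j + 1) * x₁ * (g ^ (2 * j + 1))⁻¹) * g⁻¹) * g⁻¹ by group]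
        exact hQW _ (hWQ _ ih)
    have h1 := hodd j
    rcases h.conj_trivial hT' (d.leQ hx₁) with e | e <;> rw [e] at h1
    · exact (hinter x₁ hx₁ h1).elim (h.root_ne hx₁x).1 (h.root_ne hx₁x).2
    · have h2 := mul_mem h1 d.uW
      rw [h.uu_cancel] at h2
      exact (hinter x₁ hx₁ h2).elim (h.root_ne hx₁x).1 (h.root_ne hx₁x).2
  -- transport to the simple quotient
  set S₁ := T.mapSurjective (QuotientGroup.mk'_surjective (center C)) with hS₁
  have hback : ∀ {x : C}, π x ∈ (S₁ : Subgroup (C ⧸ center C)) → x ∈ (T : Subgroup C) := fun hx =>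
    hmem h.u_mem_T hx
  haveI : IsMulCommutative (S₁ : Subgroup (C ⧸ center C)) := ⟨⟨by
    rintro ⟨_, x, hx, rfl⟩ ⟨_, y, hy, rfl⟩
    exact Subtype.ext (h.mk_comm hx hy).eq⟩⟩
  have hburn : ∀ {x g : C}, x ∈ (T : Subgroup C) → π (g * x * g⁻¹) ∈ (S₁ : Subgroup (C ⧸ center C)) →
      ∃ m ∈ H, π (m * x * m⁻¹) = π (g * x * g⁻¹) := by
    intro x g hx hg
    obtain ⟨n, hn, e⟩ := S₁.conj_eq_normalizer_conj_of_mem (π x) (π g)⁻¹ ⟨x, hx, rfl⟩ (by
      rw [inv_inv, ← map_inv, ← map_mul, ← map_mul]; exact hg)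
    obtain ⟨m, rfl⟩ := QuotientGroup.mk'_surjective _ n
    refine ⟨m⁻¹, inv_mem (mem_normalizer_fintype fun y hy => hback ?_), ?_⟩
    · rw [map_mul, map_mul, map_inv]
      exact (mem_normalizer_iff.1 hn _).1 ⟨y, hy, rfl⟩
    · rw [inv_inv] at e ⊢
      rw [map_mul, map_mul, map_mul, map_mul, map_inv, map_inv]
      exact e.symm
  set R := Q.map π with hR
  have hRcl : Cfsg.IsStronglyClosed R (S₁ : Subgroup (C ⧸ center C)) := by
    refine ⟨map_mono d.leQ, ?_⟩
    rintro _ ⟨x, hx, rfl⟩ k hk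
    obtain ⟨g, rfl⟩ := QuotientGroup.mk'_surjective _ k
    rw [← map_inv, ← map_mul, ← map_mul] at hk ⊢
    obtain ⟨m, hm, e⟩ := hburn (d.leQ hx) hk
    rw [← e]
    exact mem_map_of_mem π ((hfixed hm).1 x hx)
  have hR1 : R ≠ ⊥ := fun e => by
    have h1 : π x₁ = 1 := mem_bot.1 (e.le (mem_map_of_mem π hx₁))
    exact (h.cz x₁ ((QuotientGroup.eq_one_iff _).1 h1)).elim (h.root_ne hx₁x).1 (h.root_ne hx₁x).2
  let Y : Set (C ⧸ center C) := {z | z ∈ W.map π ∧ z ≠ 1}
  have hY2 : ∀ z ∈ Y, orderOf z = 2 := by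
    rintro _ ⟨⟨y, hy, rfl⟩, hy1⟩
    refine orderOf_two_iff.2 ⟨?_, hy1⟩
    rw [← map_mul]
    rcases h.sq y (d.leW hy) with e | e <;> rw [e]
    exacts [map_one _, (QuotientGroup.eq_one_iff _).2 h.u_center]
  refine hR1 (Transfer.CentralFour.eq_bot_of_pair hna ?_ S₁ R hRcl Y (y₀ := π x₂)
    ⟨mem_map_of_mem π hx₂, fun e => (h.cz x₂ ((QuotientGroup.eq_one_iff _).1 e)).elim (h.root_ne hx₂x).1
      (h.root_ne hx₂x).2⟩ hY2 (fun z hz => map_mono d.leW hz.1) ?_ ?_ ?_ ?_)
  · rcases (inferInstance : (Cfsg.pPrimeCore 2 (C ⧸ center C)).Normal).eq_bot_or_eq_top with e | e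
    · exact e
    · exfalso
      have h1 : Nat.Coprime (Nat.card (Cfsg.pPrimeCore 2 (C ⧸ center C))) 2 := Grp.pPrimeCore_coprime
      rw [e, Subgroup.card_top] at h1
      have h2 : 2 ∣ Nat.card (C ⧸ center C) := hY2 (π x₂) ⟨mem_map_of_mem π hx₂, fun e' =>
        (h.cz x₂ ((QuotientGroup.eq_one_iff _).1 e')).elim (h.root_ne hx₂x).1 (h.root_ne hx₂x).2⟩ ▸
        orderOf_dvd_natCard _
      exact absurd (Nat.eq_one_of_dvd_coprimes h1 h2 dvd_rfl) (by norm_num)
  · rintro _ ⟨⟨y, hy, rfl⟩, hy1⟩ k hk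
    obtain ⟨g, rfl⟩ := QuotientGroup.mk'_surjective _ k
    refine ⟨?_, fun e => hy1 (conj_eq_one_iff.1 e)⟩
    rw [← map_inv, ← map_mul, ← map_mul] at hk ⊢
    obtain ⟨m, hm, e⟩ := hburn (d.leW hy) hk
    rw [← e]
    exact mem_map_of_mem π ((hfixed hm).2 y hy)
  · rintro z hz z' hz' hne -
    refine ⟨mul_mem hz.1 hz'.1, fun e => hne ?_⟩
    rw [eq_inv_of_mul_eq_one_left e, inv_of_orderOf_two (hY2 z' hz')]
  · rintro _ ⟨⟨y, hy, rfl⟩, hy1⟩ hR'
    rcases hinter y (hmem d.uQ hR') hy with e | e <;> rw [e] at hy1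
    exacts [hy1 (map_one _), hy1 ((QuotientGroup.eq_one_iff _).2 h.u_center)]
  · rintro _ ⟨x, hx, rfl⟩ _ ⟨⟨y, hy, rfl⟩, -⟩
    exact (d.comm x hx y hy).map π

/-- No such group. -/
theorem false_of_ex (h : Ex T u) [IsSimpleGroup (C ⧸ center C)] (hna : ¬ IsMulCommutative (C ⧸ center C)) :
    False := by
  obtain ⟨v, hv, hvv, hmv⟩ := h.exists_moved hna
  obtain ⟨a, ha, b, hb, haa, hbb, hav, hbv, hab⟩ := h.exists_pair hna hv hvv
  obtain ⟨Q, W, d⟩ := h.exists_two hv hvv hmv ha hb haa hbb hav hbv hab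
  exact h.false_of_two hna d

end Ex

end Cfsg.Agent.Invol.RankOneInter
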