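import Cfsg.Agent.Lib.Invol.RankOneInter.Quat
import Cfsg.Agent.Lib.Invol.RankOneInter.ExtraspecialFalse

/-!
# All involutions modulo the radical are good
-/

set_option autoImplicit false
set_option linter.style.haveILetI false
set_option linter.unusedSectionVars false

open Subgroup
open scoped commutatorElement

namespace Cfsg.Agent.Invol.RankOneInter

universe u

variable {G : Type u} [Group G] [Finite G] {c : Cfg G}

namespace Simp

theorem false_of_extra (D : Simp c) (h : D.Extra) : False := by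
  obtain ⟨hQ, huL, hsq, hcm, hcen, t, htT, htt, ht1, htu⟩ := h
  obtain ⟨P, hP⟩ := D.sylow
  have hmem : ∀ {x : D.L}, x ∈ (P : Subgroup D.L) ↔ (x : G) ∈ (c.S : Subgroup G) := fun {x} =>
    SetLike.ext_iff.1 hP x
  have hT : ∀ {x : D.L}, x ∈ (P : Subgroup D.L) → (x : G) ∈ (c.S : Subgroup G) ⊓ D.L := fun {x} hx =>
    ⟨hmem.1 hx, x.2⟩
  have hval : ∀ {x : D.L}, ((x : G) = 1 ∨ (x : G) = c.u) → x = 1 ∨ x = ⟨c.u, huL⟩ := fun h =>
    h.imp (fun e => Subtype.ext e) fun e => Subtype.ext e
  have hEx : Ex P (⟨c.u, huL⟩ : D.L) := by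
    refine ⟨by rw [Subgroup.orderOf_mk, c.hQ.two], fun g => Subtype.ext (c.ucen (g : G)).eq,
      fun z hz => hval (D.small_R hQ ((D.mem_center z).1 hz)),
      fun x hx => (hsq _ (hT hx)).imp (fun e => Subtype.ext e) fun e => Subtype.ext e, fun x hx y hy => ?_,
      fun z hz hc => hval (hcen _ (hT hz) fun y hy => congrArg Subtype.val (hc ⟨y, hy.2⟩ (hmem.2 hy.1)).eq),
      ⟨⟨t, htT.2⟩, hmem.2 htT.1, orderOf_two_iff.2 ⟨Subtype.ext htt, fun e => ht1 (congrArg Subtype.val e)⟩,
        fun e => htu (congrArg Subtype.val e)⟩, fun y hy hy2 hyu g hg => ?_, fun e => D.ns ?_⟩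
    · rcases hcm _ (hT hy) _ (hT hx) with e | e
      · exact Or.inl (Subtype.ext (commutatorElement_eq_one_iff_mul_comm.1 e))
      · refine Or.inr (Subtype.ext ?_)
        show (y : G) * x = x * y * c.u
        rw [show (y : G) * x = ⁅(y : G), (x : G)⁆ * (x * y) by rw [commutatorElement_def]; group, e]
        exact ((c.ucen _).symm).eq
    · have hn := c.ctl (t := (y : G)) (g := (g : G)) (by rw [Subgroup.orderOf_coe]; exact hy2)
        (fun e => hyu (Subtype.ext e)) (hmem.1 hy) (hmem.1 hg)
      exact mem_normalizer_iff.2 fun z =>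
        hmem.trans ((mem_normalizer_iff.1 hn (z : G)).trans (hmem (x := g * z * g⁻¹)).symm)
    · have hs := isSolvable_sylow_normalizer P
      rw [e] at hs
      haveI := hs
      exact Group.isSolvable_of_surjective (f := (topEquiv : (⊤ : Subgroup D.L) ≃* D.L).toMonoidHom)
        topEquiv.surjective
  haveI := D.isSimple_K
  exact hEx.false_of_ex D.not_comm_K

theorem allGood (D : Simp c) : D.AllGood := by
  rcases D.cases with h | h | h
  exacts [h, (D.false_of_quat h).elim, (D.false_of_extra h).elim]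

end Simp

end Cfsg.Agent.Invol.RankOneInter
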