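import Cfsg.Agent.Lib.Invol.RankOneInter.CaseA
import Cfsg.Agent.Lib.Invol.RankOneInter.Cases
import Cfsg.Agent.Lib.Invol.Core2.TwistBasic

/-!
# Sylow 2-intersections of rank one: the reduction modulo `O(G)`

With an elementary subgroup of order eight a Sylow 2-subgroup centralises `O(G)`, so `O₂(G)` maps onto
`O₂(G/O(G))`.
-/

set_option autoImplicit false
set_option linter.style.haveILetI false
set_option linter.unusedSectionVars false

open Subgroup
open scoped commutatorElement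

namespace Cfsg.Agent.Invol.RankOneInter

universe u

variable {G : Type u} [Group G] [Finite G]

/-- Only the identity of a 2-subgroup lies in a subgroup of odd order. -/
theorem eq_one_of_mem_odd {S N : Subgroup G} (hS : IsPGroup 2 S) (hN : Odd (Nat.card N)) {x : G} (hxS : x ∈ S)
    (hxN : x ∈ N) : x = 1 := by
  obtain ⟨k, hk⟩ := hS ⟨x, hxS⟩
  have hk' : x ^ 2 ^ k = 1 := congrArg Subtype.val hk
  have h2 := orderOf_dvd_natCard (⟨x, hxN⟩ : N)
  rw [Subgroup.orderOf_mk] at h2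
  exact orderOf_eq_one_iff.1 (Nat.eq_one_of_dvd_coprimes (Nat.Coprime.pow_left k (Nat.coprime_two_left.2 hN))
    (orderOf_dvd_of_pow_eq_one hk') h2)

/-- A Sylow subgroup containing an elementary group of order at least eight centralises a normal subgroup of odd
order. -/
theorem commute_odd (hR : RI G) {N : Subgroup G} [N.Normal] (hN : Odd (Nat.card N)) (S : Sylow 2 G)
    {E : Subgroup G} (hE : E ≤ (S : Subgroup G)) (hcomm : ∀ x ∈ E, ∀ y ∈ E, Commute x y)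
    (h2 : ∀ x ∈ E, x * x = 1) (hcard : 4 < Nat.card E) :
    ∀ s ∈ (S : Subgroup G), ∀ n ∈ N, Commute s n := by
  haveI : Fact (Nat.Prime 2) := ⟨Nat.prime_two⟩
  classical
  -- four elements do not exhaust `E`
  have hout : ∀ a b c d : G, ∃ x ∈ E, x ≠ a ∧ x ≠ b ∧ x ≠ c ∧ x ≠ d := by
    intro a b c d
    by_contra hall
    push Not at hall
    have hsub : (E : Set G) ⊆ (({a, b, c, d} : Finset G) : Set G) := fun x hx => by
      simp only [Finset.coe_insert, Finset.coe_singleton, Set.mem_insert_iff, Set.mem_singleton_iff]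
      by_contra h
      simp only [not_or] at h
      exact h.2.2.2 (hall x hx h.1 h.2.1 h.2.2.1)
    have h1 := Set.ncard_le_ncard hsub (Finset.finite_toSet _)
    rw [Set.ncard_coe_finset] at h1
    have h4 : ({a, b, c, d} : Finset G).card ≤ 4 := Finset.card_le_four
    rw [show (E : Set G).ncard = Nat.card E from (Nat.card_coe_set_eq _).symm] at h1
    omega
  have hord : ∀ {x : G}, x ∈ E → x ≠ 1 → orderOf x = 2 := fun hx h1 => orderOf_two_iff.2 ⟨h2 _ hx, h1⟩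
  have hmul : ∀ {x y : G}, x ∈ E → y ∈ E → x ≠ y → x * y ≠ 1 := fun {x y} hx _ hne e =>
    hne ((inv_eq_of_mul_eq_one_right (h2 x hx)).symm.trans (inv_eq_of_mul_eq_one_right e))
  -- centralisers of two involutions of `E`
  have hpair : ∀ a ∈ E, ∀ x ∈ E, a ≠ 1 → x ≠ 1 → a ≠ x →
      (N ⊓ centralizer ({a} : Set G)) ⊓ centralizer ({x} : Set G) ≤ normalizer ((S : Subgroup G) : Set G) :=
    fun a ha x hx ha1 hx1 hne g hg => centralizer_four_le hR (hord ha ha1) (hord hx hx1) hne (hcomm a ha x hx)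
      (hE ha) (hE hx) (mem_centralizer_singleton_iff.1 hg.1.2) (mem_centralizer_singleton_iff.1 hg.2)
  have hnorm : ∀ a ∈ E, ∀ x ∈ E, x ∈ normalizer ((N ⊓ centralizer ({a} : Set G) : Subgroup G) : Set G) := by
    intro a ha x hx
    refine mem_normalizer_iff.2 fun g => ?_
    have hxi : x⁻¹ = x := inv_eq_of_mul_eq_one_right (h2 x hx)
    have key : ∀ g ∈ N ⊓ centralizer ({a} : Set G), x * g * x⁻¹ ∈ N ⊓ centralizer ({a} : Set G) := fun g hg =>
      ⟨(inferInstance : N.Normal).conj_mem g hg.1 x, mem_centralizer_singleton_iff.2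
        (((hcomm x hx a ha).mul_left (mem_centralizer_singleton_iff.1 hg.2)).mul_left (hcomm x hx a ha).inv_left)⟩
    refine ⟨key g, fun hg => ?_⟩
    have h1 := key _ hg
    rwa [hxi, show x * (x * g * x) * x = (x * x) * g * (x * x) by group, h2 x hx, one_mul, mul_one] at h1
  have hone : ∀ a ∈ E, a ≠ 1 → N ⊓ centralizer ({a} : Set G) ≤ normalizer ((S : Subgroup G) : Set G) := by
    intro a ha ha1
    obtain ⟨b, hb, hb1, hba, -, -⟩ := hout 1 a 1 1
    obtain ⟨d, hd, hd1, hda, hdb, hdab⟩ := hout 1 a b (a * b)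
    refine Core2.le_of_four (Odd.of_dvd_nat hN (card_dvd_of_le inf_le_left)) (hord hd hd1) (hord hb hb1)
      (fun e => hdb e.symm) (hcomm b hb d hd) (hnorm a ha d hd) (hnorm a ha b hb)
      (hpair a ha d hd ha1 hd1 (Ne.symm hda)) (hpair a ha b hb ha1 hb1 (Ne.symm hba))
      (hpair a ha _ (mul_mem hb hd) ha1 (hmul hb hd (Ne.symm hdb)) fun e => hdab ?_)
    rw [e, mul_assoc, (hcomm d hd b hb).eq, ← mul_assoc, h2 b hb, one_mul]
  obtain ⟨a, ha, ha1, -, -, -⟩ := hout 1 1 1 1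
  obtain ⟨b, hb, hb1, hba, -, -⟩ := hout 1 a 1 1
  have hNS : N ≤ normalizer ((S : Subgroup G) : Set G) :=
    Core2.le_of_four hN (hord ha ha1) (hord hb hb1) hba (hcomm b hb a ha)
      (by rw [normalizer_eq_top]; exact mem_top _) (by rw [normalizer_eq_top]; exact mem_top _)
      (hone a ha ha1) (hone b hb hb1) (hone _ (mul_mem hb ha) (hmul hb ha hba))
  intro s hs n hn
  have hS' : n * s⁻¹ * n⁻¹ ∈ (S : Subgroup G) := (mem_normalizer_iff.1 (hNS hn) _).1 (inv_mem hs)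
  have h1 : s * n * s⁻¹ * n⁻¹ ∈ (S : Subgroup G) := by
    rw [show s * n * s⁻¹ * n⁻¹ = s * (n * s⁻¹ * n⁻¹) by group]
    exact mul_mem hs hS'
  exact mul_inv_eq_iff_eq_mul.1 (mul_inv_eq_one.1 (eq_one_of_mem_odd S.isPGroup' hN h1
    (mul_mem ((inferInstance : N.Normal).conj_mem n hn s) (inv_mem hn))))

section Lift

variable (N : Subgroup G) [N.Normal]

/-- The preimage of a subgroup modulo the preimage of one of its normal subgroups. -/
theorem quotient_comap_iso (A B : Subgroup (G ⧸ N)) [(B.subgroupOf A).Normal] :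
    ∃ _h : ((B.comap (QuotientGroup.mk' N)).subgroupOf (A.comap (QuotientGroup.mk' N))).Normal,
      Nonempty (↥(A.comap (QuotientGroup.mk' N)) ⧸
          (B.comap (QuotientGroup.mk' N)).subgroupOf (A.comap (QuotientGroup.mk' N)) ≃* ↥A ⧸ B.subgroupOf A) := by
  set f := QuotientGroup.mk' N with hf
  let φ : ↥(A.comap f) →* ↥A ⧸ B.subgroupOf A := (QuotientGroup.mk' (B.subgroupOf A)).comp (f.subgroupComap A)
  have hφ : Function.Surjective φ := (QuotientGroup.mk'_surjective _).comp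
    (MonoidHom.subgroupComap_surjective_of_surjective f _ (QuotientGroup.mk'_surjective N))
  have hker : φ.ker = (B.comap f).subgroupOf (A.comap f) := by
    ext x
    rw [MonoidHom.mem_ker, mem_subgroupOf, mem_comap]
    exact (QuotientGroup.eq_one_iff _).trans mem_subgroupOf
  have hn : ((B.comap f).subgroupOf (A.comap f)).Normal := hker ▸ inferInstance
  exact ⟨hn, ⟨(QuotientGroup.quotientMulEquivOfEq hker.symm).trans
    (QuotientGroup.quotientKerEquivOfSurjective φ hφ)⟩⟩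

theorem concl_two_lift (hc : ConclTwo (G ⧸ N)) :
    ∃ (G₁ : Subgroup G) (_ : G₁.Normal) (_ : (N.subgroupOf G₁).Normal),
      (Odd G₁.index ∨ ∃ k : ℕ, Odd k ∧ G₁.index = 2 * k) ∧ N ≤ G₁ ∧
      ∃ (Z : Subgroup (Matrix.SpecialLinearGroup (Fin 2) (ZMod 5) × Matrix.SpecialLinearGroup (Fin 2) (ZMod 5)))
        (_ : Z.Normal),
        Z = Subgroup.zpowers ((-1 : Matrix.SpecialLinearGroup (Fin 2) (ZMod 5)),
          (-1 : Matrix.SpecialLinearGroup (Fin 2) (ZMod 5))) ∧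
        Nonempty (↥G₁ ⧸ N.subgroupOf G₁ ≃*
          (Matrix.SpecialLinearGroup (Fin 2) (ZMod 5) × Matrix.SpecialLinearGroup (Fin 2) (ZMod 5)) ⧸ Z) := by
  obtain ⟨A, hA, hidx, Z, hZn, hZ, ⟨e⟩⟩ := hc
  set f := QuotientGroup.mk' N with hf
  have hle : N ≤ A.comap f := fun x hx => by
    show f x ∈ A
    rw [show f x = 1 from (QuotientGroup.eq_one_iff x).2 hx]
    exact one_mem A
  haveI := hA
  refine ⟨A.comap f, inferInstance, inferInstance, ?_, hle, Z, hZn, hZ, ?_⟩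
  · rwa [index_comap_of_surjective _ (QuotientGroup.mk'_surjective N)]
  have hker : (f.subgroupComap A).ker = N.subgroupOf (A.comap f) := by
    ext x
    rw [MonoidHom.mem_ker, mem_subgroupOf]
    exact Subtype.ext_iff.trans (QuotientGroup.eq_one_iff _)
  exact ⟨((QuotientGroup.quotientMulEquivOfEq hker.symm).trans (QuotientGroup.quotientKerEquivOfSurjective _
    (MonoidHom.subgroupComap_surjective_of_surjective f _ (QuotientGroup.mk'_surjective N)))).trans e⟩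

variable {N}

theorem concl_one_lift (hR : RI G) (hN : Odd (Nat.card N)) (hc : ConclOne (G ⧸ N)) :
    ∃ (G₁ : Subgroup G) (_ : G₁.Normal) (_ : ((Cfsg.pCore 2 G ⊔ N).subgroupOf G₁).Normal),
      Odd G₁.index ∧ Cfsg.pCore 2 G ⊔ N ≤ G₁ ∧
      (∃ n : ℕ, Nonempty (↥(Cfsg.pCore 2 G) ≃* QuaternionGroup (2 ^ (n + 1)))) ∧
      Models (↥G₁ ⧸ (Cfsg.pCore 2 G ⊔ N).subgroupOf G₁) := by
  haveI : Fact (Nat.Prime 2) := ⟨Nat.prime_two⟩
  obtain ⟨A, hA, hQAn, hodd, hQA, ⟨n, ⟨eQ⟩⟩, hrank, hmod⟩ := hc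
  set f := QuotientGroup.mk' N with hf
  have hfs : Function.Surjective f := QuotientGroup.mk'_surjective N
  -- an elementary subgroup of order at least eight
  obtain ⟨X, hXc, hX2, hXcard⟩ : ∃ X : Subgroup (G ⧸ N), IsMulCommutative X ∧ (∀ a ∈ X, a ^ 2 = 1) ∧
      2 ^ 2 < Nat.card X := by
    unfold Cfsg.PRankLE at hrank
    push Not at hrank
    exact hrank
  have hXp : IsPGroup 2 X := fun x => ⟨1, Subtype.ext (by simpa using hX2 x x.2)⟩
  obtain ⟨S', hS'⟩ := hXp.exists_le_sylow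
  obtain ⟨S, -, hS⟩ := S3305.exists_lift f hfs S' (⊥ : Subgroup G) IsPGroup.of_bot (by rw [Subgroup.map_bot]; exact bot_le)
  have hinj : ∀ {x y : G}, x ∈ (S : Subgroup G) → y ∈ (S : Subgroup G) → f x = f y → x = y := fun {x y} hx hy e =>
    inv_mul_eq_one.1 (eq_one_of_mem_odd S.isPGroup' hN (mul_mem (inv_mem hx) hy)
      ((QuotientGroup.eq).1 e))
  set E := (S : Subgroup G) ⊓ X.comap f with hEdef
  have hEcard : Nat.card E = Nat.card X := by
    refine Nat.card_eq_of_bijective (fun x => ⟨f x, x.2.2⟩ : E → X) ⟨fun x y e => ?_, fun x => ?_⟩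
    · exact Subtype.ext (hinj x.2.1 y.2.1 (congrArg Subtype.val e))
    · obtain ⟨s, hs, hsx⟩ := hS.ge (hS' x.2)
      exact ⟨⟨s, hs, show f s ∈ X from hsx ▸ x.2⟩, Subtype.ext hsx⟩
  have hC := commute_odd hR hN S (E := E) inf_le_left
    (fun x hx y hy => hinj (mul_mem hx.1 hy.1) (mul_mem hy.1 hx.1) (by
      rw [map_mul, map_mul]
      exact congrArg Subtype.val (hXc.is_comm.comm (⟨f x, hx.2⟩ : X) ⟨f y, hy.2⟩)))
    (fun x hx => hinj (mul_mem hx.1 hx.1) (one_mem _) (by rw [map_mul, map_one, ← pow_two]; exact hX2 _ hx.2))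
    (by rw [hEcard]; omega)
  -- the preimage of `O₂` splits
  set Q := Cfsg.pCore 2 (G ⧸ N) with hQdef
  set P := Q.comap f with hPdef
  set Q₁ := (S : Subgroup G) ⊓ P with hQ₁
  have hQ₁p : IsPGroup 2 Q₁ := S.isPGroup'.to_le inf_le_left
  have hdec : ∀ g ∈ P, ∃ q ∈ Q₁, ∃ m ∈ N, g = q * m := by
    intro g hg
    obtain ⟨s, hs, hsg⟩ := hS.ge (Grp.pCore_le_sylow S' (show f g ∈ Q from hg))
    exact ⟨s, ⟨hs, show f s ∈ Q from hsg ▸ hg⟩, s⁻¹ * g, QuotientGroup.eq.1 hsg, by group⟩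
  have hQ₁n : Q₁.Normal := ⟨fun x hx g => by
    have hgP : g * x * g⁻¹ ∈ P := (inferInstance : P.Normal).conj_mem x hx.2 g
    obtain ⟨q, hq, m, hm, e⟩ := hdec _ hgP
    obtain ⟨k, hk⟩ := hQ₁p ⟨x, hx⟩
    obtain ⟨j, hj⟩ := hQ₁p ⟨q, hq⟩
    have hk' : x ^ 2 ^ k = 1 := congrArg Subtype.val hk
    have hj' : q ^ 2 ^ j = 1 := congrArg Subtype.val hj
    have h1 : (g * x * g⁻¹) ^ 2 ^ (k + j) = 1 := by
      rw [conj_pow, pow_add, pow_mul, hk', one_pow, mul_one, mul_inv_cancel]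
    rw [e, (hC q hq.1 m hm).mul_pow, pow_add, mul_comm (2 ^ k), pow_mul, hj', one_pow, one_mul] at h1
    have hm1 : m = 1 := by
      have h2 := orderOf_dvd_natCard (⟨m, hm⟩ : N)
      rw [Subgroup.orderOf_mk] at h2
      refine orderOf_eq_one_iff.1 (Nat.eq_one_of_dvd_coprimes
        (Nat.Coprime.pow_left (j + k) (Nat.coprime_two_left.2 hN)) (orderOf_dvd_of_pow_eq_one ?_) h2)
      rwa [pow_add]
    rwa [e, hm1, mul_one]⟩
  have hcore : Cfsg.pCore 2 G = Q₁ := by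
    refine le_antisymm (le_inf (Grp.pCore_le_sylow S) fun x hx => ?_) (Grp.le_pCore hQ₁n hQ₁p)
    exact Grp.le_pCore ((inferInstance : (Cfsg.pCore 2 G).Normal).map f hfs)
      ((Grp.pCore_isPGroup (p := 2) (G := G)).map f) ⟨x, hx, rfl⟩
  have hNP : N ≤ P := fun x hx => by
    show f x ∈ Q
    rw [show f x = 1 from (QuotientGroup.eq_one_iff x).2 hx]
    exact one_mem Q
  have hsup : Cfsg.pCore 2 G ⊔ N = P := by
    refine le_antisymm (sup_le (hcore ▸ inf_le_right) hNP) fun g hg => ?_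
    obtain ⟨q, hq, m, hm, rfl⟩ := hdec g hg
    exact mul_mem (mem_sup_left (hcore ▸ hq)) (mem_sup_right hm)
  let eC : ↥(Cfsg.pCore 2 G) ≃* ↥Q := (MulEquiv.subgroupCongr hcore).trans (MulEquiv.ofBijective
    (MonoidHom.mk' (fun x : Q₁ => (⟨f x, x.2.2⟩ : Q)) fun x y => Subtype.ext (map_mul f _ _))
    ⟨fun x y e => Subtype.ext (hinj x.2.1 y.2.1 (congrArg Subtype.val e)), fun x => by
      obtain ⟨s, hs, hsx⟩ := hS.ge (Grp.pCore_le_sylow S' x.2)
      exact ⟨⟨s, hs, show f s ∈ Q from hsx ▸ x.2⟩, Subtype.ext hsx⟩⟩)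
  haveI := hQAn
  obtain ⟨hn, ⟨eM⟩⟩ := quotient_comap_iso N A Q
  haveI := hA
  rw [hsup]
  exact ⟨A.comap f, inferInstance, hn, by rwa [index_comap_of_surjective _ hfs], comap_mono hQA,
    ⟨n, ⟨eC.trans eQ⟩⟩, hmod.congr eM.symm⟩

end Lift

/-- The conclusion of S3310. -/
theorem s3310 (hns : ¬ Group.IsSolvable G) (hR : RI G)
    (hnC : ∃ S T : Sylow 2 (G ⧸ Cfsg.oddCore G), S ≠ T ∧
      ¬ IsCyclic ↥((S : Subgroup (G ⧸ Cfsg.oddCore G)) ⊓ (T : Subgroup (G ⧸ Cfsg.oddCore G))))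
    (hnQ : ∀ S : Sylow 2 G, ∀ n : ℕ, IsEmpty (↥(S : Subgroup G) ≃* QuaternionGroup (2 ^ (n + 1)))) :
    (∃ (G₁ : Subgroup G) (_ : G₁.Normal) (_ : ((Cfsg.pCore 2 G ⊔ Cfsg.oddCore G).subgroupOf G₁).Normal),
      Odd G₁.index ∧ Cfsg.pCore 2 G ⊔ Cfsg.oddCore G ≤ G₁ ∧
      (∃ n : ℕ, Nonempty (↥(Cfsg.pCore 2 G) ≃* QuaternionGroup (2 ^ (n + 1)))) ∧
      Models (↥G₁ ⧸ (Cfsg.pCore 2 G ⊔ Cfsg.oddCore G).subgroupOf G₁)) ∨
    (∃ (G₁ : Subgroup G) (_ : G₁.Normal) (_ : ((Cfsg.oddCore G).subgroupOf G₁).Normal),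
      (Odd G₁.index ∨ ∃ k : ℕ, Odd k ∧ G₁.index = 2 * k) ∧ Cfsg.oddCore G ≤ G₁ ∧
      ∃ (Z : Subgroup (Matrix.SpecialLinearGroup (Fin 2) (ZMod 5) × Matrix.SpecialLinearGroup (Fin 2) (ZMod 5)))
        (_ : Z.Normal),
        Z = Subgroup.zpowers ((-1 : Matrix.SpecialLinearGroup (Fin 2) (ZMod 5)),
          (-1 : Matrix.SpecialLinearGroup (Fin 2) (ZMod 5))) ∧
        Nonempty (↥G₁ ⧸ (Cfsg.oddCore G).subgroupOf G₁ ≃*
          (Matrix.SpecialLinearGroup (Fin 2) (ZMod 5) × Matrix.SpecialLinearGroup (Fin 2) (ZMod 5)) ⧸ Z)) := by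
  haveI : Fact (Nat.Prime 2) := ⟨Nat.prime_two⟩
  set N := Cfsg.oddCore G with hNdef
  have hN : Odd (Nat.card N) := CentRank.oddCore_odd
  set f := QuotientGroup.mk' N with hf
  have hfs : Function.Surjective f := QuotientGroup.mk'_surjective N
  have hRq : RI (G ⧸ N) := ri_quotient hR N hN
  have hnsq : ¬ Group.IsSolvable (G ⧸ N) := fun h =>
    hns ((Group.isSolvable_iff_subgroup_quotient N).2 ⟨S0205.result hN, h⟩)
  have hcoreq : ∀ K : Subgroup (G ⧸ N), K.Normal → Odd (Nat.card K) → K = ⊥ := fun K hK hKo =>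
    le_bot_iff.1 ((Grp.le_pPrimeCore hK (Nat.coprime_two_right.2 hKo)).trans
      (Grp.pPrimeCore_quotient_eq_bot (G := G) (p := 2)).le)
  have hnQq : ∀ S' : Sylow 2 (G ⧸ N), ∀ n : ℕ,
      IsEmpty (↥(S' : Subgroup (G ⧸ N)) ≃* QuaternionGroup (2 ^ (n + 1))) := by
    intro S' n
    obtain ⟨S, -, hS⟩ := S3305.exists_lift f hfs S' (⊥ : Subgroup G) IsPGroup.of_bot (by rw [Subgroup.map_bot]; exact bot_le)
    refine ⟨fun e => (hnQ S n).false (((MulEquiv.ofBijective (f.subgroupMap (S : Subgroup G))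
      ⟨fun x y h => ?_, f.subgroupMap_surjective _⟩).trans (MulEquiv.subgroupCongr hS)).trans e)⟩
    exact Subtype.ext (inv_mul_eq_one.1 (eq_one_of_mem_odd S.isPGroup' hN (mul_mem (inv_mem x.2) y.2)
      (QuotientGroup.eq.1 (congrArg Subtype.val h :))))
  obtain ⟨S, T, hST, hnc⟩ := hnC
  by_cases hQ : Cfsg.pCore 2 (G ⧸ N) = ⊥
  · exact absurd (cycInter_of_trivial hRq hnsq hcoreq hQ S T hST) hnc
  obtain ⟨c⟩ := exists_cfg hRq hnsq hcoreq hQ hnQq
  rcases concl_of_cfg c with h | h | h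
  · exact Or.inr (concl_two_lift N h)
  · exact Or.inl (concl_one_lift hR hN h)
  · exact absurd (h S T hST) hnc

end Cfsg.Agent.Invol.RankOneInter
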