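import Cfsg.Agent.Lib.Invol.RankOneInter.Setup
import Cfsg.Agent.Lib.Invol.CentRank.Local
import Cfsg.Agent.Lib.Invol.BenderCover.Main
import Cfsg.Agent.S3378

/-!
# Two commuting perfect subgroups

Each is `SL(2, 5)`: it has one involution, and modulo it the normaliser of a Sylow subgroup is strongly embedded.
-/

set_option autoImplicit false
set_option linter.style.haveILetI false
set_option linter.unusedSectionVars false

open Subgroup
open scoped commutatorElement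

namespace Cfsg.Agent.Invol.RankOneInter

universe u

variable {G : Type u} [Group G] [Finite G]

/-- Commuting perfect subgroups normal in a normal subgroup, permuted by conjugation. -/
structure Pair (c : Cfg G) : Type u where
  H : Subgroup G
  Hn : H.Normal
  L₁ : Subgroup G
  L₂ : Subgroup G
  le₁ : L₁ ≤ H
  le₂ : L₂ ≤ H
  inv₁ : Inv H L₁
  inv₂ : Inv H L₂
  perf₁ : ⁅L₁, L₁⁆ = L₁
  perf₂ : ⁅L₂, L₂⁆ = L₂
  ns₁ : ¬ Group.IsSolvable L₁
  ns₂ : ¬ Group.IsSolvable L₂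
  comm : ∀ a ∈ L₁, ∀ b ∈ L₂, Commute a b
  perm : ∀ g : G,
    (L₁.map (MulAut.conj g).toMonoidHom = L₁ ∧ L₂.map (MulAut.conj g).toMonoidHom = L₂) ∨
    (L₁.map (MulAut.conj g).toMonoidHom = L₂ ∧ L₂.map (MulAut.conj g).toMonoidHom = L₁)

namespace Pair

variable {c : Cfg G} (P : Pair c)
include P

/-- The pair in the other order. -/
def symm : Pair c where
  H := P.H
  Hn := P.Hn
  L₁ := P.L₂
  L₂ := P.L₁
  le₁ := P.le₂
  le₂ := P.le₁
  inv₁ := P.inv₂
  inv₂ := P.inv₁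
  perf₁ := P.perf₂
  perf₂ := P.perf₁
  ns₁ := P.ns₂
  ns₂ := P.ns₁
  comm a ha b hb := (P.comm b hb a ha).symm
  perm g := (P.perm g).elim (fun h => Or.inl ⟨h.2, h.1⟩) fun h => Or.inr ⟨h.2, h.1⟩

theorem invol_eq {x : G} (hx : x ∈ P.L₁) (h2 : orderOf x = 2) : x = c.u := by
  by_contra hne
  exact P.ns₂ (c.isSolvable_of_commutes h2 hne fun m hm => (P.comm x hx m hm).symm)

theorem two_dvd : 2 ∣ Nat.card P.L₁ :=
  even_iff_two_dvd.1 (Nat.not_odd_iff_even.1 fun h => P.ns₁ (S0205.result h))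

theorem u_mem : c.u ∈ P.L₁ := by
  haveI : Fact (Nat.Prime 2) := ⟨Nat.prime_two⟩
  obtain ⟨x, hx, hx2⟩ := exists_orderOf_two_mem (even_iff_two_dvd.2 P.two_dvd)
  exact P.invol_eq hx hx2 ▸ hx

theorem solvable_normal_le (N : Subgroup P.L₁) [N.Normal] (hs : Group.IsSolvable N) : N.map P.L₁.subtype ≤ c.Q := by
  haveI := P.Hn
  obtain ⟨R', hc, hs', hmax⟩ := exists_radical ↥P.L₁
  haveI := hs'
  haveI := hc
  refine (map_mono (hmax N inferInstance hs)).trans (c.le_Q (H := P.H) ((map_subtype_le _).trans P.le₁) ?_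
    (Group.isSolvable_of_surjective (f := P.L₁.subtype.subgroupMap R') (P.L₁.subtype.subgroupMap_surjective R')) ?_)
  · rintro h hh _ ⟨x, hx, rfl⟩
    let e : ↥P.L₁ ≃* ↥P.L₁ :=
      { toFun := fun y => ⟨h * y * h⁻¹, P.inv₁ h hh y y.2⟩
        invFun := fun y => ⟨h⁻¹ * y * h, by simpa using P.inv₁ h⁻¹ (inv_mem hh) y y.2⟩
        left_inv := fun y => Subtype.ext (by simp [mul_assoc])
        right_inv := fun y => Subtype.ext (by simp [mul_assoc])
        map_mul' := fun y z => Subtype.ext (by simp [mul_assoc]) }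
    exact ⟨e x, characteristic_iff_map_le.1 hc e ⟨x, hx, rfl⟩, rfl⟩
  · rintro _ ⟨x, -, rfl⟩ q hq
    exact c.perfect_centralizes P.perf₁ x.2 hq

theorem mem_Q_of_central {z : G} (hz : z ∈ P.L₁) (hc : ∀ l ∈ P.L₁, Commute z l) : z ∈ c.Q :=
  P.solvable_normal_le (center ↥P.L₁) (Group.isSolvable_of_comm fun a b => Subtype.ext (mem_center_iff.1 b.2 a))
    ⟨⟨z, hz⟩, mem_center_iff.2 fun y => Subtype.ext (hc y y.2).symm.eq, rfl⟩

theorem sylow₁ : ∃ P₁ : Sylow 2 P.L₁, (P₁ : Subgroup P.L₁) = (c.S : Subgroup G).subgroupOf P.L₁ :=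
  haveI := P.Hn
  sylow_inf c.S P.le₁ P.inv₁

theorem oneInv_inf : OneInvOn ((c.S : Subgroup G) ⊓ P.L₁) c.u where
  pgroup := c.S.isPGroup'.to_le inf_le_left
  two := c.hQ.two
  mem := ⟨c.u_mem c.S, P.u_mem⟩
  uniq x hx hxx := or_iff_not_imp_left.2 fun h => P.invol_eq hx.2 (orderOf_two_iff.2 ⟨hxx, h⟩)

theorem noncomm : ¬ ∀ x y : ↥((c.S : Subgroup G) ⊓ P.L₁), Commute x y := by
  haveI : Fact (Nat.Prime 2) := ⟨Nat.prime_two⟩
  intro hcm
  obtain ⟨P₁, hP₁⟩ := P.sylow₁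
  let f : ↥(P₁ : Subgroup P.L₁) →* ↥((c.S : Subgroup G) ⊓ P.L₁) :=
    (P.L₁.subtype.comp (P₁ : Subgroup P.L₁).subtype).codRestrict _ fun x => ⟨(SetLike.ext_iff.1 hP₁ _).1 x.2, (x : P.L₁).2⟩
  have hf : Function.Injective f := fun a b e => Subtype.ext (Subtype.ext (congrArg Subtype.val e :))
  rcases P.oneInv_inf.oneInv.shape with hcy | ⟨a, ha4, hidx, hinv⟩
  · haveI := hcy
    haveI : IsCyclic (P₁ : Subgroup P.L₁) := isCyclic_of_injective f hf
    exact P.ns₁ (Transfer.ClassThree.isSolvable_of_cyclic_sylow_two P₁)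
  · obtain ⟨x, hx⟩ : ∃ x, x ∉ zpowers a := by
      by_contra hall
      push Not at hall
      rw [show zpowers a = ⊤ from eq_top_iff.2 fun x _ => hall x, index_top] at hidx
      omega
    have e := (hinv x hx).1
    rw [(hcm x a).eq, mul_inv_cancel_right] at e
    have := Nat.le_of_dvd two_pos (ha4.trans (orderOf_dvd_of_pow_eq_one (by
      rw [pow_two]; exact mul_eq_one_iff_eq_inv.2 e)))
    omega

/-- Two anticommuting roots of `u`. -/
theorem exists_roots : ∃ a r : G, a ∈ (c.S : Subgroup G) ⊓ P.L₁ ∧ r ∈ (c.S : Subgroup G) ⊓ P.L₁ ∧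
    a * a = c.u ∧ r * r = c.u ∧ r * a = a * r * c.u := by
  obtain ⟨a, ha4, hidx, hinv⟩ := P.oneInv_inf.oneInv.shape_of_noncomm P.noncomm
  obtain ⟨x, hx⟩ : ∃ x, x ∉ zpowers a := by
    by_contra hall
    push Not at hall
    rw [show zpowers a = ⊤ from eq_top_iff.2 fun x _ => hall x, index_top] at hidx
    omega
  obtain ⟨r, hr, hrx⟩ := P.oneInv_inf.oneInv.exists_anti P.noncomm (hinv x hx).2
  exact ⟨x, r, x.2, r.2, congrArg Subtype.val (hinv x hx).2, congrArg Subtype.val hr, congrArg Subtype.val hrx⟩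

omit P in
theorem root_not_central {a r : G} (hra : r * a = a * r * c.u) : ¬ Commute r a := fun h => c.u_ne (by
  have : a * r * 1 = a * r * c.u := by rw [mul_one, ← hra, h.eq]
  exact (mul_left_cancel this).symm)

theorem Q_eq {q : G} (hq : q ∈ c.Q) : q = 1 ∨ q = c.u := by
  by_contra hne
  rw [not_or] at hne
  obtain ⟨k, hk⟩ := c.hQ.pgroup ⟨q, hq⟩
  have hk' : q ^ 2 ^ k = 1 := congrArg Subtype.val hk
  classical
  have hex : ∃ i, q ^ 2 ^ i = 1 := ⟨k, hk'⟩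
  obtain ⟨i, hi⟩ : ∃ i, Nat.find hex = i + 2 := by
    refine ⟨Nat.find hex - 2, ?_⟩
    have h0 : Nat.find hex ≠ 0 := fun e => hne.1 (by simpa [e] using Nat.find_spec hex)
    have h1 : Nat.find hex ≠ 1 := fun e => by
      have := Nat.find_spec hex
      rw [e, pow_one, pow_two] at this
      exact (c.hQ.uniq q hq this).elim hne.1 hne.2
    omega
  obtain ⟨w, hw⟩ : ∃ w, w = q ^ 2 ^ i := ⟨_, rfl⟩
  have hwQ : w ∈ c.Q := hw ▸ pow_mem hq _
  have hww : w * w = c.u := by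
    have h1 : (w * w) * (w * w) = 1 := by
      rw [hw, ← pow_add, ← pow_add, show 2 ^ i + 2 ^ i + (2 ^ i + 2 ^ i) = 2 ^ (i + 2) by ring, ← hi]
      exact Nat.find_spec hex
    refine (c.hQ.uniq _ (mul_mem hwQ hwQ) h1).resolve_left fun e => Nat.find_min hex (show i + 1 < _ by omega) ?_
    rw [pow_succ, pow_mul, pow_two, ← hw, e]
  obtain ⟨a, r, ha, hr, haa, -, hra⟩ := P.exists_roots
  have hwa : Commute a w := c.perfect_centralizes P.perf₁ ha.2 hwQ
  have hni : a * w ≠ c.u ∧ a * w ≠ 1 := by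
    have key : a ∉ c.Q := fun h => root_not_central hra (c.perfect_centralizes P.perf₁ hr.2 h)
    exact ⟨fun e => key (by rw [eq_mul_inv_of_mul_eq e]; exact mul_mem c.hQ.mem (inv_mem hwQ)),
      fun e => key (by rw [eq_inv_of_mul_eq_one_left e]; exact inv_mem hwQ)⟩
  refine P.ns₂ (c.isSolvable_of_commutes (t := a * w) (orderOf_two_iff.2 ⟨?_, hni.2⟩) hni.1 fun m hm =>
    (P.comm a ha.2 m hm).symm.mul_right (c.perfect_centralizes P.perf₂ hm hwQ))
  rw [hwa.symm.mul_mul_mul_comm, haa, hww, c.uu]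

theorem R_eq {x : G} (hx : x ∈ c.R) : x = 1 ∨ x = c.u :=
  P.Q_eq (c.Rcent x hx fun q hq => by
    rcases P.Q_eq hq with rfl | rfl
    · exact Commute.one_right x
    · exact c.ucen x)

theorem central_eq {z : G} (hz : z ∈ P.L₁) (hc : ∀ l ∈ P.L₁, Commute z l) : z = 1 ∨ z = c.u :=
  P.Q_eq (P.mem_Q_of_central hz hc)

theorem inf_eq {z : G} (h₁ : z ∈ P.L₁) (h₂ : z ∈ P.L₂) : z = 1 ∨ z = c.u :=
  P.central_eq h₁ fun l hl => (P.comm l hl z h₂).symm

/-- The product of two roots is an involution other than `u`. -/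
theorem root_mul {a b : G} (ha : a ∈ P.L₁) (hb : b ∈ P.L₂) (haa : a * a = c.u) (hbb : b * b = c.u) :
    orderOf (a * b) = 2 ∧ a * b ≠ c.u := by
  have hn : ∀ z, a * b = z → (z = 1 ∨ z = c.u) → False := fun z e hz => by
    have hz1 : z ∈ P.L₁ := by rcases hz with rfl | rfl <;> [exact one_mem _; exact P.u_mem]
    have hb1 : b ∈ P.L₁ := by rw [eq_inv_mul_of_mul_eq e]; exact mul_mem (inv_mem ha) hz1
    rcases P.inf_eq hb1 hb with rfl | rfl
    · exact c.u_ne (by rw [← hbb, one_mul])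
    · exact c.u_ne (by rw [← hbb, c.uu])
  refine ⟨orderOf_two_iff.2 ⟨?_, fun e => hn 1 e (Or.inl rfl)⟩, fun e => hn c.u e (Or.inr rfl)⟩
  rw [(P.comm a ha b hb).symm.mul_mul_mul_comm, haa, hbb, c.uu]

/-- An element of `L₁` keeping a root in `S` normalises `S`. -/
theorem ctl₁ {a g : G} (ha : a ∈ (c.S : Subgroup G) ⊓ P.L₁) (haa : a * a = c.u) (hg : g ∈ P.L₁)
    (hga : g * a * g⁻¹ ∈ (c.S : Subgroup G)) : g ∈ normalizer ((c.S : Subgroup G) : Set G) := by
  obtain ⟨b, -, hb, -, hbb, -, -⟩ := P.symm.exists_roots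
  obtain ⟨h2, hne⟩ := P.root_mul ha.2 hb.2 haa hbb
  refine c.ctl h2 hne (mul_mem ha.1 hb.1) ?_
  rw [show g * (a * b) * g⁻¹ = (g * a * g⁻¹) * (g * b * g⁻¹) by group, (P.comm g hg b hb.2).eq,
    mul_inv_cancel_right]
  exact mul_mem hga hb.1

/-- `L₁` modulo its centre. -/
abbrev K : Type u := ↥P.L₁ ⧸ center ↥P.L₁

theorem mem_center₁ (z : P.L₁) : z ∈ center ↥P.L₁ ↔ ((z : G) = 1 ∨ (z : G) = c.u) := by
  refine ⟨fun h => P.central_eq z.2 fun l hl => (congrArg Subtype.val (mem_center_iff.1 h ⟨l, hl⟩)).symm, fun h => ?_⟩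
  refine mem_center_iff.2 fun y => Subtype.ext ?_
  rcases h with h | h <;> simp only [Subgroup.coe_mul, h]
  · rw [mul_one, one_mul]
  · exact c.ucen y

theorem exists_sylowK : ∃ S₁ : Sylow 2 P.K, Ctl S₁ ∧ ∀ l : P.L₁,
    QuotientGroup.mk' (center ↥P.L₁) l ∈ (S₁ : Subgroup P.K) ↔ (l : G) ∈ (c.S : Subgroup G) := by
  haveI : Fact (Nat.Prime 2) := ⟨Nat.prime_two⟩
  obtain ⟨P₁, hP₁⟩ := P.sylow₁
  set π := QuotientGroup.mk' (center ↥P.L₁)
  have hπ := QuotientGroup.mk'_surjective (center ↥P.L₁)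
  have hmem : ∀ l : P.L₁, π l ∈ ((P₁.mapSurjective hπ : Sylow 2 P.K) : Subgroup P.K) ↔
      (l : G) ∈ (c.S : Subgroup G) := by
    refine fun l => ⟨fun hl => ?_, fun hl => ⟨l, by rw [hP₁]; exact hl, rfl⟩⟩
    obtain ⟨p, hp, e⟩ := hl
    rw [hP₁] at hp
    have hmc := (P.mem_center₁ _).1 (QuotientGroup.eq.1 e)
    have hS : ((p⁻¹ * l : P.L₁) : G) ∈ (c.S : Subgroup G) := by
      rcases hmc with h | h <;> rw [h] <;> [exact one_mem _; exact c.u_mem _]
    have := mul_mem (show (p : G) ∈ (c.S : Subgroup G) from hp) hS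
    simpa using this
  refine ⟨P₁.mapSurjective hπ, fun t ht ht2 g hg => ?_, hmem⟩
  obtain ⟨x, rfl⟩ := hπ t
  obtain ⟨g, rfl⟩ := hπ g
  rw [← map_inv, ← map_mul, ← map_mul] at hg
  have hxx : ((x * x : P.L₁) : G) = 1 ∨ ((x * x : P.L₁) : G) = c.u := (P.mem_center₁ _).1
    ((QuotientGroup.eq_one_iff _).1 (by
      show π (x * x) = 1
      rw [map_mul]; exact mul_self_of_orderOf_two ht2))
  have hxu : (x : G) * x = c.u := hxx.resolve_left fun e => ne_one_of_orderOf_two ht2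
    ((QuotientGroup.eq_one_iff x).2 ((P.mem_center₁ x).2 (P.oneInv_inf.uniq x ⟨(hmem x).1 ht, x.2⟩ e)))
  have hn := P.ctl₁ ⟨(hmem x).1 ht, x.2⟩ hxu g.2 ((hmem _).1 hg)
  refine mem_normalizer_iff.2 fun y => ?_
  obtain ⟨y, rfl⟩ := hπ y
  rw [← map_inv, ← map_mul, ← map_mul]
  exact (hmem y).trans ((mem_normalizer_iff.1 hn (y : G)).trans (hmem (g * y * g⁻¹)).symm)

theorem pElementClosure_K : Cfsg.pElementClosure 2 (⊤ : Subgroup P.K) = ⊤ := by
  haveI : Fact (Nat.Prime 2) := ⟨Nat.prime_two⟩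
  obtain ⟨S₁, -, -⟩ := P.exists_sylowK
  set C := Cfsg.pElementClosure 2 (⊤ : Subgroup P.K) with hC
  haveI hCn : C.Normal := by
    refine ⟨fun x hx g => ?_⟩
    rw [hC, Cfsg.pElementClosure] at hx ⊢
    induction hx using Subgroup.closure_induction with
    | mem y hy =>
      obtain ⟨-, k, hk⟩ := hy
      exact subset_closure ⟨mem_top _, k, by rw [orderOf_conj_eq, hk]⟩
    | one => simp
    | mul y z _ _ hy hz => rw [show g * (y * z) * g⁻¹ = g * y * g⁻¹ * (g * z * g⁻¹) by group]; exact mul_mem hy hz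
    | inv y _ hy => rw [show g * y⁻¹ * g⁻¹ = (g * y * g⁻¹)⁻¹ by group]; exact inv_mem hy
  have hS : (S₁ : Subgroup P.K) ≤ C := fun x hx => by
    obtain ⟨k, hk⟩ := S₁.isPGroup' ⟨x, hx⟩
    obtain ⟨j, -, hj⟩ := (Nat.dvd_prime_pow Nat.prime_two).1
      (orderOf_dvd_of_pow_eq_one (congrArg Subtype.val hk : x ^ 2 ^ k = 1))
    rw [hC, Cfsg.pElementClosure]
    exact subset_closure ⟨mem_top _, j, hj⟩
  haveI : Group.IsSolvable (P.K ⧸ C) := S0205.result (Nat.not_even_iff_odd.1 fun he =>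
    S₁.not_dvd_index ((even_iff_two_dvd.1 he).trans (index_dvd_of_le hS)))
  refine eq_top_iff.2 fun x _ => ?_
  obtain ⟨l, rfl⟩ := QuotientGroup.mk'_surjective _ x
  exact (QuotientGroup.eq_one_iff _).1
    (eq_one_of_perfect P.perf₁ ((QuotientGroup.mk' C).comp (QuotientGroup.mk' (center ↥P.L₁))) l)

theorem eq_bot_of_solvable_K (N : Subgroup P.K) [N.Normal] (hs : Group.IsSolvable N) : N = ⊥ := by
  have hcs : Group.IsSolvable (center ↥P.L₁) :=
    Group.isSolvable_of_comm fun a b => Subtype.ext (mem_center_iff.1 b.2 a)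
  have h1 := P.solvable_normal_le _ (MinNonCA.isSolvable_comap (center ↥P.L₁) hcs (K := N) hs)
  refine eq_bot_iff.2 fun x hx => ?_
  obtain ⟨l, rfl⟩ := QuotientGroup.mk'_surjective _ x
  exact mem_bot.2 ((QuotientGroup.eq_one_iff l).2 ((P.mem_center₁ l).2 (P.Q_eq (h1 ⟨l, hx, rfl⟩))))

theorem card_K : Nat.card P.K = 60 ∧ Nat.card ↥((c.S : Subgroup G) ⊓ P.L₁) = 8 := by
  haveI : Fact (Nat.Prime 2) := ⟨Nat.prime_two⟩
  obtain ⟨S₁, hctl, hmem⟩ := P.exists_sylowK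
  obtain ⟨a, r, ha, hr, haa, hrr, hra⟩ := P.exists_roots
  have heven : 2 ∣ Nat.card P.K := by
    have ho : orderOf (QuotientGroup.mk' (center ↥P.L₁) ⟨a, ha.2⟩) = 2 := by
      refine orderOf_two_iff.2 ⟨?_, fun e => ?_⟩
      · rw [← map_mul]
        exact (QuotientGroup.eq_one_iff _).2 ((P.mem_center₁ _).2 (Or.inr haa))
      · rcases (P.mem_center₁ _).1 ((QuotientGroup.eq_one_iff _).1 e) with h | h
        · exact c.u_ne (by rw [← haa, show a = 1 from h, one_mul])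
        · exact c.u_ne (by rw [← haa, show a = c.u from h, c.uu])
    exact ho ▸ orderOf_dvd_natCard _
  haveI : (Cfsg.pPrimeCore 2 P.K).Normal := Grp.pPrimeCore_isNormal
  have hB : CentInt.IsBenderGrp P.K := isBenderGrp_of_ctl hctl heven
    (P.eq_bot_of_solvable_K _ (by
      haveI := (Grp.pCore_isPGroup (p := 2) (G := P.K)).isNilpotent
      infer_instance))
    (P.eq_bot_of_solvable_K _ (S0205.result (Nat.coprime_two_right.1 Grp.pPrimeCore_coprime)))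
    P.pElementClosure_K
  obtain ⟨a₀, ha4, hidx, hinv⟩ := P.oneInv_inf.oneInv.shape_of_noncomm P.noncomm
  obtain ⟨x, hx⟩ : ∃ x, x ∉ zpowers a₀ := by
    by_contra hall
    push Not at hall
    rw [show zpowers a₀ = ⊤ from eq_top_iff.2 fun x _ => hall x, index_top] at hidx
    omega
  set π := QuotientGroup.mk' (center ↥P.L₁) with hπ
  -- the images of outer elements are central involutions
  have hcen : π ⟨a₀, a₀.2.2⟩ * π ⟨x, x.2.2⟩ = π ⟨x, x.2.2⟩ * π ⟨a₀, a₀.2.2⟩ := by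
    refine (CentRank.torus_at (BenderCover.torusSylow_bender hB) S₁).1 _ ((hmem _).2 x.2.1) ?_ _
      ((hmem _).2 a₀.2.1)
    rw [← map_mul]
    exact (QuotientGroup.eq_one_iff _).2 ((P.mem_center₁ _).2 (Or.inr (congrArg Subtype.val (hinv x hx).2)))
  have h4 : orderOf a₀ = 4 := by
    rw [← map_mul, ← map_mul] at hcen
    have hm := (P.mem_center₁ _).1 (QuotientGroup.eq.1 hcen)
    have h1 : ∀ y : ↥((c.S : Subgroup G) ⊓ P.L₁), y = x * a₀ * x⁻¹ * a₀⁻¹ → y = 1 ∨ (y : G) = c.u := by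
      intro y hy
      have e : (y : G) = (x : G) * a₀ * (x : G)⁻¹ * (a₀ : G)⁻¹ := by rw [hy]; rfl
      have e' : ((((⟨a₀, a₀.2.2⟩ * ⟨x, x.2.2⟩ : P.L₁))⁻¹ * (⟨x, x.2.2⟩ * ⟨a₀, a₀.2.2⟩) : P.L₁) : G) =
          ((x : G) * a₀)⁻¹ * ((y : G) * ((x : G) * a₀)) → (y = 1 ∨ (y : G) = c.u) := fun e' => by
        rw [e'] at hm
        rcases hm with h | h
        · left
          apply Subtype.ext
          show (y : G) = 1
          calc (y : G) = ((x : G) * a₀) * (((x : G) * a₀)⁻¹ * ((y : G) * ((x : G) * a₀))) * ((x : G) * a₀)⁻¹ := by group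
            _ = 1 := by rw [h]; group
        · right
          calc (y : G) = ((x : G) * a₀) * (((x : G) * a₀)⁻¹ * ((y : G) * ((x : G) * a₀))) * ((x : G) * a₀)⁻¹ := by group
            _ = c.u := by rw [h, c.conj_u]
      refine e' ?_
      rw [e]
      simp only [Subgroup.coe_mul, InvMemClass.coe_inv, Subgroup.coe_mk]
      group
    have h2 := h1 _ rfl
    rw [(hinv x hx).1] at h2
    have h3 : a₀ * a₀ = 1 ∨ ((a₀ * a₀ : ↥((c.S : Subgroup G) ⊓ P.L₁)) : G) = c.u := by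
      rcases h2 with h | h
      · exact Or.inl (inv_eq_one.1 (by rw [mul_inv_rev]; exact h))
      · refine Or.inr ?_
        rw [← inv_inv (a₀ * a₀), mul_inv_rev, InvMemClass.coe_inv, h, inv_of_orderOf_two c.hQ.two]
    have h5 : orderOf a₀ ∣ 4 := orderOf_dvd_of_pow_eq_one (by
      rw [show 4 = 2 * 2 from rfl, pow_mul, pow_two, pow_two]
      rcases h3 with h | h
      · rw [h, one_mul]
      · exact Subtype.ext (by rw [Subgroup.coe_mul, h, c.uu]; rfl))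
    exact Nat.dvd_antisymm h5 ha4
  have h8 : Nat.card ↥((c.S : Subgroup G) ⊓ P.L₁) = 8 := by
    rw [← (zpowers a₀).card_mul_index, Nat.card_zpowers, h4, hidx]
  have hS4 : Nat.card (S₁ : Subgroup P.K) ≤ 4 := by
    let f : ↥((c.S : Subgroup G) ⊓ P.L₁) →* ↥(S₁ : Subgroup P.K) :=
      MonoidHom.mk' (fun y => ⟨π ⟨y, y.2.2⟩, (hmem _).2 y.2.1⟩) fun y z => Subtype.ext (by
        show π ⟨_, _⟩ = π ⟨_, _⟩ * π ⟨_, _⟩
        rw [← map_mul]; rfl)
    have hf : Function.Surjective f := fun ⟨k, hk⟩ => by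
      obtain ⟨l, rfl⟩ := QuotientGroup.mk'_surjective _ k
      exact ⟨⟨l, (hmem l).1 hk, l.2⟩, Subtype.ext rfl⟩
    have h1 := Subgroup.card_mul_index f.ker
    rw [h8, Subgroup.index_ker, MonoidHom.range_eq_top.2 hf, card_top] at h1
    have h2 : (⟨c.u, c.u_mem c.S, P.u_mem⟩ : ↥((c.S : Subgroup G) ⊓ P.L₁)) ∈ f.ker :=
      MonoidHom.mem_ker.2 (Subtype.ext ((QuotientGroup.eq_one_iff _).2 ((P.mem_center₁ _).2 (Or.inr rfl))))
    haveI : Nontrivial f.ker := ⟨⟨⟨_, h2⟩, 1, fun e => c.u_ne (congrArg (fun z : f.ker => ((z : ↥((c.S : Subgroup G) ⊓ P.L₁)) : G)) e :)⟩⟩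
    have h3 := Finite.one_lt_card (α := f.ker)
    nlinarith
  refine ⟨?_, h8⟩
  rcases CentRank.small_bender hB S₁ ((Set.ncard_le_ncard (fun x hx => hx.1) (Set.toFinite _)).trans
    (by rw [← Nat.card_coe_set_eq]; exact hS4)) with ⟨h, -⟩ | U
  · exact h
  · have := U.card
    omega

theorem card₁ : Nat.card P.L₁ = 120 := by
  have h2 : Nat.card (center ↥P.L₁) = 2 := by
    rw [Nat.card_eq_two_iff]
    refine ⟨1, ⟨⟨c.u, P.u_mem⟩, (P.mem_center₁ _).2 (Or.inr rfl)⟩,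
      fun e => c.u_ne (congrArg (fun z : center ↥P.L₁ => ((z : P.L₁) : G)) e :).symm, Set.eq_univ_of_forall fun z => ?_⟩
    rcases (P.mem_center₁ z).1 z.2 with h | h
    · exact Or.inl (Subtype.ext (Subtype.ext h))
    · exact Or.inr (Subtype.ext (Subtype.ext h))
  rw [(center ↥P.L₁).card_eq_card_quotient_mul_card_subgroup, P.card_K.1, h2]

theorem exists_iso : ∃ e : Matrix.SpecialLinearGroup (Fin 2) (ZMod 5) ≃* P.L₁, (e (-1) : G) = c.u := by
  haveI : Fact (Nat.Prime 2) := ⟨Nat.prime_two⟩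
  obtain ⟨P₁, hP₁⟩ := P.sylow₁
  have e1 : ↥(P₁ : Subgroup P.L₁) ≃* ↥((c.S : Subgroup G) ⊓ P.L₁) :=
    { toFun := fun x => ⟨(x : P.L₁), (SetLike.ext_iff.1 hP₁ _).1 x.2, (x : P.L₁).2⟩
      invFun := fun x => ⟨⟨x, x.2.2⟩, (SetLike.ext_iff.1 hP₁ _).2 x.2.1⟩
      left_inv := fun _ => rfl
      right_inv := fun _ => rfl
      map_mul' := fun _ _ => rfl }
  obtain ⟨n, ⟨q⟩⟩ := quaternion_of_oneInv P.oneInv_inf.oneInv P.noncomm
  have hn : n = 0 := by
    have h := (Nat.card_congr q.toEquiv).symm.trans P.card_K.2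
    rw [TwoModel.card_quat] at h
    have := Nat.pow_right_injective le_rfl (h.trans (by norm_num : 8 = 2 ^ 3))
    omega
  subst hn
  obtain ⟨e⟩ := S3378.result.1 ↥P.L₁ P.card₁ P.ns₁ fun P₂ => ⟨((Sylow.equiv P₂ P₁).trans e1).trans q⟩
  have hm : orderOf (-1 : Matrix.SpecialLinearGroup (Fin 2) (ZMod 5)) = 2 :=
    orderOf_two_iff.2 ⟨by decide, by decide⟩
  refine ⟨e.symm, P.invol_eq (e.symm (-1)).2 ?_⟩
  rw [Subgroup.orderOf_coe, MulEquiv.orderOf_eq, hm]

end Pair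

end Cfsg.Agent.Invol.RankOneInter
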