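import Cfsg.Agent.Lib.Invol.RankOneInter.Structure
import Cfsg.Agent.Lib.Invol.Core2.TwistFinishData

/-!
# `S ∩ L` cannot be quaternion with an involution of `S` outside `L`

Modulo `⟨u⟩` an involution `y` of `S` and an involution of `L` outside `S` commute with a common involution. This
forces a quaternion subgroup of order eight of `S ∩ L` invariant under `y`, by transfer it is all of `S ∩ L`, and
then an involution outside `L` is isolated modulo `⟨u⟩`.
-/

set_option autoImplicit false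
set_option linter.style.haveILetI false
set_option linter.unusedSectionVars false

open Subgroup
open scoped commutatorElement

namespace Cfsg.Agent.Invol.RankOneInter

universe u

variable {G : Type u} [Group G] [Finite G]

namespace Cfg

variable (c : Cfg G)

theorem mem_zu {x : G} : x ∈ zpowers c.u ↔ x = 1 ∨ x = c.u := by
  refine ⟨fun h => ?_, fun h => ?_⟩
  · obtain ⟨i, rfl⟩ := mem_zpowers_iff.1 h
    rcases Int.even_or_odd i with ⟨k, rfl⟩ | ⟨k, rfl⟩
    · exact Or.inl (by rw [← two_mul, zpow_mul, zpow_two, c.uu, one_zpow])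
    · exact Or.inr (by rw [zpow_add, zpow_mul, zpow_two, c.uu, one_zpow, one_mul, zpow_one])
  · rcases h with rfl | rfl
    · exact one_mem _
    · exact mem_zpowers _

theorem zu_normal : (zpowers c.u).Normal := ⟨fun x hx g => by
  rcases c.mem_zu.1 hx with rfl | rfl
  · rw [mul_one, mul_inv_cancel]; exact one_mem _
  · rwa [c.conj_u]⟩

theorem u_commute_left {x : G} : x * c.u = c.u * x := (c.ucen x).eq

theorem uu_cancel {x : G} : x * c.u * c.u = x := by rw [mul_assoc, c.uu, mul_one]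

/-- The centraliser of `v` modulo `⟨u⟩`. -/
def cm (v : G) : Subgroup G where
  carrier := {x | x * v * x⁻¹ = v ∨ x * v * x⁻¹ = v * c.u}
  one_mem' := Or.inl (by group)
  mul_mem' := fun {x y} hx hy => by
    simp only [Set.mem_ofPred_eq] at hx hy ⊢
    rw [show x * y * v * (x * y)⁻¹ = x * (y * v * y⁻¹) * x⁻¹ by group]
    rcases hy with e | e <;> rw [e]
    · exact hx
    · rw [← mul_assoc, mul_assoc (x * v) c.u, ← (c.ucen x⁻¹).eq, ← mul_assoc]
      rcases hx with e' | e' <;> rw [e']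
      · exact Or.inr rfl
      · exact Or.inl c.uu_cancel
  inv_mem' := fun {x} hx => by
    simp only [Set.mem_ofPred_eq] at hx ⊢
    rw [inv_inv]
    rcases hx with e | e
    · refine Or.inl ?_
      rw [mul_assoc, ← mul_inv_eq_iff_eq_mul.1 e, inv_mul_cancel_left]
    · refine Or.inr ?_
      rw [mul_assoc, show v * x = x * (v * c.u) by
        rw [← mul_assoc, mul_inv_eq_iff_eq_mul.1 e, mul_assoc (v * c.u), (c.ucen x).eq, ← mul_assoc, c.uu_cancel],
        inv_mul_cancel_left]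

theorem mem_cm {x v : G} : x ∈ c.cm v ↔ x * v * x⁻¹ = v ∨ x * v * x⁻¹ = v * c.u := Iff.rfl

theorem mem_cm_iff {x v : G} : x ∈ c.cm v ↔ ⁅x, v⁆ ∈ zpowers c.u := by
  rw [mem_cm, mem_zu, commutatorElement_def, mul_inv_eq_one, mul_inv_eq_iff_eq_mul (b := v) (c := c.u),
    c.u_commute_left (x := v)]

theorem cm_comm {x v : G} : x ∈ c.cm v ↔ v ∈ c.cm x := by
  rw [mem_cm_iff, mem_cm_iff, ← inv_mem_iff, commutatorElement_inv]

theorem cm_u_right {x v : G} (h : x ∈ c.cm v) : x ∈ c.cm (v * c.u) := by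
  rcases h with e | e
  · exact Or.inl (by rw [← mul_assoc, mul_assoc (x * v) c.u, ← (c.ucen x⁻¹).eq, ← mul_assoc, e])
  · exact Or.inr (by rw [← mul_assoc, mul_assoc (x * v) c.u, ← (c.ucen x⁻¹).eq, ← mul_assoc, e])

theorem mem_cm_mul {x a b : G} (ha : x ∈ c.cm a) (hb : x ∈ c.cm b) : x ∈ c.cm (a * b) :=
  c.cm_comm.1 (mul_mem (c.cm_comm.1 ha) (c.cm_comm.1 hb))

theorem cm_normalizer {x v : G} (hx : x ∈ c.cm v) (hv : orderOf v = 2) (hvu : v ≠ c.u)
    (hvS : v ∈ (c.S : Subgroup G)) : x ∈ normalizer ((c.S : Subgroup G) : Set G) := by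
  refine c.ctl hv hvu hvS ?_
  rcases hx with e | e <;> rw [e]
  · exact hvS
  · exact mul_mem hvS (c.u_mem c.S)

theorem mem_S_of_normalizer {x : G} {k : ℕ} (hn : x ∈ normalizer ((c.S : Subgroup G) : Set G))
    (hx : x ^ 2 ^ k = 1) : x ∈ (c.S : Subgroup G) := by
  obtain ⟨n, -, hn'⟩ := (Nat.dvd_prime_pow Nat.prime_two).1 (orderOf_dvd_of_pow_eq_one hx)
  exact CentInt.two_elem_mem_sylow hn' hn

end Cfg

namespace Simp

variable {c : Cfg G} (D : Simp c)
include D

theorem exists_conj_mem {x : G} (hx : x ∈ D.L) {k : ℕ} (h : x ^ 2 ^ k = 1) :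
    ∃ g ∈ D.L, g * x * g⁻¹ ∈ (c.S : Subgroup G) := by
  haveI : Fact (Nat.Prime 2) := ⟨Nat.prime_two⟩
  obtain ⟨P, hP⟩ := D.sylow
  obtain ⟨n, -, hn⟩ := (Nat.dvd_prime_pow Nat.prime_two).1 (orderOf_dvd_of_pow_eq_one h)
  have hp : IsPGroup 2 (zpowers (⟨x, hx⟩ : D.L)) :=
    IsPGroup.of_card (n := n) (by rw [Nat.card_zpowers, Subgroup.orderOf_mk, hn])
  obtain ⟨P', hP'⟩ := hp.exists_le_sylow
  obtain ⟨g, hg⟩ := MulAction.exists_smul_eq D.L P' P
  have h1 : g * ⟨x, hx⟩ * g⁻¹ ∈ (P : Subgroup D.L) := by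
    rw [← hg, CentRank.mem_smul_sylow, show g⁻¹ * (g * ⟨x, hx⟩ * g⁻¹) * g = ⟨x, hx⟩ by group]
    exact hP' (mem_zpowers _)
  exact ⟨g, g.2, (SetLike.ext_iff.1 hP _).1 h1⟩

section Quat

variable (hq : D.Quat)
include hq

theorem sq_one {x : G} (hx : x ∈ D.L) (hxx : x * x = 1) : x = 1 ∨ x = c.u := by
  obtain ⟨g, hg, hgS⟩ := D.exists_conj_mem hx (k := 1) (by rw [pow_one, pow_two, hxx])
  rcases hq.2.2.1.uniq _ ⟨hgS, D.Ln.conj_mem x hx g⟩ (by
    rw [show g * x * g⁻¹ * (g * x * g⁻¹) = g * (x * x) * g⁻¹ by group, hxx, mul_one, mul_inv_cancel]) with e | e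
  · exact Or.inl (conj_eq_one_iff.1 e)
  · refine Or.inr ?_
    rw [show x = g⁻¹ * (g * x * g⁻¹) * g by group, e, mul_assoc, ← (c.ucen g).eq, inv_mul_cancel_left]

theorem mem_u_of_R {x : G} (hx : x ∈ c.R) : x ∈ zpowers c.u := c.mem_zu.2 (D.small_R hq.1 hx)

theorem u_le_R : zpowers c.u ≤ c.R := zpowers_le.2 (Simp.Q_le_R c c.hQ.mem)

/-- What centralises `L` modulo `⟨u⟩` lies in `⟨u⟩`. -/
theorem mem_u_of_cm {x : G} (h : ∀ l ∈ D.L, l ∈ c.cm x) : x ∈ zpowers c.u :=
  D.mem_u_of_R hq (D.mem_R fun l hl => commute_of_central D.perf (fun m hm => by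
    have h1 : ⁅x, m⁆ ∈ zpowers c.u := c.mem_cm_iff.1 (c.cm_comm.1 (h m hm))
    have hL : ⁅x, m⁆ ∈ D.L := by
      rw [commutatorElement_def]
      exact mul_mem (D.Ln.conj_mem m hm x) (inv_mem hm)
    exact ⟨hL, fun n _ => by
      rcases c.mem_zu.1 h1 with e | e <;> rw [e]
      · exact Commute.one_left n
      · exact (c.ucen n).symm⟩) hl)

/-- The elements of `S ∩ L` that are involutions modulo `⟨u⟩` and commute there with `y`. -/
def Cand (y : G) (a : G) : Prop :=
  a ∈ (c.S : Subgroup G) ⊓ D.L ∧ a * a = c.u ∧ y ∈ c.cm a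

variable {y : G} (hyS : y ∈ (c.S : Subgroup G)) (hy2 : orderOf y = 2) (hyu : y ≠ c.u)
include hyS hy2 hyu

theorem y_not_mem : y ∉ D.L := fun h =>
  ((D.sq_one hq h (mul_self_of_orderOf_two hy2)).resolve_left (ne_one_of_orderOf_two hy2) ▸ hyu) rfl

/-- The central pair lemma, read off in `S`. -/
theorem exists_cand {l : G} (hl : l ∈ D.L) (hll : l * l = c.u) (hlS : l ∉ (c.S : Subgroup G)) :
    ∃ a, D.Cand y a ∧ (y * a * y⁻¹ = a * c.u ∧ l ∈ c.cm a ∨ y * a * y⁻¹ = a ∧ l ∈ c.cm (a * y)) := by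
  haveI := c.zu_normal
  haveI := D.Ln
  have hyL := D.y_not_mem hq hyS hy2 hyu
  set U := zpowers c.u with hU
  set π := QuotientGroup.mk' U with hπ
  set H := D.L ⊔ zpowers y with hH
  have hyy := mul_self_of_orderOf_two hy2
  have hyi : y⁻¹ = y := inv_eq_of_mul_eq_one_right hyy
  have hHmem : ∀ h ∈ H, h ∈ D.L ∨ h * y ∈ D.L := fun h hh => by
    obtain ⟨m, hm, s, hs, rfl⟩ := mem_sup_of_normal_left.1 hh
    obtain ⟨i, rfl⟩ := mem_zpowers_iff.1 hs
    rcases Int.even_or_odd i with ⟨k, rfl⟩ | ⟨k, rfl⟩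
    · exact Or.inl (by rwa [← two_mul, zpow_mul, zpow_two, hyy, one_zpow, mul_one])
    · exact Or.inr (by rwa [zpow_add, zpow_mul, zpow_two, hyy, one_zpow, one_mul, zpow_one, mul_assoc, hyy, mul_one])
  have hLU : ∀ {x v : G}, v ∈ D.L → π x = π v → x ∈ D.L := fun {x v} hv e => by
    have h1 := zpowers_le.2 hq.2.1 (QuotientGroup.eq.1 e.symm)
    simpa using mul_mem hv h1
  let yb : H.map π := ⟨π y, mem_map_of_mem π (mem_sup_right (mem_zpowers y))⟩
  let lb : H.map π := ⟨π l, mem_map_of_mem π (mem_sup_left hl)⟩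
  have hinv : ∀ {v : G}, v ∉ U → v * v ∈ U → orderOf (π v) = 2 := fun {v} h1 h2 =>
    orderOf_two_iff.2 ⟨by rw [← map_mul]; exact (QuotientGroup.eq_one_iff _).2 h2,
      fun e => h1 ((QuotientGroup.eq_one_iff _).1 e)⟩
  have hyb : orderOf yb = 2 := by
    rw [Subgroup.orderOf_mk]
    exact hinv (fun h => hyL (zpowers_le.2 hq.2.1 h)) (by rw [hyy]; exact one_mem _)
  have hlb : orderOf lb = 2 := by
    rw [Subgroup.orderOf_mk]
    refine hinv (fun h => ?_) (by rw [hll]; exact mem_zpowers _)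
    exact hlS (zpowers_le.2 (c.u_mem c.S) h)
  have hne : ¬ IsConj yb lb := fun h => by
    obtain ⟨⟨_, k, hk, rfl⟩, e⟩ := isConj_iff.1 h
    have e' : π (k * y * k⁻¹) = π l := by
      simp only [map_mul, map_inv]
      exact congrArg Subtype.val e
    have := D.Ln.conj_mem _ (hLU hl e') k⁻¹
    rw [inv_inv, show k⁻¹ * (k * y * k⁻¹) * k = y by group] at this
    exact hyL this
  obtain ⟨⟨_, g, hg, rfl⟩, hz2, hzy, hzl, hcase⟩ := Core2.exists_central_pair hyb hlb hne
  rw [← Subgroup.orderOf_coe] at hz2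
  have hgU : g ∉ U := fun h => ne_one_of_orderOf_two hz2 ((QuotientGroup.eq_one_iff _).2 h)
  have hgg : g * g ∈ U := (QuotientGroup.eq_one_iff _).1 (by
    show π (g * g) = 1
    rw [map_mul]; exact mul_self_of_orderOf_two hz2)
  have hcm : ∀ v : G, Commute (π g) (π v) → g ∈ c.cm v := fun v h => c.mem_cm_iff.2
    ((QuotientGroup.eq_one_iff _).1 (by
      show π ⁅g, v⁆ = 1
      rw [map_commutatorElement, commutatorElement_eq_one_iff_mul_comm]
      exact h.eq))
  have hgy : g ∈ c.cm y := hcm y (congrArg Subtype.val hzy.eq)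
  have hgl : g ∈ c.cm l := hcm l (congrArg Subtype.val hzl.eq)
  have hg4 : g ^ 2 ^ 2 = 1 := by
    rw [show 2 ^ 2 = 2 * 2 from rfl, pow_mul, pow_two, pow_two]
    rcases c.mem_zu.1 hgg with e | e <;> rw [e]
    · exact one_mul 1
    · exact c.uu
  have hgS : g ∈ (c.S : Subgroup G) := c.mem_S_of_normalizer (c.cm_normalizer hgy hy2 hyu hyS) hg4
  rcases hcase with h | h
  · obtain ⟨⟨_, k, hk, rfl⟩, e⟩ := isConj_iff.1 h
    have e' : π (g * y) = π (k * y * k⁻¹) := by
      simp only [map_mul, map_inv]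
      exact (congrArg Subtype.val e).symm
    have hgL : g ∈ D.L := by
      rcases hHmem g hg with h1 | h1
      · exact h1
      · have := hLU h1 e'.symm
        have := D.Ln.conj_mem _ this k⁻¹
        rw [inv_inv, show k⁻¹ * (k * y * k⁻¹) * k = y by group] at this
        exact absurd this hyL
    have hgg' : g * g = c.u := (c.mem_zu.1 hgg).resolve_left fun e0 =>
      hgU (c.mem_zu.2 (D.sq_one hq hgL e0))
    refine ⟨g, ⟨⟨hgS, hgL⟩, hgg', c.cm_comm.1 hgy⟩, Or.inl ⟨?_, c.cm_comm.1 hgl⟩⟩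
    have hsq : g * y * (g * y) = 1 := by
      have hu : (k * y * k⁻¹)⁻¹ * (g * y) ∈ U := QuotientGroup.eq.1 e'.symm
      have hk2 : k * y * k⁻¹ * (k * y * k⁻¹) = 1 := by
        rw [show k * y * k⁻¹ * (k * y * k⁻¹) = k * (y * y) * k⁻¹ by group, hyy, mul_one, mul_inv_cancel]
      rw [show g * y = k * y * k⁻¹ * ((k * y * k⁻¹)⁻¹ * (g * y)) by group]
      rcases c.mem_zu.1 hu with e0 | e0 <;> rw [e0]
      · rw [mul_one, hk2]
      · rw [(c.ucen _).symm.mul_mul_mul_comm, hk2, c.uu, one_mul]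
    rw [hyi, eq_mul_inv_of_mul_eq (show y * g * y * g = 1 by
      rw [show y * g * y * g = g⁻¹ * (g * y * (g * y)) * g by group, hsq, mul_one, inv_mul_cancel]) , one_mul]
    rw [inv_eq_of_mul_eq_one_right (b := g * c.u) (by rw [← mul_assoc, hgg', c.uu])]
  · obtain ⟨⟨_, k, hk, rfl⟩, e⟩ := isConj_iff.1 h
    have e' : π (g * y) = π (k * l * k⁻¹) := by
      simp only [map_mul, map_inv]
      exact (congrArg Subtype.val e).symm
    set a := g * y with ha
    have haL : a ∈ D.L := hLU (D.Ln.conj_mem l hl k) e'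
    have haU : a * a ∈ U := (QuotientGroup.eq_one_iff _).1 (by
      show π (a * a) = 1
      rw [map_mul, e', ← map_mul, show k * l * k⁻¹ * (k * l * k⁻¹) = k * (l * l) * k⁻¹ by group, hll, c.conj_u]
      exact (QuotientGroup.eq_one_iff _).2 (mem_zpowers _))
    have haS : a ∈ (c.S : Subgroup G) := mul_mem hgS hyS
    have ha2 : a * a = c.u := (c.mem_zu.1 haU).resolve_left fun e0 => by
      have h1 : π a = 1 := (QuotientGroup.eq_one_iff _).2 (c.mem_zu.2 (D.sq_one hq haL e0))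
      rw [e', map_mul, map_mul, map_inv, conj_eq_one_iff] at h1
      exact hlS (zpowers_le.2 (c.u_mem c.S) ((QuotientGroup.eq_one_iff _).1 h1))
    have hay : y ∈ c.cm a := c.mem_cm_mul (c.cm_comm.1 hgy) (Or.inl (by group))
    have hga : a * y = g := by rw [ha, mul_assoc, hyy, mul_one]
    refine ⟨a, ⟨⟨haS, haL⟩, ha2, hay⟩, ?_⟩
    rcases hay with h1 | h1
    · exact Or.inr ⟨h1, by rw [hga]; exact c.cm_comm.1 hgl⟩
    · exfalso
      rw [hyi] at h1
      have hg2 : g * g = 1 := by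
        rw [← hga, show a * y * (a * y) = a * (y * a * y) by group, h1, ← mul_assoc, ha2, c.uu]
      have hgu : g ≠ c.u := fun e0 => hgU (c.mem_zu.2 (Or.inr e0))
      refine hlS (c.mem_S_of_normalizer (k := 2) (c.cm_normalizer (c.cm_comm.1 hgl)
        (orderOf_two_iff.2 ⟨hg2, fun e0 => hgU (by rw [e0]; exact one_mem _)⟩) hgu hgS) ?_)
      rw [show 2 ^ 2 = 2 * 2 from rfl, pow_mul, pow_two, pow_two, hll, c.uu]

/-- Two candidates independent modulo `⟨u⟩`. -/
theorem exists_two_cands : ∃ a b, D.Cand y a ∧ D.Cand y b ∧ b * a * b⁻¹ = a * c.u := by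
  by_contra hno
  push Not at hno
  have hanti : ∀ a b, D.Cand y a → D.Cand y b → b = a ∨ b = a * c.u := by
    intro a b ha hb
    by_contra hne
    rw [not_or] at hne
    obtain ⟨⟨haS, haL⟩, ha2, hay⟩ := ha
    obtain ⟨⟨hbS, hbL⟩, hb2, hby⟩ := hb
    set x := a * b with hx
    have hxT : x ∈ (c.S : Subgroup G) ⊓ D.L := ⟨mul_mem haS hbS, mul_mem haL hbL⟩
    have hxU : x ∉ zpowers c.u := fun h => by
      rcases c.mem_zu.1 h with e | e
      · refine hne.2 ?_
        have h1 : b = a⁻¹ := eq_inv_of_mul_eq_one_right e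
        rw [h1, inv_eq_of_mul_eq_one_right (b := a * c.u) (by rw [← mul_assoc, ha2, c.uu])]
      · exact hne.1 (mul_left_cancel (e.trans ha2.symm))
    have hinv : a * x * a⁻¹ = x⁻¹ := by
      rw [hx, mul_inv_rev, inv_eq_of_mul_eq_one_right (a := b) (b := b * c.u) (by rw [← mul_assoc, hb2, c.uu]),
        inv_eq_of_mul_eq_one_right (a := a) (b := a * c.u) (by rw [← mul_assoc, ha2, c.uu])]
      calc a * (a * b) * (a * c.u) = (a * a) * (b * a) * c.u := by simp only [mul_assoc]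
        _ = b * c.u * (a * c.u) := by rw [ha2, (c.ucen (b * a)).symm.eq]; simp only [mul_assoc, (c.ucen a).eq]
    obtain ⟨k, hk⟩ := (c.S.isPGroup') ⟨x, hxT.1⟩
    have hk' : x ^ 2 ^ k = 1 := congrArg Subtype.val hk
    classical
    have hex : ∃ i, x ^ 2 ^ i ∈ zpowers c.u := ⟨k, by rw [hk']; exact one_mem _⟩
    obtain ⟨i, hi⟩ : ∃ i, Nat.find hex = i + 1 := ⟨Nat.find hex - 1, by
      have : Nat.find hex ≠ 0 := fun e => hxU (by simpa [e] using Nat.find_spec hex)
      omega⟩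
    have hspec := Nat.find_spec hex
    rw [hi, pow_succ, pow_mul, pow_two] at hspec
    set e := x ^ 2 ^ i with he
    have heU : e ∉ zpowers c.u := Nat.find_min hex (by omega)
    have he2 : e * e = c.u := (c.mem_zu.1 hspec).resolve_left fun e0 =>
      heU (c.mem_zu.2 (D.sq_one hq (pow_mem hxT.2 _) e0))
    have hey : y ∈ c.cm e := by
      refine c.cm_comm.1 (pow_mem ?_ _)
      exact mul_mem (c.cm_comm.1 hay) (c.cm_comm.1 hby)
    refine hno a e ⟨⟨haS, haL⟩, ha2, hay⟩ ⟨pow_mem hxT _, he2, hey⟩ ?_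
    have h1 : a * e * a⁻¹ = e⁻¹ := by rw [he, ← conj_pow, hinv, inv_pow]
    rw [inv_eq_of_mul_eq_one_right (a := e) (b := e * c.u) (by rw [← mul_assoc, he2, c.uu])] at h1
    have h2 : a * e = e * a * c.u := by
      rw [mul_inv_eq_iff_eq_mul.1 h1, mul_assoc, (c.ucen a).symm.eq, mul_assoc]
    rw [mul_inv_eq_iff_eq_mul]
    calc e * a = e * a * c.u * c.u := c.uu_cancel.symm
      _ = a * c.u * e := by rw [← h2, mul_assoc, mul_assoc, (c.ucen e).eq]
  have hyL := D.y_not_mem hq hyS hy2 hyu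
  let s : Set G := {l | l ∈ D.L ∧ l * l = c.u}
  let s' : Set G := {l | l ∈ D.L ∧ l * l = c.u ∧ l ∉ (c.S : Subgroup G)}
  set M := Subgroup.closure s with hM
  set H := Subgroup.closure s' with hH
  have hconj : ∀ g l : G, l * l = c.u → g * l * g⁻¹ * (g * l * g⁻¹) = c.u := fun g l h => by
    rw [show g * l * g⁻¹ * (g * l * g⁻¹) = g * (l * l) * g⁻¹ by group, h, c.conj_u]
  have hML : M ≤ D.L := (closure_le _).2 fun l h => h.1
  have hHL : H ≤ D.L := (closure_le _).2 fun l h => h.1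
  have hMinv : Inv D.L M := by
    intro g hg
    have hle : M ≤ M.comap (MulAut.conj g).toMonoidHom := (closure_le _).2 fun l h =>
      subset_closure ⟨D.Ln.conj_mem l h.1 g, hconj g l h.2⟩
    exact fun x hx => hle hx
  obtain ⟨t, ht, htt⟩ : ∃ t ∈ (c.S : Subgroup G) ⊓ D.L, t * t = c.u := by
    obtain ⟨a, ha4, -, -⟩ := hq.2.2.1.oneInv.shape_of_noncomm hq.2.2.2
    obtain ⟨k, hk⟩ := ha4
    have hk0 : k ≠ 0 := fun e => (orderOf_pos a).ne' (by rw [hk, e, mul_zero])
    refine ⟨(a : G) ^ k, pow_mem a.2 k, ?_⟩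
    rcases hq.2.2.1.uniq _ (mul_mem (pow_mem a.2 k) (pow_mem a.2 k)) (by
      rw [← pow_add, ← pow_add, show k + k + (k + k) = orderOf a by omega, ← SubmonoidClass.coe_pow,
        pow_orderOf_eq_one]
      rfl) with h | h
    · exfalso
      rw [← pow_add, ← SubmonoidClass.coe_pow] at h
      have := Nat.le_of_dvd (by omega) (orderOf_dvd_of_pow_eq_one (show a ^ (k + k) = 1 from Subtype.ext h))
      omega
    · exact h
  have hMns : ¬ Group.IsSolvable M := fun h => by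
    haveI := D.Ln
    rcases c.mem_zu.1 (D.mem_u_of_R hq (le_radical c.Rmax hML hMinv h (subset_closure ⟨ht.2, htt⟩))) with e | e
    · rw [e, one_mul] at htt; exact c.u_ne htt.symm
    · rw [e, c.uu] at htt; exact c.u_ne htt.symm
  have hML' : M = D.L := D.min M hML hMinv hMns
  have hHinv : Inv D.L H := by
    have hle : D.L ≤ normalizer (H : Set G) := by
      rw [← hML']
      refine (closure_le _).2 fun g hg => ?_
      by_cases hgS : g ∈ (c.S : Subgroup G)
      · have key : ∀ v ∈ D.L, v ∈ (c.S : Subgroup G) → ∀ x ∈ H, v * x * v⁻¹ ∈ H := by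
          intro v hv hvS
          have hle : H ≤ H.comap (MulAut.conj v).toMonoidHom := (closure_le _).2 fun l h =>
            subset_closure ⟨D.Ln.conj_mem l h.1 v, hconj v l h.2.1, fun hh => h.2.2 (by
              have := mul_mem (mul_mem (inv_mem hvS) hh) hvS
              simpa [mul_assoc] using this)⟩
          exact fun x hx => hle hx
        refine mem_normalizer_iff.2 fun x => ⟨key g hg.1 hgS x, fun hx => ?_⟩
        have := key g⁻¹ (inv_mem hg.1) (inv_mem hgS) _ hx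
        simpa [mul_assoc] using this
      · exact le_normalizer (subset_closure ⟨hg.1, hg.2, hgS⟩)
    exact fun g hg x hx => (mem_normalizer_iff.1 (hle hg) x).1 hx
  obtain ⟨l₁, hl₁⟩ : s'.Nonempty := by
    by_contra he
    refine hMns (isSolvable_of_le (?_ : Group.IsSolvable (c.S : Subgroup G)) ((closure_le _).2 fun l h => ?_))
    · haveI : Fact (Nat.Prime 2) := ⟨Nat.prime_two⟩
      haveI := c.S.isPGroup'.isNilpotent
      infer_instance
    · by_contra hlS
      exact he ⟨l, h.1, h.2, hlS⟩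
  have hHns : ¬ Group.IsSolvable H := fun h => by
    haveI := D.Ln
    exact hl₁.2.2 (zpowers_le.2 (c.u_mem c.S) (D.mem_u_of_R hq (le_radical c.Rmax hHL hHinv h (subset_closure hl₁))))
  have hHL' : H = D.L := D.min H hHL hHinv hHns
  obtain ⟨a, ha, hcase⟩ := D.exists_cand hq hyS hy2 hyu hl₁.1 hl₁.2.1 hl₁.2.2
  have haU : a ∉ zpowers c.u := fun h => by
    rcases c.mem_zu.1 h with e | e <;> have h2 := ha.2.1 <;> rw [e] at h2
    · rw [one_mul] at h2; exact c.u_ne h2.symm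
    · rw [c.uu] at h2; exact c.u_ne h2.symm
  have hya : y * (a * c.u) * y⁻¹ = y * a * y⁻¹ * c.u := by
    rw [← mul_assoc, mul_assoc (y * a) c.u, ← (c.ucen y⁻¹).eq, ← mul_assoc]
  rcases hcase with ⟨hflip, -⟩ | ⟨hfix, -⟩
  · refine haU (D.mem_u_of_cm hq fun l hl => ?_)
    revert l hl
    rw [← hHL']
    refine (closure_le (c.cm a)).2 fun l hl => ?_
    obtain ⟨b, hb, hb'⟩ := D.exists_cand hq hyS hy2 hyu hl.1 hl.2.1 hl.2.2
    rcases hb' with ⟨-, hbl⟩ | ⟨hbfix, -⟩
    · rcases hanti b a hb ha with e | e <;> rw [e]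
      · exact hbl
      · exact c.cm_u_right hbl
    · rcases hanti a b ha hb with e | e <;> rw [e] at hbfix
      · exact absurd (mul_eq_left.1 (hflip.symm.trans hbfix)) c.u_ne
      · rw [hya, hflip, c.uu_cancel] at hbfix
        exact absurd (mul_eq_left.1 hbfix.symm) c.u_ne
  · refine hyL ?_
    have hay : a * y ∈ zpowers c.u := D.mem_u_of_cm hq fun l hl => by
      revert l hl
      rw [← hHL']
      refine (closure_le (c.cm (a * y))).2 fun l hl => ?_
      obtain ⟨b, hb, hb'⟩ := D.exists_cand hq hyS hy2 hyu hl.1 hl.2.1 hl.2.2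
      rcases hb' with ⟨hbflip, -⟩ | ⟨-, hbl⟩
      · rcases hanti a b ha hb with e | e <;> rw [e] at hbflip
        · exact absurd (mul_eq_left.1 (hfix.symm.trans hbflip).symm) c.u_ne
        · rw [hya, hfix, c.uu_cancel] at hbflip
          exact absurd (mul_eq_left.1 hbflip) c.u_ne
      · rcases hanti b a hb ha with e | e <;> rw [e]
        · exact hbl
        · rw [mul_assoc b, ← (c.ucen y).eq, ← mul_assoc]; exact c.cm_u_right hbl
    have := mul_mem (inv_mem (show a ∈ D.L from ha.1.2)) (zpowers_le.2 hq.2.1 hay)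
    rwa [inv_mul_cancel_left] at this

omit hyS hy2 hyu in
theorem mem_u_pow {e : ↥((c.S : Subgroup G) ⊓ D.L)} (he : 4 ∣ orderOf e) : c.u ∈ zpowers (e : G) := by
  obtain ⟨k, hk⟩ := he
  have hk0 : k ≠ 0 := fun h => (orderOf_pos e).ne' (by rw [hk, h, mul_zero])
  refine (hq.2.2.1.uniq _ (pow_mem e.2 (k + k)) (by
    rw [← pow_add, show k + k + (k + k) = orderOf e by omega, ← SubmonoidClass.coe_pow, pow_orderOf_eq_one]
    rfl)).elim (fun h => ?_) fun h => h ▸ pow_mem (mem_zpowers _) _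
  have := Nat.le_of_dvd (by omega) (orderOf_dvd_of_pow_eq_one (show e ^ (k + k) = 1 from Subtype.ext (by
    rw [SubmonoidClass.coe_pow, h]; rfl)))
  omega

omit hyS hy2 hyu in
theorem not_u_of_sq {a : G} (ha : a * a = c.u) : a ∉ zpowers c.u := fun h => by
  rcases c.mem_zu.1 h with e | e <;> rw [e] at ha
  · rw [one_mul] at ha; exact c.u_ne ha.symm
  · rw [c.uu] at ha; exact c.u_ne ha.symm

omit hyS hy2 hyu in
theorem mem_u_of_comm {x a b : G} (hx : x ∈ (c.S : Subgroup G) ⊓ D.L) (haT : a ∈ (c.S : Subgroup G) ⊓ D.L)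
    (ha2 : a * a = c.u) (hab : b * a * b⁻¹ = a * c.u) (h1 : Commute x a) (h2 : Commute x b) :
    x ∈ zpowers c.u := by
  classical
  by_contra hxU
  obtain ⟨k, hk⟩ := (c.S.isPGroup') ⟨x, hx.1⟩
  have hk' : x ^ 2 ^ k = 1 := congrArg Subtype.val hk
  have hex : ∃ i, x ^ 2 ^ i ∈ zpowers c.u := ⟨k, by rw [hk']; exact one_mem _⟩
  obtain ⟨i, hi⟩ : ∃ i, Nat.find hex = i + 1 := ⟨Nat.find hex - 1, by
    have : Nat.find hex ≠ 0 := fun e => hxU (by simpa [e] using Nat.find_spec hex)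
    omega⟩
  have hspec := Nat.find_spec hex
  rw [hi, pow_succ, pow_mul, pow_two] at hspec
  set e := x ^ 2 ^ i with he
  have heU : e ∉ zpowers c.u := Nat.find_min hex (by omega)
  have he2 : e * e = c.u := (c.mem_zu.1 hspec).resolve_left fun e0 =>
    heU (c.mem_zu.2 (D.sq_one hq (pow_mem hx.2 _) e0))
  have hea : Commute e a := h1.pow_left _
  have h3 : e * a ∈ zpowers c.u := c.mem_zu.2 (D.sq_one hq (mul_mem (pow_mem hx.2 _) haT.2)
    (by rw [hea.symm.mul_mul_mul_comm, he2, ha2, c.uu]))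
  have hba : Commute b a := by
    have h4 : Commute b (e * a) := by
      rcases c.mem_zu.1 h3 with e0 | e0 <;> rw [e0]
      · exact Commute.one_right b
      · exact c.ucen b
    have h5 := ((h2.symm.pow_right _).inv_right : Commute b e⁻¹).mul_right h4
    rwa [inv_mul_cancel_left] at h5
  exact c.u_ne (mul_eq_left.1 (hab.symm.trans (by rw [hba.eq, mul_inv_cancel_right])))

omit hyS hy2 hyu in
/-- An involution modulo `⟨u⟩` outside `L` centralising `S ∩ L` is isolated there, against the `Z*` theorem. -/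
theorem false_of_central_outside {w r : G} (hwS : w ∈ (c.S : Subgroup G)) (hwL : w ∉ D.L)
    (hww : w * w ∈ zpowers c.u) (hr : orderOf r = 2) (hru : r ≠ c.u) (hrS : r ∈ (c.S : Subgroup G))
    (hc : (∀ x ∈ (c.S : Subgroup G) ⊓ D.L, Commute w x) ∧ ∃ y ∈ (c.S : Subgroup G), ∃ d ∈ D.L, w = y * d) :
    False := by
  haveI : Fact (Nat.Prime 2) := ⟨Nat.prime_two⟩
  haveI := c.zu_normal
  haveI := D.Ln
  obtain ⟨hTw, -⟩ := hc
  set U := zpowers c.u with hU
  set π := QuotientGroup.mk' U with hπ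
  set H := D.L ⊔ zpowers w with hH
  set Hb := H.map π with hHb
  have hwU : w ∉ U := fun h => hwL (zpowers_le.2 hq.2.1 h)
  have hrH : ∃ r' ∈ H, r' ∈ (c.S : Subgroup G) ∧ orderOf r' = 2 ∧ r' ≠ c.u := by
    rcases c.mem_zu.1 hww with e | e
    · exact ⟨w, mem_sup_right (mem_zpowers w), hwS, orderOf_two_iff.2 ⟨e, fun h => hwU (h ▸ one_mem _)⟩,
        fun h => hwU (h ▸ mem_zpowers _)⟩
    · obtain ⟨a, ha4, -, -⟩ := hq.2.2.1.oneInv.shape_of_noncomm hq.2.2.2
      obtain ⟨j, hj⟩ := mem_zpowers_iff.1 (D.mem_u_pow hq ha4)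
      obtain ⟨k, hk⟩ := ha4
      have hk0 : k ≠ 0 := fun h => (orderOf_pos a).ne' (by rw [hk, h, mul_zero])
      have hak : (a : G) ^ k * (a : G) ^ k = c.u := (hq.2.2.1.uniq _ (mul_mem (pow_mem a.2 k) (pow_mem a.2 k)) (by
        rw [← pow_add, ← pow_add, show k + k + (k + k) = orderOf a by omega, ← SubmonoidClass.coe_pow,
          pow_orderOf_eq_one]
        rfl)).resolve_left fun h => by
          rw [← pow_add, ← SubmonoidClass.coe_pow] at h
          have := Nat.le_of_dvd (by omega) (orderOf_dvd_of_pow_eq_one (show a ^ (k + k) = 1 from Subtype.ext h))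
          omega
      refine ⟨w * (a : G) ^ k, mul_mem (mem_sup_right (mem_zpowers w)) (mem_sup_left (pow_mem a.2.2 k)),
        mul_mem hwS (pow_mem a.2.1 k), orderOf_two_iff.2 ⟨?_, fun h => hwL ?_⟩, fun h => hwL ?_⟩
      · rw [(hTw _ (pow_mem a.2 k)).symm.mul_mul_mul_comm, e, hak, c.uu]
      · rw [eq_inv_of_mul_eq_one_left h]; exact inv_mem (pow_mem (show (a : G) ∈ D.L from a.2.2) k)
      · rw [eq_mul_inv_of_mul_eq h]; exact mul_mem hq.2.1 (inv_mem (pow_mem (show (a : G) ∈ D.L from a.2.2) k))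
  obtain ⟨r', hr'H, hr'S, hr', hr'u⟩ := hrH
  have hp0 : IsPGroup 2 ((((c.S : Subgroup G) ⊓ H).map π).subgroupOf Hb) :=
    ((c.S.isPGroup'.to_le inf_le_left).map π).comap_subtype
  obtain ⟨P, hP⟩ := hp0.exists_le_sylow
  set J := ((P : Subgroup Hb).map Hb.subtype).comap π with hJ
  have hJp : IsPGroup 2 J := (P.isPGroup'.map Hb.subtype).comap_of_ker_isPGroup π (by
    rw [QuotientGroup.ker_mk']
    exact c.S.isPGroup'.to_le (zpowers_le.2 (c.u_mem c.S)))
  have hJS : J ≤ (c.S : Subgroup G) := c.le_S hJp hr' hr'u hr'S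
    ⟨⟨π r', mem_map_of_mem π hr'H⟩, hP ⟨r', ⟨hr'S, hr'H⟩, rfl⟩, rfl⟩
  let wb : Hb := ⟨π w, mem_map_of_mem π (mem_sup_right (mem_zpowers w))⟩
  have hwb : orderOf wb = 2 := by
    rw [Subgroup.orderOf_mk]
    exact orderOf_two_iff.2 ⟨by rw [← map_mul]; exact (QuotientGroup.eq_one_iff _).2 hww,
      fun e => hwU ((QuotientGroup.eq_one_iff _).1 e)⟩
  have hwP : wb ∈ (P : Subgroup Hb) := hP ⟨w, ⟨hwS, mem_sup_right (mem_zpowers w)⟩, rfl⟩
  have hiso := ZStar.isIsolated_of_sylow hwP hwb fun k hk => by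
    obtain ⟨⟨_, k, hkH, rfl⟩, hkk⟩ : ∃ k' : Hb, k' = k := ⟨k, rfl⟩
    subst hkk
    have hvS : k * w * k⁻¹ ∈ (c.S : Subgroup G) := hJS ⟨_, hk, by simp [wb]⟩
    refine Subtype.ext ?_
    show π k * π w * (π k)⁻¹ = π w
    rw [← map_inv, ← map_mul, ← map_mul]
    refine (QuotientGroup.eq.2 ?_).symm
    have hxT : k * w * k⁻¹ * w⁻¹ ∈ (c.S : Subgroup G) ⊓ D.L := by
      refine ⟨show k * w * k⁻¹ * w⁻¹ ∈ (c.S : Subgroup G) from mul_mem hvS (inv_mem hwS), (QuotientGroup.eq_one_iff _).1 ?_⟩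
      obtain ⟨m, hm, s, hs, rfl⟩ := mem_sup_of_normal_left.1 hkH
      obtain ⟨i, rfl⟩ := mem_zpowers_iff.1 hs
      show QuotientGroup.mk' D.L (m * w ^ i * w * (m * w ^ i)⁻¹ * w⁻¹) = 1
      have hm1 : QuotientGroup.mk' D.L m = 1 := (QuotientGroup.eq_one_iff _).2 hm
      simp only [map_mul, map_inv, map_zpow, hm1, one_mul]
      group
    set x := k * w * k⁻¹ * w⁻¹ with hx
    have hxw : Commute w x := hTw x hxT
    have hvw : k * w * k⁻¹ = x * w := by rw [hx, inv_mul_cancel_right]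
    have hsq : k * w * k⁻¹ * (k * w * k⁻¹) = w * w := by
      rw [show k * w * k⁻¹ * (k * w * k⁻¹) = k * (w * w) * k⁻¹ by group]
      rcases c.mem_zu.1 hww with e | e <;> rw [e]
      · group
      · exact c.conj_u k
    rw [hvw, hxw.mul_mul_mul_comm] at hsq
    rw [hvw]
    have hxx : x ∈ U := c.mem_zu.2 (D.sq_one hq hxT.2 (mul_eq_right.1 hsq))
    rw [show w⁻¹ * (x * w) = w⁻¹ * (w * x) by rw [hxw.eq], inv_mul_cancel_left]
    exact hxx
  obtain ⟨N, hN, hodd, hcm⟩ := ZStar.exists_odd_normal hiso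
  set N' := D.L ⊓ ((N.map Hb.subtype).comap π) with hN'
  have hinv : Inv D.L N' := by
    rintro g hg x ⟨hxL, ⟨n, hn, e⟩⟩
    refine ⟨D.Ln.conj_mem x hxL g, ⟨⟨π g, mem_map_of_mem π (mem_sup_left hg)⟩ * n *
      ⟨π g, mem_map_of_mem π (mem_sup_left hg)⟩⁻¹, hN.conj_mem n hn _, ?_⟩⟩
    simp only [map_mul, map_inv, e]
    rfl
  have hsol : Group.IsSolvable N' := by
    have ho : Odd (Nat.card (N.map Hb.subtype : Subgroup _)) := by
      rw [card_map_of_injective Hb.subtype_injective]; exact hodd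
    haveI : Group.IsSolvable (N.map Hb.subtype : Subgroup _) := S0205.result ho
    let f : ↥N' →* ↥(N.map Hb.subtype) := (π.comp N'.subtype).codRestrict _ fun x => x.2.2
    haveI : Group.IsSolvable ↥f.ker := Group.isSolvable_of_comm fun p q => by
      have key : ∀ p : f.ker, ((p : N') : G) ∈ U := fun p =>
        (QuotientGroup.eq_one_iff _).1 (congrArg Subtype.val (p.2 : f (p : N') = 1) :)
      refine Subtype.ext (Subtype.ext ?_)
      rcases c.mem_zu.1 (key p) with e | e <;>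
        simp only [Subgroup.coe_mul, e, one_mul, mul_one, (c.ucen _).eq]
    exact Group.isSolvable_of_ker_le_range f.ker.subtype f (by simp)
  refine hwU (D.mem_u_of_cm hq fun m hm => c.cm_comm.1 (c.mem_cm_iff.2 ?_))
  have hmem : ⁅w, m⁆ ∈ N' := by
    refine ⟨?_, ?_⟩
    · show ⁅w, m⁆ ∈ D.L
      rw [commutatorElement_def]
      exact mul_mem (D.Ln.conj_mem m hm w) (inv_mem hm)
    · show π ⁅w, m⁆ ∈ N.map Hb.subtype
      exact ⟨_, hcm ⟨π m, mem_map_of_mem π (mem_sup_left hm)⟩, by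
        rw [map_commutatorElement, commutatorElement_def]; rfl⟩
  exact D.mem_u_of_R hq (le_radical c.Rmax inf_le_left hinv hsol hmem)

omit hyS hy2 hyu in
/-- A centraliser modulo `⟨u⟩` of an element of `S ∩ L` containing a further involution contains `S ∩ L`. -/
theorem le_cm {a r : G} (haT : a ∈ (c.S : Subgroup G) ⊓ D.L) (ha : a * a = c.u) (hrS : r ∈ (c.S : Subgroup G))
    (hr : orderOf r = 2) (hru : r ≠ c.u) (hra : r ∈ c.cm a) {x : G} (hx : x ∈ (c.S : Subgroup G) ⊓ D.L) :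
    x ∈ c.cm a := by
  haveI : Fact (Nat.Prime 2) := ⟨Nat.prime_two⟩
  haveI := D.isSimple_K
  haveI := D.Ln
  set T := (c.S : Subgroup G) ⊓ D.L with hT
  obtain ⟨e, he4, hidx, hinv⟩ := hq.2.2.1.oneInv.shape_of_noncomm hq.2.2.2
  have hue : c.u ∈ zpowers (e : G) := D.mem_u_pow hq he4
  have hcen : ∀ b ∈ zpowers (e : G), b * b = c.u → ∀ v ∈ T, v ∈ c.cm b := by
    intro b hb hbb v hv
    obtain ⟨i, rfl⟩ := mem_zpowers_iff.1 hb
    by_cases hve : (⟨v, hv⟩ : T) ∈ zpowers e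
    · obtain ⟨j, hj⟩ := mem_zpowers_iff.1 hve
      refine Or.inl ?_
      rw [show v = (e : G) ^ j by rw [← SubgroupClass.coe_zpow, hj],
        (Commute.zpow_zpow_self (e : G) j i).eq, mul_inv_cancel_right]
    · have h1 : v * (e : G) * v⁻¹ = (e : G)⁻¹ := congrArg Subtype.val (hinv ⟨v, hv⟩ hve).1
      refine Or.inr ?_
      rw [← conj_zpow, h1, inv_zpow]
      exact inv_eq_of_mul_eq_one_right (by rw [← mul_assoc, hbb, c.uu])
  by_cases hae : a ∈ zpowers (e : G)
  · exact hcen a hae ha x hx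
  obtain ⟨S₁, hS₁⟩ := D.exists_sylowK
  set π := QuotientGroup.mk' (center ↥D.L) with hπ
  set E : Subgroup D.L := (zpowers (e : G)).subgroupOf D.L with hE
  have hEmem : ∀ l : D.L, π l ∈ E.map π → (l : G) ∈ zpowers (e : G) := by
    rintro l ⟨m, hm, eq⟩
    have h1 : (m : G)⁻¹ * l ∈ zpowers c.u := D.mem_u_of_R hq (D.mk_eq.1 eq)
    simpa using mul_mem (show (m : G) ∈ zpowers (e : G) from hm) (zpowers_le.2 hue h1)
  have hEle : E.map π ≤ (S₁ : Subgroup D.K) := by
    rintro _ ⟨m, hm, rfl⟩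
    exact (hS₁ m).2 (zpowers_le.2 e.2.1 hm)
  have hrel : (E.map π).relIndex (S₁ : Subgroup D.K) = 2 := by
    let f : T →* (S₁ : Subgroup D.K) := (π.comp (Subgroup.inclusion inf_le_right)).codRestrict _
      fun v => (hS₁ _).2 v.2.1
    have hf : Function.Surjective f := by
      rintro ⟨z, hz⟩
      obtain ⟨l, rfl⟩ := QuotientGroup.mk'_surjective _ z
      exact ⟨⟨l, (hS₁ l).1 hz, l.2⟩, Subtype.ext rfl⟩
    have hcomap : ((E.map π).subgroupOf (S₁ : Subgroup D.K)).comap f = zpowers e := by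
      ext v
      refine ⟨fun h => ?_, fun h => ⟨⟨v, v.2.2⟩, ?_, rfl⟩⟩
      · obtain ⟨j, hj⟩ := mem_zpowers_iff.1 (hEmem ⟨v, v.2.2⟩ h)
        exact mem_zpowers_iff.2 ⟨j, Subtype.ext (by rw [SubgroupClass.coe_zpow]; exact hj)⟩
      · obtain ⟨j, rfl⟩ := mem_zpowers_iff.1 h
        exact mem_zpowers_iff.2 ⟨j, (SubgroupClass.coe_zpow e j).symm⟩
    rw [relIndex, ← index_comap_of_surjective _ hf, hcomap, hidx]
  have hsqK : ∀ l : D.L, (l : G) * l ∈ c.R → π l * π l = 1 := fun l h => by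
    rw [← map_mul]; exact D.mk_eq_one.2 h
  rcases S0111.result S₁ (E.map π) hEle hrel (π ⟨a, haT.2⟩) (orderOf_two_iff.2 ⟨hsqK _ (by
      show a * a ∈ c.R
      rw [ha]; exact Simp.Q_le_R c c.hQ.mem),
      fun eq => D.not_u_of_sq hq ha (D.mem_u_of_R hq (D.mk_eq_one.1 eq))⟩)
    ((hS₁ _).2 haT.1) (fun h => hae (hEmem _ h)) with ⟨N, hN, hNi, -⟩ | ⟨g, hg⟩
  · exfalso
    rcases hN.eq_bot_or_eq_top with e0 | e0
    · rw [e0, index_bot] at hNi
      haveI : IsCyclic D.K := isCyclic_of_prime_card (p := 2) hNi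
      exact D.not_comm_K (IsCyclic.commutative (α := D.K))
    · rw [e0, index_top] at hNi; omega
  obtain ⟨g, rfl⟩ := QuotientGroup.mk'_surjective _ g
  rw [← map_inv, ← map_mul, ← map_mul] at hg
  have hg' : (g : G) * a * (g : G)⁻¹ ∈ zpowers (e : G) := hEmem _ hg
  have hg2 : (g : G) * a * (g : G)⁻¹ * ((g : G) * a * (g : G)⁻¹) = c.u := by
    rw [show (g : G) * a * (g : G)⁻¹ * ((g : G) * a * (g : G)⁻¹) = g * (a * a) * (g : G)⁻¹ by group, ha, c.conj_u]
  have hTa : ∀ v ∈ T, (g : G)⁻¹ * v * g ∈ c.cm a := fun v hv => by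
    rcases hcen _ hg' hg2 v hv with h | h
    · refine Or.inl ?_
      rw [show (g : G)⁻¹ * v * g * a * ((g : G)⁻¹ * v * g)⁻¹ =
        (g : G)⁻¹ * (v * ((g : G) * a * (g : G)⁻¹) * v⁻¹) * g by group, h]
      group
    · refine Or.inr ?_
      rw [show (g : G)⁻¹ * v * g * a * ((g : G)⁻¹ * v * g)⁻¹ =
        (g : G)⁻¹ * (v * ((g : G) * a * (g : G)⁻¹) * v⁻¹) * g by group, h,
        show (g : G)⁻¹ * ((g : G) * a * (g : G)⁻¹ * c.u) * g = a * ((g : G)⁻¹ * c.u * g) by group,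
        c.u_commute_left (x := (g : G)⁻¹), inv_mul_cancel_right]
  set C := c.cm a with hC
  obtain ⟨P, hP⟩ := (c.S.isPGroup'.comap_subtype (K := C)).exists_le_sylow
  have hPS : ∀ v : C, v ∈ (P : Subgroup C) → (v : G) ∈ (c.S : Subgroup G) := fun v hv =>
    c.le_S (P.isPGroup'.map C.subtype) hr hru hrS ⟨⟨r, hra⟩, hP hrS, rfl⟩ ⟨v, hv, rfl⟩
  let Tg : Subgroup G := T.comap (MulAut.conj (g : G)).toMonoidHom
  have hTgp : IsPGroup 2 (Tg.subgroupOf C) :=
    ((c.S.isPGroup'.to_le inf_le_left).comap_of_injective _ (MulAut.conj (g : G)).injective).comap_subtype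
  obtain ⟨P', hP'⟩ := hTgp.exists_le_sylow
  obtain ⟨k, hk⟩ := MulAction.exists_smul_eq C P' P
  have hmap : ∀ v : T, (k : G) * ((g : G)⁻¹ * v * g) * (k : G)⁻¹ ∈ T := fun v => by
    refine ⟨hPS (k * ⟨_, hTa v v.2⟩ * k⁻¹) ?_, D.Ln.conj_mem _ ?_ _⟩
    · rw [← hk, CentRank.mem_smul_sylow, show k⁻¹ * (k * (⟨_, hTa v v.2⟩ : C) * k⁻¹) * k = ⟨_, hTa v v.2⟩ by group]
      refine hP' ?_
      show (g : G) * ((g : G)⁻¹ * v * g) * (g : G)⁻¹ ∈ T
      rw [show (g : G) * ((g : G)⁻¹ * v * g) * (g : G)⁻¹ = (v : G) by group]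
      exact v.2
    · exact mul_mem (mul_mem (inv_mem g.2) v.2.2) g.2
  let φ : T → T := fun v => ⟨_, hmap v⟩
  obtain ⟨v, hv⟩ := (Finite.injective_iff_surjective (f := φ)).1 (fun v w h => by
    have := congrArg Subtype.val h
    simpa [φ] using this) ⟨x, hx⟩
  rw [show x = (k : G) * ((g : G)⁻¹ * v * g) * (k : G)⁻¹ from (congrArg Subtype.val hv).symm]
  exact mul_mem (mul_mem k.2 (hTa v v.2)) (inv_mem k.2)

theorem false_of_quat_aux {a b : G} (ha : D.Cand y a) (hb : D.Cand y b) (hab : b * a * b⁻¹ = a * c.u) : False := by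
  haveI : Fact (Nat.Prime 2) := ⟨Nat.prime_two⟩
  haveI := c.zu_normal
  haveI := D.Ln
  have hyL := D.y_not_mem hq hyS hy2 hyu
  have hyy := mul_self_of_orderOf_two hy2
  have hyi : y⁻¹ = y := inv_eq_of_mul_eq_one_right hyy
  obtain ⟨haT, ha2, hay⟩ := ha
  obtain ⟨hbT, hb2, hby⟩ := hb
  set T := (c.S : Subgroup G) ⊓ D.L with hT
  have hmul : ∀ p q v : G, ∀ s t : G, q * v * q⁻¹ = v * t → p * v * p⁻¹ = v * s → Commute p t →
      p * q * v * (p * q)⁻¹ = v * (s * t) := fun p q v s t h1 h2 h3 => by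
    rw [show p * q * v * (p * q)⁻¹ = p * (q * v * q⁻¹) * p⁻¹ by group, h1,
      show p * (v * t) * p⁻¹ = p * v * (t * p⁻¹) by group, ← (h3.inv_left).eq,
      show p * v * (p⁻¹ * t) = p * v * p⁻¹ * t by group, h2, mul_assoc]
  have hcu : ∀ p : G, Commute p c.u := c.ucen
  have hai : ∀ v : G, v * v * v⁻¹ = v * 1 := fun v => by group
  have hab' : a * b * a⁻¹ = b * c.u := by
    have h1 : b * a = a * c.u * b := mul_inv_eq_iff_eq_mul.1 hab
    rw [mul_inv_eq_iff_eq_mul]
    calc a * b = a * c.u * c.u * b := by rw [c.uu_cancel]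
      _ = a * c.u * b * c.u := by rw [mul_assoc (a * c.u) c.u, ← (hcu b).eq, ← mul_assoc]
      _ = b * c.u * a := by rw [← h1, mul_assoc, (hcu a).eq, ← mul_assoc]
  have hcomm : ∀ {v p : G}, p * v * p⁻¹ = v * 1 → Commute p v := fun {v p} h =>
    mul_inv_eq_iff_eq_mul.1 (by rw [h, mul_one])
  -- an element `y * d` centralising `a` and `b`
  obtain ⟨d, hd, hwa, hwb⟩ : ∃ d ∈ closure ({a, b} : Set G), Commute (y * d) a ∧ Commute (y * d) b := by
    have hma : a ∈ closure ({a, b} : Set G) := subset_closure (Set.mem_insert a {b})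
    have hmb : b ∈ closure ({a, b} : Set G) := subset_closure (Set.mem_insert_of_mem a rfl)
    rcases hay with e1 | e1 <;> rcases hby with e2 | e2
    · exact ⟨1, one_mem _, by rw [mul_one]; exact hcomm (by rw [mul_one, e1]),
        by rw [mul_one]; exact hcomm (by rw [mul_one, e2])⟩
    · refine ⟨a, hma, hcomm ?_, hcomm ?_⟩
      · simpa using hmul y a a 1 1 (hai a) (by rw [mul_one, e1]) (Commute.one_right y)
      · simpa [c.uu] using hmul y a b c.u c.u hab' e2 (hcu y)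
    · refine ⟨b, hmb, hcomm ?_, hcomm ?_⟩
      · simpa [c.uu] using hmul y b a c.u c.u hab e1 (hcu y)
      · simpa using hmul y b b 1 1 (hai b) (by rw [mul_one, e2]) (Commute.one_right y)
    · refine ⟨a * b, mul_mem hma hmb, hcomm ?_, hcomm ?_⟩
      · have h1 := hmul a b a 1 c.u hab (hai a) (hcu a)
        simpa [c.uu] using hmul y (a * b) a c.u (1 * c.u) h1 e1 (by rw [one_mul]; exact hcu y)
      · have h1 := hmul a b b c.u 1 (hai b) hab' (Commute.one_right a)
        simpa [c.uu] using hmul y (a * b) b c.u (c.u * 1) h1 e2 (by rw [mul_one]; exact hcu y)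
  have hclT : closure ({a, b} : Set G) ≤ T := (closure_le T).2 (by
    rintro v (rfl | rfl)
    · exact haT
    · exact hbT)
  obtain ⟨w, hw⟩ : ∃ w, w = y * d := ⟨_, rfl⟩
  rw [← hw] at hwa hwb
  have hwd : ∀ v ∈ closure ({a, b} : Set G), Commute w v := fun v hv => by
    have hle : closure ({a, b} : Set G) ≤ centralizer {w} := (closure_le _).2 (by
      rintro v (rfl | rfl)
      · exact mem_centralizer_singleton_iff.2 hwa.eq.symm
      · exact mem_centralizer_singleton_iff.2 hwb.eq.symm)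
    exact (mem_centralizer_singleton_iff.1 (hle hv)).symm
  have hdT : d ∈ T := hclT hd
  have hwS : w ∈ (c.S : Subgroup G) := hw ▸ mul_mem hyS hdT.1
  have hwL : w ∉ D.L := fun h => hyL (by
    have h1 := mul_mem h (inv_mem (show d ∈ D.L from hdT.2))
    rwa [hw, mul_inv_cancel_right] at h1)
  have hydd : y * d * y⁻¹ * d⁻¹ ∈ zpowers c.u := by
    have hle : closure ({a, b} : Set G) ≤ c.cm y := (closure_le _).2 (by
      rintro v (rfl | rfl)
      · exact c.cm_comm.1 hay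
      · exact c.cm_comm.1 hby)
    rw [← commutatorElement_def]
    exact c.mem_cm_iff.1 (c.cm_comm.1 (hle hd))
  have hdd : d * d ∈ zpowers c.u := by
    have key : ∀ v ∈ closure ({a, b} : Set G), v * v = c.u ∨ v ∈ zpowers c.u := by
      intro v hv
      have hle : closure ({a, b} : Set G) ≤
          closure ({a, b} : Set G) ⊓ ((c.cm a ⊓ c.cm b) : Subgroup G) := le_inf le_rfl ((closure_le _).2 (by
        rintro v (rfl | rfl)
        · exact ⟨Or.inl (by group), Or.inr hab'⟩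
        · exact ⟨Or.inr hab, Or.inl (by group)⟩))
      obtain ⟨-, hva, hvb⟩ := hle hv
      have hvv : Commute (v * v) a ∧ Commute (v * v) b := by
        have aux : ∀ p : G, v ∈ c.cm p → Commute (v * v) p := fun p h => by
          refine mul_inv_eq_iff_eq_mul.1 ?_
          rw [show v * v * p * (v * v)⁻¹ = v * (v * p * v⁻¹) * v⁻¹ by group]
          rcases h with e | e
          · rw [e, e]
          · rw [e, ← mul_assoc, mul_assoc (v * p), ← (hcu v⁻¹).eq, ← mul_assoc, e, c.uu_cancel]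
        exact ⟨aux a hva, aux b hvb⟩
      have h4 : ∀ x ∈ T, Commute x a → Commute x b → x ∈ zpowers c.u := fun x hx h1 h2 =>
        D.mem_u_of_comm hq hx haT ha2 hab h1 h2
      rcases c.mem_zu.1 (h4 _ (mul_mem (hclT hv) (hclT hv)) hvv.1 hvv.2) with e | e
      · exact Or.inr (c.mem_zu.2 (D.sq_one hq (hclT hv).2 e))
      · exact Or.inl e
    rcases key d hd with e | e
    · rw [e]; exact mem_zpowers _
    · exact mul_mem e e
  have hww : w * w ∈ zpowers c.u := by
    rw [hw, show y * d * (y * d) = (y * d * y⁻¹ * d⁻¹) * (d * (y * y) * d) by group, hyy, mul_one]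
    exact mul_mem hydd hdd
  obtain ⟨r, hrS, hr, hru, hra, hrb⟩ : ∃ r ∈ (c.S : Subgroup G), orderOf r = 2 ∧ r ≠ c.u ∧ r ∈ c.cm a ∧ r ∈ c.cm b := by
    have hwa' : w ∈ c.cm a := Or.inl (by rw [hwa.eq, mul_inv_cancel_right])
    have hwb' : w ∈ c.cm b := Or.inl (by rw [hwb.eq, mul_inv_cancel_right])
    rcases c.mem_zu.1 hww with e | e
    · exact ⟨w, hwS, orderOf_two_iff.2 ⟨e, fun h => hwL (h ▸ one_mem _)⟩, fun h => hwL (h ▸ hq.2.1), hwa', hwb'⟩
    · refine ⟨w * a, mul_mem hwS haT.1, orderOf_two_iff.2 ⟨?_, fun h => hwL ?_⟩, fun h => hwL ?_,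
        mul_mem hwa' (Or.inl (by group)), mul_mem hwb' (Or.inr hab')⟩
      · rw [hwa.symm.mul_mul_mul_comm, e, ha2, c.uu]
      · rw [eq_inv_of_mul_eq_one_left h]; exact inv_mem (show a ∈ D.L from haT.2)
      · rw [eq_mul_inv_of_mul_eq h]; exact mul_mem hq.2.1 (inv_mem (show a ∈ D.L from haT.2))
  -- `S ∩ L` is the quaternion group of order eight centralised by `w`
  have hTw : ∀ x ∈ T, Commute w x := fun x hx => by
    have h1 := D.le_cm hq haT ha2 hrS hr hru hra hx
    have h2 := D.le_cm hq hbT hb2 hrS hr hru hrb hx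
    obtain ⟨d', hd', h1', h2'⟩ : ∃ d' ∈ closure ({a, b} : Set G), Commute (x * d') a ∧ Commute (x * d') b := by
      have hma : a ∈ closure ({a, b} : Set G) := subset_closure (Set.mem_insert a {b})
      have hmb : b ∈ closure ({a, b} : Set G) := subset_closure (Set.mem_insert_of_mem a rfl)
      rcases h1 with e1 | e1 <;> rcases h2 with e2 | e2
      · exact ⟨1, one_mem _, by rw [mul_one]; exact hcomm (by rw [mul_one, e1]),
          by rw [mul_one]; exact hcomm (by rw [mul_one, e2])⟩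
      · refine ⟨a, hma, hcomm ?_, hcomm ?_⟩
        · simpa using hmul x a a 1 1 (hai a) (by rw [mul_one, e1]) (Commute.one_right x)
        · simpa [c.uu] using hmul x a b c.u c.u hab' e2 (hcu x)
      · refine ⟨b, hmb, hcomm ?_, hcomm ?_⟩
        · simpa [c.uu] using hmul x b a c.u c.u hab e1 (hcu x)
        · simpa using hmul x b b 1 1 (hai b) (by rw [mul_one, e2]) (Commute.one_right x)
      · refine ⟨a * b, mul_mem hma hmb, hcomm ?_, hcomm ?_⟩
        · have h1 := hmul a b a 1 c.u hab (hai a) (hcu a)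
          simpa [c.uu] using hmul x (a * b) a c.u (1 * c.u) h1 e1 (by rw [one_mul]; exact hcu x)
        · have h1 := hmul a b b c.u 1 (hai b) hab' (Commute.one_right a)
          simpa [c.uu] using hmul x (a * b) b c.u (c.u * 1) h1 e2 (by rw [mul_one]; exact hcu x)
    have hz := D.mem_u_of_comm hq (mul_mem hx (hclT hd')) haT ha2 hab h1' h2'
    have hwu : Commute w (x * d') := by
      rcases c.mem_zu.1 hz with e | e <;> rw [e]
      · exact Commute.one_right w
      · exact hcu w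
    have := hwu.mul_right (hwd d' hd').inv_right
    rwa [mul_inv_cancel_right] at this
  exact D.false_of_central_outside hq hwS hwL hww hr hru hrS ⟨fun x hx => hTw x hx, y, hyS, d, hdT.2, hw⟩

omit hyS hy2 hyu in
theorem false_of_quat : False := by
  obtain ⟨y, hyS, hy2, hyu⟩ := c.four
  obtain ⟨a, b, ha, hb, hab⟩ := D.exists_two_cands hq hyS hy2 hyu
  exact D.false_of_quat_aux hq hyS hy2 hyu ha hb hab

end Quat

end Simp

end Cfsg.Agent.Invol.RankOneInter
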