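import Cfsg.Agent.Lib.Invol.RankOneInter.Root
import Cfsg.Agent.Lib.Invol.RankOneInter.Bender

/-!
# The setting: trivial odd core, `O₂(G) ≠ 1`

`O₂(G)` has one involution `u`, every other involution lies in one Sylow 2-subgroup only.
-/

set_option autoImplicit false
set_option linter.style.haveILetI false
set_option linter.unusedSectionVars false

open Subgroup
open scoped commutatorElement

namespace Cfsg.Agent.Invol.RankOneInter

universe u

variable {G : Type u} [Group G] [Finite G]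

/-- The data of the case `O₂(G) ≠ 1`. -/
structure Cfg (G : Type u) [Group G] [Finite G] : Type u where
  S : Sylow 2 G
  R : Subgroup G
  u : G
  ri : RI G
  ns : ¬ Group.IsSolvable G
  core : ∀ N : Subgroup G, N.Normal → Odd (Nat.card N) → N = ⊥
  hQ : OneInvOn (Cfsg.pCore 2 G) u
  ucen : ∀ g : G, Commute g u
  Rn : R.Normal
  Rs : Group.IsSolvable R
  Rmax : ∀ K : Subgroup G, K.Normal → Group.IsSolvable K → K ≤ R
  Rcent : ∀ r ∈ R, (∀ q ∈ Cfsg.pCore 2 G, Commute r q) → r ∈ Cfsg.pCore 2 G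
  four : ∃ y ∈ (S : Subgroup G), orderOf y = 2 ∧ y ≠ u

theorem exists_two_sylow (hns : ¬ Group.IsSolvable G) (S : Sylow 2 G) : ∃ T : Sylow 2 G, T ≠ S := by
  by_contra hcon
  push Not at hcon
  refine hns ?_
  have e : normalizer ((S : Subgroup G) : Set G) = ⊤ := eq_top_iff.2 fun g _ =>
    Sylow.smul_eq_iff_mem_normalizer.1 (hcon (g • S))
  have := isSolvable_sylow_normalizer S
  rw [e] at this
  haveI := this
  exact Group.isSolvable_of_surjective (f := (topEquiv : (⊤ : Subgroup G) ≃* G).toMonoidHom) topEquiv.surjective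

theorem exists_cfg (hR : RI G) (hns : ¬ Group.IsSolvable G)
    (hcore : ∀ N : Subgroup G, N.Normal → Odd (Nat.card N) → N = ⊥) (hQ : Cfsg.pCore 2 G ≠ ⊥)
    (hnQ : ∀ S : Sylow 2 G, ∀ n : ℕ, IsEmpty (↥(S : Subgroup G) ≃* QuaternionGroup (2 ^ (n + 1)))) :
    Nonempty (Cfg G) := by
  haveI : Fact (Nat.Prime 2) := ⟨Nat.prime_two⟩
  obtain ⟨S⟩ : Nonempty (Sylow 2 G) := inferInstance
  obtain ⟨T, hT⟩ := exists_two_sylow hns S
  set Q := Cfsg.pCore 2 G with hQdef
  have hQp : IsPGroup 2 Q := Grp.pCore_isPGroup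
  obtain ⟨z, hz⟩ : ∃ z : Q, orderOf z = 2 ∧ ∀ q : Q, Commute q z := by
    haveI : Nontrivial Q := (Subgroup.nontrivial_iff_ne_bot _).2 hQ
    haveI : Nontrivial (center Q) := hQp.center_nontrivial
    obtain ⟨k, hk⟩ := IsPGroup.iff_card.1 (hQp.to_subgroup (center Q))
    obtain ⟨c, hc⟩ := exists_prime_orderOf_dvd_card' (G := center Q) 2 (by
      rw [hk]
      refine dvd_pow_self 2 fun e => ?_
      rw [e, pow_zero] at hk
      exact (Finite.one_lt_card (α := center Q)).ne' hk)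
    exact ⟨c, by rw [Subgroup.orderOf_coe, hc], fun q => mem_center_iff.1 c.2 q⟩
  have hQS : ∀ P : Sylow 2 G, Q ≤ (P : Subgroup G) := Grp.pCore_le_sylow
  have huniq : ∀ x ∈ Q, x * x = 1 → x = 1 ∨ x = (z : G) := by
    intro x hx hxx
    by_contra hne
    rw [not_or] at hne
    exact hT (eq_of_four hR (a := x) (b := (z : G)) (orderOf_two_iff.2 ⟨hxx, hne.1⟩)
      (by rw [Subgroup.orderOf_coe, hz.1]) hne.2 (congrArg Subtype.val (hz.2 ⟨x, hx⟩).eq :)
      (hQS T hx) (hQS T z.2) (hQS S hx) (hQS S z.2))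
  have hOne : OneInvOn Q (z : G) := ⟨hQp, by rw [Subgroup.orderOf_coe, hz.1], z.2, huniq⟩
  have hcen : ∀ g : G, Commute g (z : G) := by
    intro g
    have hgz : g * (z : G) * g⁻¹ ∈ Q := (inferInstance : Q.Normal).conj_mem _ z.2 g
    have h2 : orderOf (g * (z : G) * g⁻¹) = 2 := by rw [orderOf_conj_eq, hOne.two]
    exact mul_inv_eq_iff_eq_mul.1
      ((huniq _ hgz (mul_self_of_orderOf_two h2)).resolve_left (ne_one_of_orderOf_two h2))
  obtain ⟨R, hRc, hRs, hRmax⟩ := exists_radical G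
  haveI := hRc
  haveI := hRs
  have hcent : ∀ r ∈ R, (∀ q ∈ Q, Commute r q) → r ∈ Q := by
    intro r hr hrq
    have h1 : Cfsg.pPrimeCore 2 R = ⊥ := by
      refine (map_eq_bot_iff_of_injective _ R.subtype_injective).1 (hcore _ inferInstance ?_)
      rw [card_map_of_injective R.subtype_injective]
      exact Nat.coprime_two_right.1 Grp.pPrimeCore_coprime
    have h2 : (Cfsg.pCore 2 R).map R.subtype ≤ Q :=
      Grp.le_pCore inferInstance ((Grp.pCore_isPGroup (p := 2) (G := R)).map _)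
    exact h2 ⟨⟨r, hr⟩, Grp.centralizer_pCore_le h1 (mem_centralizer_iff.2 fun y hy =>
      Subtype.ext (hrq y (h2 ⟨y, hy, rfl⟩)).symm.eq), rfl⟩
  have hfour : ∃ y ∈ (S : Subgroup G), orderOf y = 2 ∧ y ≠ (z : G) := by
    by_contra hcon
    push Not at hcon
    have hone : OneInvOn (S : Subgroup G) (z : G) := ⟨S.isPGroup', hOne.two, hQS S z.2, fun x hx hxx =>
      or_iff_not_imp_left.2 fun h1 => hcon x hx (orderOf_two_iff.2 ⟨hxx, h1⟩)⟩
    by_cases hc : ∀ x y : (S : Subgroup G), Commute x y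
    · rcases hone.oneInv.shape with hcy | ⟨a, ha4, hidx, hinv⟩
      · haveI := hcy
        exact hns (Transfer.ClassThree.isSolvable_of_cyclic_sylow_two S)
      · obtain ⟨x, hx⟩ : ∃ x, x ∉ zpowers a := by
          by_contra hall
          push Not at hall
          rw [show zpowers a = ⊤ from eq_top_iff.2 fun x _ => hall x, index_top] at hidx
          omega
        have e := (hinv x hx).1
        rw [(hc x a).eq, mul_inv_cancel_right] at e
        have h2 : a * a = 1 := mul_eq_one_iff_eq_inv.2 e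
        have := Nat.le_of_dvd two_pos (ha4.trans (orderOf_dvd_of_pow_eq_one (by rw [pow_two, h2])))
        omega
    · obtain ⟨n, ⟨e⟩⟩ := quaternion_of_oneInv hone.oneInv hc
      exact (hnQ S n).false e
  exact ⟨⟨S, R, z, hR, hns, hcore, hOne, hcen, inferInstance, inferInstance, hRmax, hcent, hfour⟩⟩

namespace Cfg

variable (c : Cfg G)

/-- `O₂(G)`. -/
abbrev Q (_c : Cfg G) : Subgroup G := Cfsg.pCore 2 G

theorem Q_le (P : Sylow 2 G) : c.Q ≤ (P : Subgroup G) :=
  haveI : Fact (Nat.Prime 2) := ⟨Nat.prime_two⟩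
  Grp.pCore_le_sylow P

theorem u_mem (P : Sylow 2 G) : c.u ∈ (P : Subgroup G) := c.Q_le P c.hQ.mem

theorem uu : c.u * c.u = 1 := mul_self_of_orderOf_two c.hQ.two

theorem u_ne : c.u ≠ 1 := ne_one_of_orderOf_two c.hQ.two

theorem conj_u (g : G) : g * c.u * g⁻¹ = c.u := by rw [(c.ucen g).eq, mul_inv_cancel_right]

/-- An involution other than `u` lies in one Sylow subgroup only. -/
theorem eq_sylow {P T : Sylow 2 G} {t : G} (ht : orderOf t = 2) (htu : t ≠ c.u) (hP : t ∈ (P : Subgroup G))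
    (hT : t ∈ (T : Subgroup G)) : P = T :=
  eq_of_four c.ri ht c.hQ.two htu (c.ucen t) hP (c.u_mem P) hT (c.u_mem T)

theorem ctl {t g : G} (ht : orderOf t = 2) (htu : t ≠ c.u) (htS : t ∈ (c.S : Subgroup G))
    (hg : g * t * g⁻¹ ∈ (c.S : Subgroup G)) : g ∈ normalizer ((c.S : Subgroup G) : Set G) :=
  mem_normalizer_of_four c.ri ht c.hQ.two htu (c.ucen t) htS (c.u_mem c.S) hg
    (by rw [c.conj_u]; exact c.u_mem c.S)

theorem cent_le {t g : G} (ht : orderOf t = 2) (htu : t ≠ c.u) (htS : t ∈ (c.S : Subgroup G))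
    (hg : Commute g t) : g ∈ normalizer ((c.S : Subgroup G) : Set G) :=
  c.ctl ht htu htS (by rwa [hg.eq, mul_inv_cancel_right])

/-- A 2-group containing such an involution of `S` lies in `S`. -/
theorem le_S {K : Subgroup G} (hK : IsPGroup 2 K) {t : G} (ht : orderOf t = 2) (htu : t ≠ c.u)
    (htS : t ∈ (c.S : Subgroup G)) (htK : t ∈ K) : K ≤ (c.S : Subgroup G) := by
  obtain ⟨P, hP⟩ := hK.exists_le_sylow
  exact c.eq_sylow ht htu (hP htK) htS ▸ hP

theorem isSolvable_of_commutes {t : G} (ht : orderOf t = 2) (htu : t ≠ c.u) {M : Subgroup G}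
    (hM : ∀ m ∈ M, Commute m t) : Group.IsSolvable M :=
  isSolvable_of_four c.ri ht c.hQ.two htu (c.ucen t) hM fun m _ => c.ucen m

theorem perfect_centralizes {L : Subgroup G} (hL : ⁅L, L⁆ = L) {l q : G} (hl : l ∈ L) (hq : q ∈ c.Q) :
    Commute l q :=
  c.hQ.perfect_centralizes hL (inv_normal _ L) hl hq

/-- A solvable invariant subgroup of a normal subgroup centralising `Q` lies in `Q`. -/
theorem le_Q {H N : Subgroup G} [H.Normal] (hNH : N ≤ H) (hinv : Inv H N) (hs : Group.IsSolvable N)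
    (hc : ∀ n ∈ N, ∀ q ∈ c.Q, Commute n q) : N ≤ c.Q := fun n hn =>
  c.Rcent n (le_radical c.Rmax hNH hinv hs hn) (hc n hn)

end Cfg

end Cfsg.Agent.Invol.RankOneInter
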