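import Cfsg.Agent.Lib.Invol.RankOneInter.Setup

/-!
# A minimal non-solvable normal subgroup `L`, simple modulo the radical, with solvable centraliser

An element of `S ∩ L`, involution modulo the radical, is good when a translate by `O₂(G)` is an involution; then
only elements of `N(S)` keep it in `S`.
-/

set_option autoImplicit false
set_option linter.style.haveILetI false
set_option linter.unusedSectionVars false

open Subgroup
open scoped commutatorElement

namespace Cfsg.Agent.Invol.RankOneInter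

universe u

variable {G : Type u} [Group G] [Finite G]

theorem isCyclic_of_comm {R : Type*} [Group R] [Finite R] {u : R} (h : Core2.RankOneTwo.OneInv R u)
    (hc : ∀ x y : R, Commute x y) : IsCyclic R := by
  rcases h.shape with hcy | ⟨a, ha4, hidx, hinv⟩
  · exact hcy
  · obtain ⟨x, hx⟩ : ∃ x, x ∉ zpowers a := by
      by_contra hall
      push Not at hall
      rw [show zpowers a = ⊤ from eq_top_iff.2 fun x _ => hall x, index_top] at hidx
      omega
    have e := (hinv x hx).1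
    rw [(hc x a).eq, mul_inv_cancel_right] at e
    have := Nat.le_of_dvd two_pos (ha4.trans (orderOf_dvd_of_pow_eq_one (by
      rw [pow_two]; exact mul_eq_one_iff_eq_inv.2 e)))
    omega

/-- `L` is minimal non-solvable invariant under itself, with solvable centraliser. -/
structure Simp (c : Cfg G) : Type u where
  L : Subgroup G
  Ln : L.Normal
  perf : ⁅L, L⁆ = L
  ns : ¬ Group.IsSolvable L
  min : ∀ M : Subgroup G, M ≤ L → Inv L M → ¬ Group.IsSolvable M → M = L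
  csolv : Group.IsSolvable (centralizer (L : Set G))

namespace Simp

variable {c : Cfg G} (D : Simp c)
include D

omit D in
theorem Q_le_R (c : Cfg G) : c.Q ≤ c.R := by
  refine c.Rmax _ inferInstance ?_
  haveI : Fact (Nat.Prime 2) := ⟨Nat.prime_two⟩
  haveI := (Grp.pCore_isPGroup (p := 2) (G := G)).isNilpotent
  infer_instance

theorem commute_Q {q l : G} (hq : q ∈ c.Q) (hl : l ∈ D.L) : Commute q l :=
  (c.perfect_centralizes D.perf hl hq).symm

theorem mem_Q {x : G} (hL : x ∈ D.L) (hR : x ∈ c.R) : x ∈ c.Q :=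
  c.Rcent x hR fun _ hq => (D.commute_Q hq hL).symm

theorem commute_R {r l : G} (hr : r ∈ c.R) (hl : l ∈ D.L) : Commute r l := by
  refine commute_of_central D.perf (fun m hm => ?_) hl
  have hL : ⁅r, m⁆ ∈ D.L := by
    rw [commutatorElement_def]
    exact mul_mem (D.Ln.conj_mem m hm r) (inv_mem hm)
  have hR : ⁅r, m⁆ ∈ c.R := by
    rw [commutatorElement_def, show r * m * r⁻¹ * m⁻¹ = r * (m * r⁻¹ * m⁻¹) by group]
    exact mul_mem hr (c.Rn.conj_mem _ (inv_mem hr) m)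
  exact ⟨hL, fun n hn => D.commute_Q (D.mem_Q hL hR) hn⟩

theorem mem_R {x : G} (hx : ∀ l ∈ D.L, Commute x l) : x ∈ c.R := by
  haveI := D.Ln
  exact c.Rmax _ inferInstance D.csolv (mem_centralizer_iff.2 fun l hl => (hx l hl).symm.eq)

/-- `L` modulo its centre. -/
abbrev K : Type u := ↥D.L ⧸ center ↥D.L

theorem mem_center (z : D.L) : z ∈ center ↥D.L ↔ (z : G) ∈ c.R :=
  ⟨fun h => D.mem_R fun l hl => (congrArg Subtype.val (mem_center_iff.1 h ⟨l, hl⟩)).symm,
    fun h => mem_center_iff.2 fun y => Subtype.ext (D.commute_R h y.2).symm.eq⟩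

theorem center_solvable : Group.IsSolvable (center ↥D.L) :=
  Group.isSolvable_of_comm fun a b => Subtype.ext (mem_center_iff.1 b.2 a)

theorem mk_eq_one {l : D.L} : QuotientGroup.mk' (center ↥D.L) l = 1 ↔ (l : G) ∈ c.R :=
  (QuotientGroup.eq_one_iff l).trans (D.mem_center l)

theorem mk_eq {l m : D.L} : QuotientGroup.mk' (center ↥D.L) l = QuotientGroup.mk' (center ↥D.L) m ↔
    ((l : G))⁻¹ * m ∈ c.R :=
  QuotientGroup.eq.trans (D.mem_center _)

theorem not_comm_K : ¬ IsMulCommutative D.K := fun h => D.ns <| by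
  haveI := D.center_solvable
  haveI : Group.IsSolvable D.K := Group.isSolvable_of_comm fun a b => h.is_comm.comm a b
  exact (Group.isSolvable_iff_subgroup_quotient (center ↥D.L)).2 ⟨inferInstance, this⟩

theorem isSimple_K : IsSimpleGroup D.K := by
  haveI : Nontrivial D.K := by
    rw [← not_subsingleton_iff_nontrivial]
    exact fun h => D.not_comm_K ⟨⟨fun a b => h.elim _ _⟩⟩
  refine ⟨fun N hN => ?_⟩
  set M := (N.comap (QuotientGroup.mk' (center ↥D.L))).map D.L.subtype with hM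
  have hinv : Inv D.L M := by
    rintro h hh _ ⟨x, hx, rfl⟩
    exact ⟨_, (hN.comap _).conj_mem x hx ⟨h, hh⟩, rfl⟩
  by_cases hs : Group.IsSolvable M
  · refine Or.inl (eq_bot_iff.2 fun x hx => mem_bot.2 ?_)
    obtain ⟨l, rfl⟩ := QuotientGroup.mk'_surjective _ x
    haveI := D.Ln
    exact D.mk_eq_one.2 (le_radical c.Rmax (map_subtype_le _) hinv hs ⟨l, hx, rfl⟩)
  · refine Or.inr (eq_top_iff.2 fun x _ => ?_)
    obtain ⟨l, rfl⟩ := QuotientGroup.mk'_surjective _ x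
    obtain ⟨m, hm, e⟩ := (D.min M (map_subtype_le _) hinv hs).ge l.2
    rw [← show m = l from Subtype.ext e]
    exact hm

theorem sylow : ∃ P : Sylow 2 D.L, (P : Subgroup D.L) = (c.S : Subgroup G).subgroupOf D.L :=
  haveI := D.Ln
  sylow_inf c.S le_rfl fun h hh x hx => mul_mem (mul_mem hh hx) (inv_mem hh)

theorem two_dvd_K : 2 ∣ Nat.card D.K := by
  haveI := D.center_solvable
  refine even_iff_two_dvd.1 (Nat.not_odd_iff_even.1 fun h => D.ns ?_)
  exact (Group.isSolvable_iff_subgroup_quotient (center ↥D.L)).2 ⟨inferInstance, S0205.result h⟩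

theorem exists_sylowK : ∃ S₁ : Sylow 2 D.K, ∀ l : D.L,
    QuotientGroup.mk' (center ↥D.L) l ∈ (S₁ : Subgroup D.K) ↔ (l : G) ∈ (c.S : Subgroup G) := by
  haveI : Fact (Nat.Prime 2) := ⟨Nat.prime_two⟩
  obtain ⟨P, hP⟩ := D.sylow
  refine ⟨P.mapSurjective (QuotientGroup.mk'_surjective _), fun l => ⟨fun hl => ?_, fun hl =>
    ⟨l, (SetLike.ext_iff.1 hP l).2 hl, rfl⟩⟩⟩
  obtain ⟨p, hp, e⟩ := hl
  have hq := D.mem_Q (mul_mem (inv_mem p.2) l.2) (D.mk_eq.1 e)
  have h := mul_mem (show (p : G) ∈ (c.S : Subgroup G) from (SetLike.ext_iff.1 hP p).1 hp) (c.Q_le c.S hq)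
  simpa using h

/-- An element with an involution in its coset of `O₂(G)`. -/
def Good (_D : Simp c) (x : G) : Prop := ∃ q ∈ c.Q, x * q * (x * q) = 1

theorem good_ctl {x g : G} (hxS : x ∈ (c.S : Subgroup G)) (hxR : x ∉ c.R) (hx : D.Good x)
    (hg : g * x * g⁻¹ ∈ (c.S : Subgroup G)) : g ∈ normalizer ((c.S : Subgroup G) : Set G) := by
  obtain ⟨q, hq, hxq⟩ := hx
  have key : ∀ z ∈ c.Q, x * q ≠ z := fun z hz e =>
    hxR (Q_le_R c (by rw [eq_mul_inv_of_mul_eq e]; exact mul_mem hz (inv_mem hq)))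
  refine c.ctl (orderOf_two_iff.2 ⟨hxq, key 1 (one_mem _)⟩) (key _ c.hQ.mem) (mul_mem hxS (c.Q_le _ hq)) ?_
  rw [show g * (x * q) * g⁻¹ = (g * x * g⁻¹) * (g * q * g⁻¹) by group]
  exact mul_mem hg (c.Q_le _ ((inferInstance : c.Q.Normal).conj_mem q hq g))

theorem good_congr {x y g : G} (hxL : x ∈ D.L) (hyL : y ∈ D.L) (hx : D.Good x)
    (hy : (g * x * g⁻¹)⁻¹ * y ∈ c.R) : D.Good y := by
  obtain ⟨q, hq, hxq⟩ := hx
  set z := (g * x * g⁻¹)⁻¹ * y with hz
  have hzQ : z ∈ c.Q := D.mem_Q (mul_mem (inv_mem (D.Ln.conj_mem x hxL g)) hyL) hy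
  refine ⟨z⁻¹ * (g * q * g⁻¹), mul_mem (inv_mem hzQ) ((inferInstance : c.Q.Normal).conj_mem q hq g), ?_⟩
  rw [show y * (z⁻¹ * (g * q * g⁻¹)) = g * (x * q) * g⁻¹ by rw [hz]; group,
    show g * (x * q) * g⁻¹ * (g * (x * q) * g⁻¹) = g * (x * q * (x * q)) * g⁻¹ by group, hxq, mul_one, mul_inv_cancel]

/-- All involutions of `S ∩ L` modulo the radical are good. -/
def AllGood : Prop :=
  ∀ x ∈ D.L, x ∈ (c.S : Subgroup G) → x ∉ c.R → x * x ∈ c.R → D.Good x

theorem invol_lift {S₁ : Sylow 2 D.K} (hS₁ : ∀ l : D.L,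
    QuotientGroup.mk' (center ↥D.L) l ∈ (S₁ : Subgroup D.K) ↔ (l : G) ∈ (c.S : Subgroup G)) {x : D.L}
    (hx : QuotientGroup.mk' (center ↥D.L) x ∈ (S₁ : Subgroup D.K))
    (h2 : orderOf (QuotientGroup.mk' (center ↥D.L) x) = 2) :
    (x : G) ∈ (c.S : Subgroup G) ∧ (x : G) ∉ c.R ∧ (x : G) * x ∈ c.R :=
  ⟨(hS₁ x).1 hx, fun h => ne_one_of_orderOf_two h2 (D.mk_eq_one.2 h), (D.mk_eq_one (l := x * x)).1 (by
    rw [map_mul]; exact mul_self_of_orderOf_two h2)⟩

theorem normalizer_map {S₁ : Sylow 2 D.K} (hS₁ : ∀ l : D.L,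
    QuotientGroup.mk' (center ↥D.L) l ∈ (S₁ : Subgroup D.K) ↔ (l : G) ∈ (c.S : Subgroup G)) {g : D.L}
    (hn : (g : G) ∈ normalizer ((c.S : Subgroup G) : Set G)) :
    QuotientGroup.mk' (center ↥D.L) g ∈ normalizer ((S₁ : Subgroup D.K) : Set D.K) := by
  refine mem_normalizer_iff.2 fun y => ?_
  obtain ⟨y, rfl⟩ := QuotientGroup.mk'_surjective _ y
  rw [← map_inv, ← map_mul, ← map_mul]
  exact (hS₁ y).trans ((mem_normalizer_iff.1 hn (y : G)).trans (hS₁ (g * y * g⁻¹)).symm)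

theorem ctl_K (h : D.AllGood) {S₁ : Sylow 2 D.K} (hS₁ : ∀ l : D.L,
    QuotientGroup.mk' (center ↥D.L) l ∈ (S₁ : Subgroup D.K) ↔ (l : G) ∈ (c.S : Subgroup G)) : Ctl S₁ := by
  intro t ht ht2 g hg
  obtain ⟨x, rfl⟩ := QuotientGroup.mk'_surjective _ t
  obtain ⟨g, rfl⟩ := QuotientGroup.mk'_surjective _ g
  rw [← map_inv, ← map_mul, ← map_mul] at hg
  obtain ⟨hxS, hxR, hxx⟩ := D.invol_lift hS₁ ht ht2
  exact D.normalizer_map hS₁ (D.good_ctl hxS hxR (h x x.2 hxS hxR hxx) ((hS₁ _).1 hg))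

theorem normalizer_ne_top (S₁ : Sylow 2 D.K) : normalizer ((S₁ : Subgroup D.K) : Set D.K) ≠ ⊤ := fun e => by
  haveI : Fact (Nat.Prime 2) := ⟨Nat.prime_two⟩
  haveI := D.isSimple_K
  rcases (normalizer_eq_top_iff.1 e).eq_bot_or_eq_top with e' | e'
  · exact S₁.ne_bot_of_dvd_card D.two_dvd_K e'
  · haveI : Group.IsNilpotent D.K :=
      (S₁.isPGroup'.of_equiv ((MulEquiv.subgroupCongr e').trans topEquiv)).isNilpotent
    exact D.not_comm_K ⟨⟨IsSimpleGroup.comm_iff_isSolvable.2 inferInstance⟩⟩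

theorem exists_invol : ∃ x ∈ D.L, x ∈ (c.S : Subgroup G) ∧ x ∉ c.R ∧ x * x ∈ c.R := by
  haveI : Fact (Nat.Prime 2) := ⟨Nat.prime_two⟩
  obtain ⟨S₁, hS₁⟩ := D.exists_sylowK
  obtain ⟨t, ht⟩ := exists_prime_orderOf_dvd_card' (G := (S₁ : Subgroup D.K)) 2
    (S₁.dvd_card_of_dvd_card D.two_dvd_K)
  obtain ⟨x, hx⟩ := QuotientGroup.mk'_surjective _ (t : D.K)
  exact ⟨x, x.2, D.invol_lift hS₁ (hx ▸ t.2) (by rw [hx, Subgroup.orderOf_coe, ht])⟩

theorem R_le_normalizer (h : D.AllGood) : c.R ≤ normalizer ((c.S : Subgroup G) : Set G) := by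
  intro r hr
  obtain ⟨x, hxL, hxS, hxR, hxx⟩ := D.exists_invol
  exact D.good_ctl hxS hxR (h x hxL hxS hxR hxx) (by rwa [(D.commute_R hr hxL).eq, mul_inv_cancel_right])

theorem mem_Q_of_R (h : D.AllGood) {s : G} (hs : s ∈ (c.S : Subgroup G)) (hR : s ∈ c.R) : s ∈ c.Q := by
  haveI := c.Rn
  have hn : ((c.S : Subgroup G).subgroupOf c.R).Normal :=
    ⟨fun x hx g => (mem_normalizer_iff.1 (D.R_le_normalizer h g.2) x).1 hx⟩
  have h2 : (Cfsg.pCore 2 c.R).map c.R.subtype ≤ c.Q :=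
    Grp.le_pCore inferInstance ((Grp.pCore_isPGroup (p := 2) (G := c.R)).map _)
  exact h2 ⟨⟨s, hR⟩, Grp.le_pCore hn (c.S.isPGroup'.comap_subtype) hs, rfl⟩

theorem sylow_le_sup (h : D.AllGood) : (c.S : Subgroup G) ≤ D.L ⊔ c.Q := by
  haveI : Fact (Nat.Prime 2) := ⟨Nat.prime_two⟩
  haveI := c.Rn
  haveI := D.Ln
  haveI := D.isSimple_K
  set π := QuotientGroup.mk' c.R with hπdef
  have hπ := QuotientGroup.mk'_surjective c.R
  set N := D.L.map π with hN
  haveI : N.Normal := Normal.map D.Ln π hπ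
  let φ : ↥D.L →* ↥N := π.subgroupMap D.L
  have hφs : Function.Surjective φ := π.subgroupMap_surjective D.L
  have hker : center ↥D.L = φ.ker := by
    ext l
    rw [D.mem_center, MonoidHom.mem_ker]
    exact ⟨fun e => Subtype.ext ((QuotientGroup.eq_one_iff _).2 e),
      fun e => (QuotientGroup.eq_one_iff _).1 (congrArg Subtype.val e :)⟩
  let e : D.K ≃* ↥N :=
    (QuotientGroup.quotientMulEquivOfEq hker).trans (QuotientGroup.quotientKerEquivOfSurjective φ hφs)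
  haveI hNs : IsSimpleGroup ↥N := e.symm.isSimpleGroup
  obtain ⟨S₁, hS₁⟩ := D.exists_sylowK
  have hctl := D.ctl_K h hS₁
  have hNns : ¬ Group.IsSolvable ↥N := fun hh => D.not_comm_K (by
    haveI := hh
    haveI : Group.IsSolvable D.K := Group.isSolvable_of_isSolvable_injective (f := e.toMonoidHom) e.injective
    exact ⟨⟨IsSimpleGroup.comm_iff_isSolvable.2 this⟩⟩)
  have hCN : centralizer (N : Set (G ⧸ c.R)) = ⊥ := by
    refine eq_bot_iff.2 fun x hx => mem_bot.2 ?_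
    obtain ⟨x, rfl⟩ := hπ x
    refine (QuotientGroup.eq_one_iff x).2 (D.mem_R fun l hl => commute_of_central D.perf (fun m hm => ?_) hl)
    have hL : ⁅x, m⁆ ∈ D.L := by
      rw [commutatorElement_def]
      exact mul_mem (D.Ln.conj_mem m hm x) (inv_mem hm)
    have hR : ⁅x, m⁆ ∈ c.R := (QuotientGroup.eq_one_iff _).1 (by
      show π ⁅x, m⁆ = 1
      rw [map_commutatorElement, commutatorElement_eq_one_iff_mul_comm]
      exact (mem_centralizer_iff.1 hx _ ⟨m, hm, rfl⟩).symm)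
    exact ⟨hL, fun n hn => D.commute_R hR hn⟩
  set SX := c.S.mapSurjective hπ with hSX
  obtain ⟨P, hP⟩ := D.sylow
  have htrace : (SX : Subgroup (G ⧸ c.R)).subgroupOf N = (P : Subgroup D.L).map φ := by
    refine (P.mapSurjective hφs).3 SX.isPGroup'.comap_subtype ?_
    rintro _ ⟨y, hy, rfl⟩
    exact ⟨y, (SetLike.ext_iff.1 hP y).1 hy, rfl⟩
  have hpull : ∀ g : G, π g ∈ (SX : Subgroup (G ⧸ c.R)) → π g ∈ N →
      ∃ p ∈ D.L, p ∈ (c.S : Subgroup G) ∧ p⁻¹ * g ∈ c.R := fun g hgS hgN => by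
    obtain ⟨p, hp, ep⟩ := htrace.le (show (⟨_, hgN⟩ : N) ∈ (SX : Subgroup (G ⧸ c.R)).subgroupOf N from hgS)
    exact ⟨p, p.2, (SetLike.ext_iff.1 hP p).1 hp, QuotientGroup.eq.1 (congrArg Subtype.val ep :)⟩
  have hodd : Odd N.index := by
    rcases CentRank.Cyc.torus_or_odd (fourUnique_of_ctl hctl) D.not_comm_K
      (models_of_ctl D.not_comm_K hctl D.two_dvd_K).concl with hT | hO
    · refine odd_index_of_torus N hNns hCN (fun Q => ?_) SX ?_
      · obtain ⟨ψ, hψ⟩ := CentRank.exists_iso_sylow e S₁ Q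
        exact hψ ▸ (hT S₁).map ψ
      · rintro _ ⟨l, hl, rfl⟩ hlS
        obtain ⟨x, hxL, hxS, hxR, hxx⟩ := D.exists_invol
        have h1 := hlS (π x) ⟨⟨x, hxS, rfl⟩, ⟨x, hxL, rfl⟩⟩
        rw [← map_inv, ← map_mul, ← map_mul] at h1
        obtain ⟨p, hpL, hpS, hpR⟩ := hpull _ h1.1 h1.2
        have hlx : l * x * l⁻¹ ∈ (c.S : Subgroup G) := by
          have h2 := mul_mem hpS (c.Q_le c.S (D.mem_Q (mul_mem (inv_mem hpL) (D.Ln.conj_mem x hxL l)) hpR))
          simpa using h2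
        exact Subgroup.le_normalizer_map π ⟨l, D.good_ctl hxS hxR (h x hxL hxS hxR hxx) hlx, rfl⟩
    · exact hO.of_dvd_nat (by
        have := index_dvd_card_out N hCN
        rwa [← Nat.card_congr (QuotientGroup.congr (Cfsg.Inn D.K) (Cfsg.Inn N) (MulAut.congr e) ?_).toEquiv] at this
        ext x
        constructor
        · rintro ⟨_, ⟨g, rfl⟩, rfl⟩
          exact ⟨e g, MulEquiv.ext fun y => by simp⟩
        · rintro ⟨g, rfl⟩
          refine ⟨MulAut.conj (e.symm g), ⟨_, rfl⟩, MulEquiv.ext fun y => ?_⟩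
          simp)
  intro s hs
  have hsN : π s ∈ N := by
    obtain ⟨k, hk⟩ := c.S.isPGroup' ⟨s, hs⟩
    have hk' : s ^ 2 ^ k = 1 := congrArg Subtype.val hk
    have h2 : orderOf (QuotientGroup.mk' N (π s)) ∣ 2 ^ k :=
      orderOf_dvd_of_pow_eq_one (by rw [← map_pow, ← map_pow, hk', map_one, map_one])
    have h3 : orderOf (QuotientGroup.mk' N (π s)) ∣ N.index := index_eq_card N ▸ orderOf_dvd_natCard _
    exact (QuotientGroup.eq_one_iff _).1 (orderOf_eq_one_iff.1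
      (Nat.eq_one_of_dvd_coprimes (Nat.Coprime.pow_left k (Nat.coprime_two_left.2 hodd)) h2 h3))
  obtain ⟨p, hpL, hpS, hpR⟩ := hpull s ⟨s, hs, rfl⟩ hsN
  rw [show s = p * (p⁻¹ * s) by group]
  exact mul_mem (mem_sup_left hpL) (mem_sup_right (D.mem_Q_of_R h (mul_mem (inv_mem hpS) hs) hpR))

end Simp

end Cfsg.Agent.Invol.RankOneInter
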