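import Cfsg.Agent.Lib.Invol.RankOneInter.Simple
import Cfsg.Agent.Lib.Invol.BenderCover.Main
import Cfsg.Agent.Lib.Invol.CentRank.Local
import Cfsg.Agent.Lib.Invol.CentRank.Fusion
import Cfsg.Agent.Lib.Invol.CentRank.Central

/-!
# All involutions good: a Bender group over `O₂(G)`

If `O₂(G)` is cyclic the Sylow intersections are cyclic; otherwise it is quaternion and `G` has 2-rank at least
three.
-/

set_option autoImplicit false
set_option linter.style.haveILetI false
set_option linter.unusedSectionVars false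

open Subgroup
open scoped commutatorElement

namespace Cfsg.Agent.Invol.RankOneInter

universe u

variable {G : Type u} [Group G] [Finite G]

/-- The first alternative of the conclusion, for trivial odd core, with an elementary subgroup of order eight. -/
def ConclOne (G : Type u) [Group G] : Prop :=
  ∃ (G₁ : Subgroup G) (_ : G₁.Normal) (_ : ((Cfsg.pCore 2 G).subgroupOf G₁).Normal),
    Odd G₁.index ∧ Cfsg.pCore 2 G ≤ G₁ ∧
      (∃ n : ℕ, Nonempty (↥(Cfsg.pCore 2 G) ≃* QuaternionGroup (2 ^ (n + 1)))) ∧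
      ¬ Cfsg.PRankLE 2 2 G ∧ Models (↥G₁ ⧸ (Cfsg.pCore 2 G).subgroupOf G₁)

/-- Three commuting involutions generating eight elements bound the rank from below. -/
theorem not_pRankLE_two {a b d : G} (ha : a * a = 1) (hb : b * b = 1) (hd : d * d = 1) (hab : Commute a b)
    (had : Commute a d) (hbd : Commute b d) (ha1 : a ≠ 1) (hb' : b ∉ zpowers a)
    (hd' : d ∉ zpowers a ⊔ zpowers b) : ¬ Cfsg.PRankLE 2 2 G := by
  haveI : Fact (Nat.Prime 2) := ⟨Nat.prime_two⟩
  intro h
  set E := Subgroup.closure ({a, b, d} : Set G) with hE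
  have hgen : ∀ x ∈ ({a, b, d} : Set G), ∀ y ∈ ({a, b, d} : Set G), x * y = y * x := by
    rintro x (rfl | rfl | rfl) y (rfl | rfl | rfl) <;>
      first | rfl | exact hab.eq | exact hab.symm.eq | exact had.eq | exact had.symm.eq | exact hbd.eq |
        exact hbd.symm.eq
  have hcomm : IsMulCommutative E := Subgroup.isMulCommutative_closure hgen
  have h2 : ∀ x ∈ E, x ^ 2 = 1 := by
    intro x hx
    induction hx using Subgroup.closure_induction with
    | mem y hy => rcases hy with rfl | rfl | rfl <;> rwa [pow_two]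
    | one => rw [one_pow]
    | mul y z hy hz iy iz =>
      rw [(show Commute y z from congrArg Subtype.val (hcomm.is_comm.comm ⟨y, hy⟩ ⟨z, hz⟩)).mul_pow, iy, iz,
        one_mul]
    | inv y _ iy => rw [inv_pow, iy, inv_one]
  have hcard := h E hcomm h2
  have haE : zpowers a ≤ E := zpowers_le.2 (subset_closure (Or.inl rfl))
  have habE : zpowers a ⊔ zpowers b ≤ E :=
    sup_le haE (zpowers_le.2 (subset_closure (Or.inr (Or.inl rfl))))
  have c1 : Nat.card (zpowers a) = 2 := by rw [Nat.card_zpowers]; exact orderOf_two_iff.2 ⟨ha, ha1⟩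
  obtain ⟨k₁, hk₁⟩ := (show IsPGroup 2 E from fun x => ⟨1, Subtype.ext (by simpa using h2 x x.2)⟩).to_le
    habE |>.exists_card_eq
  obtain ⟨k₂, hk₂⟩ := (show IsPGroup 2 E from fun x => ⟨1, Subtype.ext (by simpa using h2 x x.2)⟩).exists_card_eq
  have c2 : Nat.card (zpowers a) < Nat.card ↥(zpowers a ⊔ zpowers b) := by
    refine lt_of_le_of_ne (card_le_of_le le_sup_left) fun e => hb' ?_
    rw [eq_of_le_of_card_ge le_sup_left e.ge]
    exact mem_sup_right (mem_zpowers b)
  have c3 : Nat.card ↥(zpowers a ⊔ zpowers b) < Nat.card E := by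
    refine lt_of_le_of_ne (card_le_of_le habE) fun e => hd' ?_
    rw [eq_of_le_of_card_ge habE e.ge]
    exact subset_closure (Or.inr (Or.inr rfl))
  have d2 : (2 : ℕ) ^ 1 < 2 ^ k₁ := by rw [pow_one, ← hk₁, ← c1]; exact c2
  have d3 : (2 : ℕ) ^ k₁ < 2 ^ k₂ := by rw [← hk₁, ← hk₂]; exact c3
  rw [Nat.pow_lt_pow_iff_right one_lt_two] at d2 d3
  rw [hk₂, Nat.pow_le_pow_iff_right one_lt_two] at hcard
  omega

namespace Simp

variable {c : Cfg G} (D : Simp c)
include D

theorem isBender_K (h : D.AllGood) : CentInt.IsBenderGrp D.K := by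
  haveI : Fact (Nat.Prime 2) := ⟨Nat.prime_two⟩
  haveI := D.isSimple_K
  obtain ⟨S₁, hS₁⟩ := D.exists_sylowK
  have hctl := D.ctl_K h hS₁
  refine isBenderGrp_of_ctl hctl D.two_dvd_K ?_ ?_ ?_
  · haveI : (Cfsg.pCore 2 D.K).Normal := inferInstance
    refine (Normal.eq_bot_or_eq_top inferInstance).resolve_right fun e => D.normalizer_ne_top S₁ ?_
    rw [show (S₁ : Subgroup D.K) = ⊤ from eq_top_iff.2 (e.ge.trans (Grp.pCore_le_sylow S₁)), normalizer_eq_top_iff]
    infer_instance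
  · haveI : (Cfsg.pPrimeCore 2 D.K).Normal := Grp.pPrimeCore_isNormal
    refine (Normal.eq_bot_or_eq_top inferInstance).resolve_right fun e => ?_
    have h1 := Grp.pPrimeCore_not_dvd (p := 2) (G := D.K)
    rw [e, card_top] at h1
    exact h1 D.two_dvd_K
  · obtain ⟨t, ht⟩ := exists_prime_orderOf_dvd_card' (G := D.K) 2 D.two_dvd_K
    set C := Cfsg.pElementClosure 2 (⊤ : Subgroup D.K) with hC
    haveI hCn : C.Normal := by
      refine ⟨fun x hx g => ?_⟩
      rw [hC, Cfsg.pElementClosure] at hx ⊢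
      induction hx using Subgroup.closure_induction with
      | mem y hy =>
        obtain ⟨-, k, hk⟩ := hy
        exact subset_closure ⟨mem_top _, k, by rw [orderOf_conj_eq, hk]⟩
      | one => simp
      | mul y z _ _ hy hz =>
        rw [show g * (y * z) * g⁻¹ = g * y * g⁻¹ * (g * z * g⁻¹) by group]; exact mul_mem hy hz
      | inv y _ hy => rw [show g * y⁻¹ * g⁻¹ = (g * y * g⁻¹)⁻¹ by group]; exact inv_mem hy
    refine hCn.eq_bot_or_eq_top.resolve_left fun e => ne_one_of_orderOf_two ht (mem_bot.1 (e ▸ ?_))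
    rw [hC, Cfsg.pElementClosure]
    exact subset_closure ⟨mem_top _, 1, by rw [ht, pow_one]⟩

theorem not_pRankLE (h : D.AllGood) (hn : ¬ ∀ x y : c.Q, Commute x y) : ¬ Cfsg.PRankLE 2 2 G := by
  haveI : Fact (Nat.Prime 2) := ⟨Nat.prime_two⟩
  obtain ⟨S₁, hS₁⟩ := D.exists_sylowK
  have hctl := D.ctl_K h hS₁
  obtain ⟨htor, -, a, ha, b, hb, ha2, hb2, hab⟩ :=
    CentRank.torus_at (BenderCover.torusSylow_bender (D.isBender_K h)) S₁
  have habc : Commute a b := (htor a ha (mul_self_of_orderOf_two ha2) b hb).symm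
  have hab2 : orderOf (a * b) = 2 := orderOf_two_iff.2 ⟨by
    rw [habc.symm.mul_mul_mul_comm, mul_self_of_orderOf_two ha2, mul_self_of_orderOf_two hb2, one_mul],
    fun e => hab (by rw [eq_inv_of_mul_eq_one_left e, inv_of_orderOf_two hb2])⟩
  obtain ⟨x, rfl⟩ := QuotientGroup.mk'_surjective _ a
  obtain ⟨y, rfl⟩ := QuotientGroup.mk'_surjective _ b
  set π := QuotientGroup.mk' (center ↥D.L)
  obtain ⟨hxS, hxR, hxx⟩ := D.invol_lift hS₁ ha ha2
  obtain ⟨hyS, hyR, hyy⟩ := D.invol_lift hS₁ hb hb2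
  obtain ⟨-, hxyR, hxy⟩ := D.invol_lift hS₁ (x := x * y) (by rw [map_mul]; exact mul_mem ha hb)
    (by rw [map_mul]; exact hab2)
  -- squares are central elements of `O₂(G)`
  have hZ : ∀ z : G, z ∈ D.L → z ∈ c.R → z = 1 ∨ z = c.u := fun z hzL hzR => by
    have hzQ := D.mem_Q hzL hzR
    rcases c.hQ.oneInv.center_le hn (z := ⟨z, hzQ⟩)
      (fun q => Subtype.ext (D.commute_Q q.2 hzL).symm.eq) with e | e
    · exact Or.inl (congrArg Subtype.val e)
    · exact Or.inr (congrArg Subtype.val e)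
  have hsame : ∀ v w : D.L, orderOf (π v) = 2 → orderOf (π w) = 2 → (v : G) * v ∈ c.R → (w : G) * w = v * v := by
    intro v w hv hw hvv
    obtain ⟨k, hk⟩ := isConj_iff.1 (isConj_of_ctl hctl (D.normalizer_ne_top S₁) hv hw)
    obtain ⟨g, rfl⟩ := QuotientGroup.mk'_surjective _ k
    rw [← map_inv, ← map_mul, ← map_mul] at hk
    have hz := D.mk_eq.1 hk
    set z := (g * v * g⁻¹ : D.L)⁻¹ * w with hzdef
    have hz2 : (z : G) * z = 1 := by
      rcases hZ _ z.2 (by simpa [hzdef] using hz) with e | e <;> rw [e] <;> [exact one_mul 1; exact c.uu]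
    have hzc : ∀ l : D.L, Commute (z : G) l := fun l =>
      D.commute_R (by simpa [hzdef] using hz) l.2
    have e : (w : G) = ((g * v * g⁻¹ : D.L) : G) * z := by
      rw [← Subgroup.coe_mul, hzdef, mul_inv_cancel_left]
    rw [e, (hzc _).mul_mul_mul_comm, hz2, mul_one]
    show (g : G) * v * (g : G)⁻¹ * ((g : G) * v * (g : G)⁻¹) = v * v
    rw [show (g : G) * v * (g : G)⁻¹ * ((g : G) * v * (g : G)⁻¹) = g * ((v : G) * v) * (g : G)⁻¹ by group,
      ← (D.commute_R hvv g.2).eq, mul_inv_cancel_right]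
  have hy' : (y : G) * y = x * x := hsame x y ha2 hb2 hxx
  have hxy' : (x : G) * y * (x * y) = x * x := hsame x (x * y) ha2 (by rw [map_mul]; exact hab2) hxx
  have hd : ∀ {v q : G}, v ∉ c.R → q ∈ c.Q → v * q ∉ c.R := fun {v q} hv hq e =>
    hv (by simpa using mul_mem e (inv_mem (Q_le_R c hq)))
  haveI hnorm : (zpowers c.u).Normal := ⟨fun z hz g => by
    obtain ⟨i, rfl⟩ := mem_zpowers_iff.1 hz
    rw [((c.ucen g).zpow_right i).eq, mul_inv_cancel_right]
    exact zpow_mem (mem_zpowers _) i⟩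
  have key : ∀ q q' : G, q ∈ c.Q → q' ∈ c.Q → (x : G) * q * (x * q) = 1 → (y : G) * q' * (y * q') = 1 →
      (x : G) * q * (y * q') * (x * q * (y * q')) = 1 → ¬ Cfsg.PRankLE 2 2 G := by
    intro q q' hq hq' h1 h2 h3
    have hzu : ∀ z ∈ zpowers c.u, z ∈ c.R := fun z hz =>
      Q_le_R c (zpowers_le.2 c.hQ.mem hz)
    have hc : Commute ((x : G) * q) (y * q') := by
      have e1 := inv_eq_of_mul_eq_one_right h1
      have e2 := inv_eq_of_mul_eq_one_right h2
      have e3 := inv_eq_of_mul_eq_one_right h3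
      rw [mul_inv_rev, e1, e2] at e3
      exact e3.symm
    refine not_pRankLE_two c.uu h1 h2 (c.ucen _).symm (c.ucen _).symm hc c.u_ne
      (fun e => hd hxR hq (hzu _ e)) fun e => ?_
    obtain ⟨m, hm, n, hn', e'⟩ := (Subgroup.mem_sup_of_normal_left (s := zpowers c.u)).1 e
    rcases CentRank.eq_or_of_mem_zpowers (orderOf_two_iff.2 ⟨h1, fun h => hd hxR hq (h ▸ one_mem c.R)⟩) hn'
      with rfl | rfl
    · rw [mul_one] at e'
      exact hd hyR hq' (e' ▸ hzu m hm)
    · have hmem : (x : G) * q * (y * q') ∈ c.R := by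
        rw [← e', ← mul_assoc, ← (show Commute m ((x : G) * q) from ?_).eq, mul_assoc, h1, mul_one]
        · exact hzu m hm
        · obtain ⟨i, rfl⟩ := mem_zpowers_iff.1 hm
          exact ((c.ucen _).zpow_right i).symm
      refine hd hxyR (mul_mem hq hq') ?_
      rw [show ((x * y : D.L) : G) * (q * q') = (x : G) * (y * q) * q' by
        rw [Subgroup.coe_mul]; group, ← (D.commute_Q hq y.2).eq]
      rwa [show (x : G) * (q * y) * q' = (x : G) * q * (y * q') by group]
  rcases hZ _ (mul_mem x.2 x.2) hxx with hs | hs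
  · refine key 1 1 (one_mem _) (one_mem _) ?_ ?_ ?_ <;> simp only [mul_one]
    · exact hs
    · exact hy'.trans hs
    · exact hxy'.trans hs
  · obtain ⟨r, hr4, hidx, hinv⟩ := c.hQ.oneInv.shape_of_noncomm hn
    obtain ⟨p, hp⟩ : ∃ p, p ∉ zpowers r := by
      by_contra hall
      push Not at hall
      rw [show zpowers r = ⊤ from eq_top_iff.2 fun x _ => hall x, index_top] at hidx
      omega
    obtain ⟨p', hp'2, hp'c⟩ := c.hQ.oneInv.exists_anti hn (hinv p hp).2
    have e1 : (p : G) * p = c.u := congrArg Subtype.val (hinv p hp).2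
    have e2 : (p' : G) * p' = c.u := congrArg Subtype.val hp'2
    have e3 : (p' : G) * p = p * p' * c.u := congrArg Subtype.val hp'c
    have f1 : (x : G) * p * (x * p) = 1 := by
      rw [(D.commute_Q p.2 x.2).mul_mul_mul_comm, hs, e1, c.uu]
    have f2 : (y : G) * p' * (y * p') = 1 := by
      rw [(D.commute_Q p'.2 y.2).mul_mul_mul_comm, hy', hs, e2, c.uu]
    refine key p p' p.2 p'.2 f1 f2 ?_
    have f3 : (x : G) * p * (y * p') = (x * y) * (p * p') := (D.commute_Q p.2 y.2).mul_mul_mul_comm _ _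
    rw [f3, (D.commute_Q (mul_mem p.2 p'.2) (mul_mem x.2 y.2)).mul_mul_mul_comm, hxy', hs,
      show (p : G) * p' * (p * p') = p * (p' * p) * p' by group, e3,
      show (p : G) * (p * p' * c.u) * p' = (p * p) * (p' * c.u * p') by group, e1, (c.ucen p').eq,
      mul_assoc c.u, e2, c.uu, mul_one, c.uu]

theorem concl_one (h : D.AllGood) (hn : ¬ ∀ x y : c.Q, Commute x y) : ConclOne G := by
  haveI : Fact (Nat.Prime 2) := ⟨Nat.prime_two⟩
  haveI := D.Ln
  haveI := D.isSimple_K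
  set G₁ := D.L ⊔ c.Q with hG₁
  haveI hn₁ : (c.Q.subgroupOf G₁).Normal := ⟨fun x hx g =>
    (inferInstance : c.Q.Normal).conj_mem _ hx (g : G)⟩
  obtain ⟨n, hq⟩ := quaternion_of_oneInv c.hQ.oneInv hn
  obtain ⟨S₁, hS₁⟩ := D.exists_sylowK
  refine ⟨G₁, inferInstance, hn₁, Nat.not_even_iff_odd.1 fun he => c.S.not_dvd_index
    ((even_iff_two_dvd.1 he).trans (index_dvd_of_le (D.sylow_le_sup h))), le_sup_right, ⟨n, hq⟩,
    D.not_pRankLE h hn, ?_⟩
  let φ : ↥D.L →* ↥G₁ ⧸ c.Q.subgroupOf G₁ :=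
    (QuotientGroup.mk' (c.Q.subgroupOf G₁)).comp (Subgroup.inclusion (le_sup_left : D.L ≤ G₁))
  have hφ : Function.Surjective φ := fun z => by
    obtain ⟨g, rfl⟩ := QuotientGroup.mk'_surjective _ z
    obtain ⟨l, hl, q, hq, e⟩ := mem_sup_of_normal_right.1 g.2
    refine ⟨⟨l, hl⟩, QuotientGroup.eq.2 (mem_subgroupOf.2 ?_)⟩
    show l⁻¹ * (g : G) ∈ c.Q
    rw [← e, inv_mul_cancel_left]
    exact hq
  have hker : center ↥D.L = φ.ker := by
    ext l
    rw [D.mem_center, MonoidHom.mem_ker]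
    refine Iff.trans ?_ (QuotientGroup.eq_one_iff _).symm
    exact ⟨fun hl => D.mem_Q l.2 hl, fun hl => Q_le_R c hl⟩
  exact (models_of_ctl D.not_comm_K (D.ctl_K h hS₁) D.two_dvd_K).congr
    ((QuotientGroup.quotientMulEquivOfEq hker).trans (QuotientGroup.quotientKerEquivOfSurjective φ hφ))

/-- With `O₂(G)` cyclic the intersections are cyclic. -/
theorem isCyclic_inf (h : D.AllGood) (hc : ∀ x y : c.Q, Commute x y) {T : Sylow 2 G} (hT : c.S ≠ T) :
    IsCyclic ↥((c.S : Subgroup G) ⊓ (T : Subgroup G)) := by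
  haveI : Fact (Nat.Prime 2) := ⟨Nat.prime_two⟩
  haveI := isCyclic_of_comm c.hQ.oneInv hc
  refine CentRank.Cyc.isCyclic_of_le (K := c.Q) inferInstance fun w hw => ?_
  obtain ⟨g, hg⟩ := MulAction.exists_smul_eq G c.S T
  obtain ⟨x, hxL, q, hq, e⟩ := mem_sup_of_normal_right.1 (D.sylow_le_sup h hw.1)
  have hxS : x ∈ (c.S : Subgroup G) := by
    rw [eq_mul_inv_of_mul_eq e]; exact mul_mem hw.1 (inv_mem (c.Q_le _ hq))
  have hxT : x ∈ (T : Subgroup G) := by
    rw [eq_mul_inv_of_mul_eq e]; exact mul_mem hw.2 (inv_mem (c.Q_le _ hq))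
  by_contra hwQ
  have hxR : x ∉ c.R := fun hR => hwQ (by rw [← e]; exact mul_mem (D.mem_Q hxL hR) hq)
  classical
  obtain ⟨k, hk⟩ := c.S.isPGroup' ⟨x, hxS⟩
  have hk' : x ^ 2 ^ k = 1 := congrArg Subtype.val hk
  have hex : ∃ i, x ^ 2 ^ i ∈ c.R := ⟨k, by rw [hk']; exact one_mem _⟩
  obtain ⟨i, hi⟩ : ∃ i, Nat.find hex = i + 1 := ⟨Nat.find hex - 1, by
    have : Nat.find hex ≠ 0 := fun e => hxR (by simpa [e] using Nat.find_spec hex)
    omega⟩
  set y := x ^ 2 ^ i with hy
  have hyR : y ∉ c.R := Nat.find_min hex (by omega)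
  have hyy : y * y ∈ c.R := by
    rw [hy, ← pow_add, ← two_mul, ← pow_succ', ← hi]
    exact Nat.find_spec hex
  have hyT : g⁻¹ * y * g ∈ (c.S : Subgroup G) := CentRank.mem_smul_sylow.1 (hg.symm ▸ pow_mem hxT _)
  have hn := D.good_ctl (g := g⁻¹) (pow_mem hxS _) hyR (h y (pow_mem hxL _) (pow_mem hxS _) hyR hyy)
    (by rwa [inv_inv])
  refine hT ?_
  rw [← hg, Sylow.smul_eq_iff_mem_normalizer.2 (by simpa using inv_mem hn)]

end Simp

end Cfsg.Agent.Invol.RankOneInter
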