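import Cfsg.Agent.Lib.Invol.RankOneInter.Tools
import Cfsg.Agent.Lib.Invol.QuasiDihedral
import Cfsg.Agent.Lib.Invol.QuasiDihedralKernel
import Cfsg.Agent.S3762

/-!
# The structure of `S ∩ L`

Either all involutions modulo the radical are good, or `O₂(G) = ⟨u⟩` and `S ∩ L` is quaternion or extraspecial.
-/

set_option autoImplicit false
set_option linter.style.haveILetI false
set_option linter.unusedSectionVars false

open Subgroup
open scoped commutatorElement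

namespace Cfsg.Agent.Invol.RankOneInter

universe u

variable {G : Type u} [Group G] [Finite G]

theorem Cfg.root_or_small (c : Cfg G) : (∀ q ∈ c.Q, q = 1 ∨ q = c.u) ∨ ∃ r ∈ c.Q, r * r = c.u := by
  classical
  by_cases h : ∀ q ∈ c.Q, q = 1 ∨ q = c.u
  · exact Or.inl h
  push Not at h
  obtain ⟨q, hq, hne1, hne2⟩ := h
  obtain ⟨k, hk⟩ := c.hQ.pgroup ⟨q, hq⟩
  have hk' : q ^ 2 ^ k = 1 := congrArg Subtype.val hk
  have hex : ∃ i, q ^ 2 ^ i = 1 := ⟨k, hk'⟩
  obtain ⟨i, hi⟩ : ∃ i, Nat.find hex = i + 2 := by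
    refine ⟨Nat.find hex - 2, ?_⟩
    have h0 : Nat.find hex ≠ 0 := fun e => hne1 (by simpa [e] using Nat.find_spec hex)
    have h1 : Nat.find hex ≠ 1 := fun e => by
      have := Nat.find_spec hex
      rw [e, pow_one, pow_two] at this
      exact (c.hQ.uniq q hq this).elim hne1 hne2
    omega
  refine Or.inr ⟨q ^ 2 ^ i, pow_mem hq _, ?_⟩
  have h1 : (q ^ 2 ^ i * q ^ 2 ^ i) * (q ^ 2 ^ i * q ^ 2 ^ i) = 1 := by
    rw [← pow_add, ← pow_add, show 2 ^ i + 2 ^ i + (2 ^ i + 2 ^ i) = 2 ^ (i + 2) by ring, ← hi]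
    exact Nat.find_spec hex
  refine (c.hQ.uniq _ (mul_mem (pow_mem hq _) (pow_mem hq _)) h1).resolve_left fun e =>
    Nat.find_min hex (show i + 1 < _ by omega) ?_
  rw [pow_succ, pow_mul, pow_two, e]

/-- What is used about a dihedral, quaternion or quasi-dihedral group of order at least sixteen. -/
theorem exists_cyclic_data {R : Type*} [Group R] [Finite R] (h16 : 16 ≤ Nat.card R)
    (h : (∃ m : ℕ, Nonempty (R ≃* DihedralGroup m)) ∨ (∃ m : ℕ, Nonempty (R ≃* QuaternionGroup m)) ∨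
      Cfsg.IsQuasiDihedral R) :
    ∃ a x : R, (zpowers a).index = 2 ∧ x ∉ zpowers a ∧ x * (a * a) * x⁻¹ = (a * a)⁻¹ ∧ a * a * (a * a) ≠ 1 ∧
      (x * x = 1 ∨ (x * x ≠ 1 ∧ x * x * (x * x) = 1 ∧ (∀ y, Commute (x * x) y) ∧ ∀ r : R, r * r = 1 → r = 1 ∨ r = x * x)) := by
  haveI : Fact (Nat.Prime 2) := ⟨Nat.prime_two⟩
  have hidx : ∀ a : R, orderOf a * 2 = Nat.card R → (zpowers a).index = 2 := fun a ha => by
    have h1 := (zpowers a).card_mul_index
    rw [Nat.card_zpowers, ← ha] at h1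
    exact Nat.eq_of_mul_eq_mul_left (orderOf_pos a) h1
  have hfour : ∀ a : R, orderOf a * 2 = Nat.card R → a * a * (a * a) ≠ 1 := fun a ha e => by
    have h1 : orderOf a ∣ 4 := orderOf_dvd_of_pow_eq_one (by
      rw [show 4 = 2 * 2 from rfl, pow_mul, pow_two, pow_two, e])
    have := Nat.le_of_dvd four_pos h1
    omega
  have hinv : ∀ a x : R, x * a * x⁻¹ = a⁻¹ → x * (a * a) * x⁻¹ = (a * a)⁻¹ := fun a x e => by
    rw [mul_inv_rev, ← e]; group
  have hout : ∀ a x : R, a * a * (a * a) ≠ 1 → x * (a * a) * x⁻¹ = (a * a)⁻¹ → x ∉ zpowers a := by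
    intro a x h4 e hx
    obtain ⟨i, rfl⟩ := mem_zpowers_iff.1 hx
    rw [((Commute.zpow_self a i).mul_right (Commute.zpow_self a i)).mul_inv_cancel] at e
    exact h4 (mul_eq_one_iff_eq_inv.2 e)
  rcases h with ⟨m, ⟨e⟩⟩ | ⟨m, ⟨e⟩⟩ | hqd
  · have hc : Nat.card R = 2 * m := (Nat.card_congr e.toEquiv).trans DihedralGroup.nat_card
    haveI : NeZero m := ⟨by omega⟩
    have ho : orderOf (e.symm (DihedralGroup.r 1)) * 2 = Nat.card R := by
      rw [MulEquiv.orderOf_eq, DihedralGroup.orderOf_r_one, hc, mul_comm]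
    refine ⟨_, e.symm (DihedralGroup.sr 0), hidx _ ho, ?_, ?_, hfour _ ho, Or.inl ?_⟩
    · exact hout _ _ (hfour _ ho) (hinv _ _ (e.injective (by simp)))
    · exact hinv _ _ (e.injective (by simp))
    · exact e.injective (by simp)
  · by_cases hm : m = 0
    · subst hm
      haveI := Finite.of_equiv R e.toEquiv
      exact (Int.infinite.not_finite (Finite.of_injective (fun i : ℤ => QuaternionGroup.a (n := 0) i)
        fun a b h => QuaternionGroup.a.inj h)).elim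
    haveI : NeZero m := ⟨hm⟩
    have hc : Nat.card R = 4 * m := by
      rw [Nat.card_congr e.toEquiv, Nat.card_eq_fintype_card, QuaternionGroup.card]
    have ho : orderOf (e.symm (QuaternionGroup.a 1)) * 2 = Nat.card R := by
      rw [MulEquiv.orderOf_eq, QuaternionGroup.orderOf_a_one, hc]; ring
    have hconj : e.symm (QuaternionGroup.xa 0) * e.symm (QuaternionGroup.a 1) * (e.symm (QuaternionGroup.xa 0))⁻¹ =
        (e.symm (QuaternionGroup.a 1))⁻¹ := by
      rw [mul_inv_eq_iff_eq_mul, eq_inv_mul_iff_mul_eq]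
      refine e.injective ?_
      simp [QuaternionGroup.a_mul_xa, QuaternionGroup.xa_mul_a]
    have hxx : e (e.symm (QuaternionGroup.xa 0) * e.symm (QuaternionGroup.xa 0)) =
        QuaternionGroup.a (m : ZMod (2 * m)) := by simp [QuaternionGroup.xa_mul_xa]
    have hne : e.symm (QuaternionGroup.xa 0) * e.symm (QuaternionGroup.xa 0) ≠ 1 := fun h => by
      rw [h, map_one, QuaternionGroup.one_def] at hxx
      have h0 := congrArg ZMod.val (QuaternionGroup.a.inj hxx)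
      rw [ZMod.val_zero, ZMod.val_natCast, Nat.mod_eq_of_lt (by omega)] at h0
      omega
    refine ⟨_, e.symm (QuaternionGroup.xa 0), hidx _ ho, hout _ _ (hfour _ ho) (hinv _ _ hconj), hinv _ _ hconj,
      hfour _ ho, Or.inr ⟨hne, e.injective ?_, fun y => e.injective ?_, fun r hr => ?_⟩⟩
    · rw [map_mul e _ (_ * _), hxx, map_one, QuaternionGroup.a_mul_a, ← Nat.cast_add, ← two_mul,
        ZMod.natCast_self, QuaternionGroup.one_def]
    · rw [map_mul e _ y, map_mul e y, hxx]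
      have hneg : -(m : ZMod (2 * m)) = m := by
        rw [neg_eq_iff_add_eq_zero, ← Nat.cast_add, ← two_mul, ZMod.natCast_self]
      rcases e y with i | i
      · simp [QuaternionGroup.a_mul_a, add_comm]
      · simp only [QuaternionGroup.a_mul_xa, QuaternionGroup.xa_mul_a]
        rw [sub_eq_add_neg, hneg]
    · rcases BS.quaternion_sq_one (x := e r) (by rw [pow_two, ← map_mul, hr, map_one]) with h1 | h1
      · exact Or.inl (e.injective (h1.trans (map_one e).symm))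
      · exact Or.inr (e.injective (h1.trans hxx.symm))
  · obtain ⟨n, x, y, hQ⟩ := Invol.exists_qd hqd
    have hn := hQ.hn
    have ho : orderOf x * 2 = Nat.card R := by rw [hQ.ox, hQ.card, pow_succ]
    have e : y * (x * x) * y⁻¹ = (x * x)⁻¹ := by
      rw [eq_inv_iff_mul_eq_one, show y * (x * x) * y⁻¹ = (y * x * y⁻¹) * (y * x * y⁻¹) by group, hQ.conj,
        ← pow_add, ← pow_two, ← pow_add]
      have h1 : 2 ^ (n - 1) + 2 ^ (n - 1) = 2 ^ n := by
        rw [← two_mul, ← pow_succ']; congr 1; omega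
      have h2 : 1 ≤ 2 ^ (n - 1) := Nat.one_le_two_pow
      rw [show 2 ^ (n - 1) - 1 + (2 ^ (n - 1) - 1) + 2 = 2 ^ n by omega, ← hQ.ox, pow_orderOf_eq_one]
    exact ⟨x, y, hidx _ ho, hout _ _ (hfour _ ho) e, e, hfour _ ho, Or.inl (mul_self_of_orderOf_two hQ.oy)⟩

namespace Simp

variable {c : Cfg G} (D : Simp c)
include D

/-- `S ∩ L` is quaternion and `O₂(G)` has order two. -/
def Quat : Prop :=
  (∀ q ∈ c.Q, q = 1 ∨ q = c.u) ∧ c.u ∈ D.L ∧ OneInvOn ((c.S : Subgroup G) ⊓ D.L) c.u ∧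
    ¬ ∀ x y : ↥((c.S : Subgroup G) ⊓ D.L), Commute x y

/-- `S ∩ L` is extraspecial and `O₂(G)` has order two. -/
def Extra : Prop :=
  (∀ q ∈ c.Q, q = 1 ∨ q = c.u) ∧ c.u ∈ D.L ∧
    (∀ x ∈ (c.S : Subgroup G) ⊓ D.L, x * x = 1 ∨ x * x = c.u) ∧
    (∀ x ∈ (c.S : Subgroup G) ⊓ D.L, ∀ y ∈ (c.S : Subgroup G) ⊓ D.L, ⁅x, y⁆ = 1 ∨ ⁅x, y⁆ = c.u) ∧
    (∀ z ∈ (c.S : Subgroup G) ⊓ D.L, (∀ y ∈ (c.S : Subgroup G) ⊓ D.L, Commute z y) → z = 1 ∨ z = c.u) ∧
    ∃ t ∈ (c.S : Subgroup G) ⊓ D.L, t * t = 1 ∧ t ≠ 1 ∧ t ≠ c.u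

theorem small_R (hQ : ∀ q ∈ c.Q, q = 1 ∨ q = c.u) {r : G} (hr : r ∈ c.R) : r = 1 ∨ r = c.u :=
  hQ r (c.Rcent r hr fun q hq => by
    rcases hQ q hq with rfl | rfl
    · exact Commute.one_right r
    · exact c.ucen r)

theorem good_of_root {x r : G} (hxL : x ∈ D.L) (hxx : x * x = 1 ∨ x * x = c.u) (hr : r ∈ c.Q)
    (hrr : r * r = c.u) : D.Good x := by
  rcases hxx with h | h
  · exact ⟨1, one_mem _, by rw [mul_one, h]⟩
  · exact ⟨r, hr, by rw [(D.commute_Q hr hxL).mul_mul_mul_comm, h, hrr, c.uu]⟩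

theorem not_cyclic_T : ¬ IsCyclic ↥((c.S : Subgroup G) ⊓ D.L) := by
  intro hcy
  obtain ⟨P, hP⟩ := D.sylow
  let f : ↥(P : Subgroup D.L) →* ↥((c.S : Subgroup G) ⊓ D.L) :=
    (D.L.subtype.comp (P : Subgroup D.L).subtype).codRestrict _
      fun x => ⟨(SetLike.ext_iff.1 hP _).1 x.2, (x : D.L).2⟩
  haveI : IsCyclic (P : Subgroup D.L) :=
    isCyclic_of_injective f fun a b e => Subtype.ext (Subtype.ext (congrArg Subtype.val e :))
  exact D.ns (Transfer.ClassThree.isSolvable_of_cyclic_sylow_two P)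

theorem exists_invol_T : ∃ t ∈ (c.S : Subgroup G) ⊓ D.L, orderOf t = 2 := by
  haveI : Fact (Nat.Prime 2) := ⟨Nat.prime_two⟩
  obtain ⟨P, hP⟩ := D.sylow
  have h2 : 2 ∣ Nat.card D.L := even_iff_two_dvd.1 (Nat.not_odd_iff_even.1 fun h => D.ns (S0205.result h))
  obtain ⟨t, ht⟩ := exists_prime_orderOf_dvd_card' (G := (P : Subgroup D.L)) 2 (P.dvd_card_of_dvd_card h2)
  exact ⟨((t : D.L) : G), ⟨(SetLike.ext_iff.1 hP _).1 t.2, (t : D.L).2⟩, by
    rw [Subgroup.orderOf_coe, Subgroup.orderOf_coe, ht]⟩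

/-- An automorphism of `S ∩ L` given by conjugation. -/
theorem exists_aut {g : G} (hg : D.NT g) :
    ∃ α : MulAut ↥((c.S : Subgroup G) ⊓ D.L), ∀ x, (α x : G) = g * x * g⁻¹ := by
  let f : ↥((c.S : Subgroup G) ⊓ D.L) →* ↥((c.S : Subgroup G) ⊓ D.L) :=
    MonoidHom.mk' (fun x => ⟨g * x * g⁻¹, hg.2 x x.2⟩) fun x y => Subtype.ext (by simp [mul_assoc])
  have hf : Function.Injective f := fun x y e =>
    Subtype.ext (mul_left_cancel (mul_right_cancel (congrArg Subtype.val e :)))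
  exact ⟨MulEquiv.ofBijective f ⟨hf, Finite.injective_iff_surjective.1 hf⟩, fun _ => rfl⟩

theorem rankOne_case {t₀ : G} (h : OneInvOn ((c.S : Subgroup G) ⊓ D.L) t₀) : D.AllGood ∨ D.Quat := by
  have hn : ¬ ∀ x y : ↥((c.S : Subgroup G) ⊓ D.L), Commute x y := fun hc => D.not_cyclic_T (isCyclic_of_comm h.oneInv hc)
  have hcen : ∀ z ∈ (c.S : Subgroup G) ⊓ D.L, (∀ y ∈ (c.S : Subgroup G) ⊓ D.L, Commute z y) → z = 1 ∨ z = t₀ :=
    fun z hz hzc => by
      rcases h.oneInv.center_le hn (z := ⟨z, hz⟩) (fun y => Subtype.ext (hzc y y.2).eq) with e | e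
      · exact Or.inl (congrArg Subtype.val e)
      · exact Or.inr (congrArg Subtype.val e)
  have htR : t₀ ∈ c.R := by
    by_contra htR
    refine D.false_of_fixed h.mem htR (by rw [mul_self_of_orderOf_two h.two]; exact one_mem _) fun g hg hgt => ?_
    have h2 : orderOf (g * t₀ * g⁻¹) = 2 := by rw [orderOf_conj_eq, h.two]
    rw [(h.uniq _ ⟨hgt, D.Ln.conj_mem _ h.mem.2 g⟩ (mul_self_of_orderOf_two h2)).resolve_left
      (ne_one_of_orderOf_two h2), inv_mul_cancel]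
    exact one_mem _
  have htu : t₀ = c.u :=
    (c.hQ.uniq t₀ (D.mem_Q h.mem.2 htR) (mul_self_of_orderOf_two h.two)).resolve_left (ne_one_of_orderOf_two h.two)
  subst htu
  rcases c.root_or_small with hQ | ⟨r, hr, hrr⟩
  · exact Or.inr ⟨hQ, h.mem.2, h, hn⟩
  · refine Or.inl fun x hxL hxS hxR hxx => D.good_of_root hxL (hcen _ ⟨mul_mem hxS hxS, mul_mem hxL hxL⟩
      fun y hy => D.commute_R hxx hy.2) hr hrr

theorem abelian_case (A : Subgroup ↥((c.S : Subgroup G) ⊓ D.L)) (hAc : A.Characteristic)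
    (hAa : IsMulCommutative A) (hA : ¬ IsCyclic A) : D.AllGood := by
  haveI : Fact (Nat.Prime 2) := ⟨Nat.prime_two⟩
  have hcomm : ∀ a ∈ A, ∀ b ∈ A, Commute a b := fun a ha b hb =>
    congrArg Subtype.val (hAa.is_comm.comm ⟨a, ha⟩ ⟨b, hb⟩)
  let A₂ : Subgroup ↥((c.S : Subgroup G) ⊓ D.L) :=
    { carrier := {a | a ∈ A ∧ a * a = 1}
      one_mem' := ⟨one_mem _, one_mul 1⟩
      mul_mem' := fun {a b} ha hb => ⟨mul_mem ha.1 hb.1, by
        rw [(hcomm b hb.1 a ha.1).mul_mul_mul_comm, ha.2, hb.2, one_mul]⟩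
      inv_mem' := fun {a} ha => ⟨inv_mem ha.1, by rw [← mul_inv_rev, ha.2, inv_one]⟩ }
  refine D.allGood_of_closed (A₂.map (Subgroup.subtype _)) (map_subtype_le _) ?_ ?_ ?_
  · rintro _ ⟨a, ha, rfl⟩
    exact congrArg Subtype.val ha.2
  · intro hle
    refine hA ?_
    obtain ⟨k, hk⟩ : ∃ k : A, orderOf k = 2 := by
      refine exists_prime_orderOf_dvd_card' 2 ?_
      obtain ⟨n, hn⟩ := ((c.S.isPGroup'.to_le inf_le_left).to_subgroup A).exists_card_eq
      rw [hn]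
      refine dvd_pow_self 2 fun e => hA ?_
      rw [e, pow_zero] at hn
      haveI : Subsingleton A := (Nat.card_eq_one_iff_unique.1 hn).1
      infer_instance
    have key : ∀ x : A, x * x = 1 → x = 1 ∨ ((x : ↥((c.S : Subgroup G) ⊓ D.L)) : G) = c.u := fun x hx => by
      have hxx : ((x : ↥((c.S : Subgroup G) ⊓ D.L)) : G) * (x : ↥((c.S : Subgroup G) ⊓ D.L)) = 1 :=
        congrArg (fun y : A => ((y : ↥((c.S : Subgroup G) ⊓ D.L)) : G)) hx
      have hxQ := D.mem_Q (x : ↥((c.S : Subgroup G) ⊓ D.L)).2.2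
        (hle ⟨x, ⟨x.2, congrArg Subtype.val hx⟩, rfl⟩)
      exact (c.hQ.uniq _ hxQ hxx).imp_left fun e => Subtype.ext (Subtype.ext e)
    refine isCyclic_of_comm (u := k) ⟨(c.S.isPGroup'.to_le inf_le_left).to_subgroup A, hk, fun x hx => ?_⟩
      fun x y => Subtype.ext (hcomm x x.2 y y.2)
    refine (key x hx).imp_right fun e => Subtype.ext (Subtype.ext (e.trans ?_))
    exact ((key k (mul_self_of_orderOf_two hk)).resolve_left (ne_one_of_orderOf_two hk)).symm
  · rintro g hg hgn _ ⟨a, ha, rfl⟩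
    obtain ⟨α, hα⟩ := D.exists_aut (D.nt_of_normalizer hg hgn)
    exact ⟨α a, ⟨characteristic_iff_map_le.1 hAc α ⟨a, ha.1, rfl⟩, by rw [← map_mul, ha.2, map_one]⟩, hα a⟩

set_option maxHeartbeats 800000 in
theorem no_modular_factor {E R₂ : Subgroup ↥((c.S : Subgroup G) ⊓ D.L)} (hER : ∀ e ∈ E, ∀ r ∈ R₂, e * r = r * e)
    (hsup : E ⊔ R₂ = ⊤) (hdec : ∀ t, ∃ e ∈ E, ∃ r ∈ R₂, e * r = t)
    (hEx : E = ⊥ ∨ ∃ z ∈ E, z * z = 1 ∧ z ≠ 1 ∧ (∀ y, Commute z y) ∧
      (∀ e ∈ E, e * e = 1 ∨ e * e = z) ∧ (∀ e ∈ E, ∀ f ∈ E, ⁅e, f⁆ = 1 ∨ ⁅e, f⁆ = z) ∧ ∃ e ∈ E, e * e = z)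
    (hnoone : ∀ z, ¬ ∀ x : ↥((c.S : Subgroup G) ⊓ D.L), x * x = 1 → x = 1 ∨ x = z)
    (hcz : ∀ z w : ↥((c.S : Subgroup G) ⊓ D.L), (∀ y, Commute z y) → (∀ y, Commute w y) → z * z = 1 → w * w = 1 →
      z ≠ 1 → w ≠ 1 → z = w)
    (h16 : 16 ≤ Nat.card R₂) (hmod : (∃ m : ℕ, Nonempty (R₂ ≃* DihedralGroup m)) ∨
      (∃ m : ℕ, Nonempty (R₂ ≃* QuaternionGroup m)) ∨ Cfsg.IsQuasiDihedral R₂) : False := by
  haveI : Fact (Nat.Prime 2) := ⟨Nat.prime_two⟩
  obtain ⟨a, x, hidx, hxa, hinv, h4, hx2⟩ := exists_cyclic_data h16 hmod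
  let M : Subgroup ↥((c.S : Subgroup G) ⊓ D.L) := centralizer (Set.range fun t : ↥((c.S : Subgroup G) ⊓ D.L) => t * t)
  have hMmem : ∀ {m : ↥((c.S : Subgroup G) ⊓ D.L)}, m ∈ M ↔ ∀ t : ↥((c.S : Subgroup G) ⊓ D.L), Commute m (t * t) := fun {m} =>
    ⟨fun h t => (mem_centralizer_iff.1 h _ ⟨t, rfl⟩).symm,
      fun h => mem_centralizer_iff.2 (by rintro _ ⟨t, rfl⟩; exact (h t).symm.eq)⟩
  have hsqa : ∀ r : R₂, r * r ∈ zpowers a := fun r => Subgroup.mul_self_mem_of_index_two hidx r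
  have hcomb : ∀ m : ↥((c.S : Subgroup G) ⊓ D.L), (∀ e ∈ E, Commute m (e * e)) → (∀ r ∈ R₂, Commute m (r * r)) → m ∈ M :=
    fun m h1 h2 => hMmem.2 fun t => by
      obtain ⟨e, he, r, hr, rfl⟩ := hdec t
      rw [(show Commute r e from (hER e he r hr).symm).mul_mul_mul_comm]
      exact (h1 e he).mul_right (h2 r hr)
  have hee : ∀ e ∈ E, ∀ y : ↥((c.S : Subgroup G) ⊓ D.L), Commute (e * e) y := fun e he y => by
    rcases hEx with hE | ⟨z, -, -, -, hzc, hesq, -, -⟩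
    · rw [hE, mem_bot] at he
      rw [he, one_mul]; exact Commute.one_left y
    · rcases hesq e he with h | h <;> rw [h]
      · exact Commute.one_left y
      · exact hzc y
  have hEM : ∀ e ∈ E, e ∈ M := fun e he => hcomb e (fun f hf => (hee f hf e).symm)
    fun r hr => (show Commute e (r * r) from hER e he _ (mul_mem hr hr))
  have haM : (a : ↥((c.S : Subgroup G) ⊓ D.L)) ∈ M := hcomb _ (fun f hf => (hee f hf _).symm) fun r hr => by
    obtain ⟨i, hi⟩ := mem_zpowers_iff.1 (hsqa ⟨r, hr⟩)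
    have e : r * r = ((a : ↥((c.S : Subgroup G) ⊓ D.L))) ^ i := by rw [← SubgroupClass.coe_zpow, hi]; rfl
    rw [e]
    exact Commute.self_zpow _ i
  have hxM : (x : ↥((c.S : Subgroup G) ⊓ D.L)) ∉ M := fun h => h4 (by
    have h1 : Commute x (a * a) := Subtype.ext (hMmem.1 h (a : ↥((c.S : Subgroup G) ⊓ D.L))).eq
    rw [h1.eq, mul_inv_cancel_right] at hinv
    exact mul_eq_one_iff_eq_inv.2 hinv)
  have hiM : M.index = 2 := Subgroup.index_eq_two_iff.2 ⟨(x : ↥((c.S : Subgroup G) ⊓ D.L)), fun b => by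
    obtain ⟨e, he, r, hr, rfl⟩ := hdec b
    have hz : ∀ r : R₂, r ∈ zpowers a → (r : ↥((c.S : Subgroup G) ⊓ D.L)) ∈ M := fun r hr => by
      obtain ⟨i, rfl⟩ := mem_zpowers_iff.1 hr
      rw [SubgroupClass.coe_zpow]; exact zpow_mem haM i
    have hiff : ∀ r : R₂, (r : ↥((c.S : Subgroup G) ⊓ D.L)) ∈ M ↔ r ∈ zpowers a := fun r => ⟨fun h => by
      by_contra hr
      have h1 : r * x ∈ zpowers a := (mul_mem_iff_of_index_two hidx).2 (iff_of_false hr hxa)
      exact hxM (by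
        have := mul_mem (inv_mem h) (hz _ h1)
        rwa [Subgroup.coe_mul, inv_mul_cancel_left] at this), hz r⟩
    have h5 : r * (x : ↥((c.S : Subgroup G) ⊓ D.L)) ∈ M ↔ ⟨r, hr⟩ * x ∈ zpowers a := hiff (⟨r, hr⟩ * x)
    have h6 : r ∈ M ↔ ⟨r, hr⟩ ∈ zpowers a := hiff ⟨r, hr⟩
    rw [mul_assoc, Subgroup.mul_mem_cancel_left M (hEM e he), Subgroup.mul_mem_cancel_left M (hEM e he),
      h5, h6, mul_mem_iff_of_index_two hidx, xor_def]
    tauto⟩
  have hxe : ∃ t : ↥((c.S : Subgroup G) ⊓ D.L), t ∉ M ∧ t * t = 1 := by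
    rcases hx2 with h | ⟨hne, hx4, hcen, huniq⟩
    · exact ⟨x, hxM, congrArg Subtype.val h⟩
    rcases hEx with hE | ⟨z, -, hzz, hz1, hzc, -, -, e, he, hez⟩
    · refine absurd (fun t ht => ?_) (hnoone ((x : ↥((c.S : Subgroup G) ⊓ D.L)) * x))
      rw [hE, bot_sup_eq] at hsup
      exact (huniq ⟨t, hsup.ge (mem_top t)⟩ (Subtype.ext ht)).imp (congrArg Subtype.val) (congrArg Subtype.val)
    · have hcT : ∀ y, Commute ((x : ↥((c.S : Subgroup G) ⊓ D.L)) * x) y := fun y => by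
        obtain ⟨f, hf, r, hr, rfl⟩ := hdec y
        exact (show Commute ((x : ↥((c.S : Subgroup G) ⊓ D.L)) * x) f from (hER f hf _ (mul_mem x.2 x.2)).symm).mul_right
          (congrArg Subtype.val (hcen ⟨r, hr⟩).eq)
      have hxx4 : ((x : ↥((c.S : Subgroup G) ⊓ D.L)) * x) * ((x : ↥((c.S : Subgroup G) ⊓ D.L)) * x) = 1 := congrArg Subtype.val hx4
      have hzx : (x : ↥((c.S : Subgroup G) ⊓ D.L)) * x = z := hcz _ z hcT hzc hxx4 hzz (fun h => hne (Subtype.ext h)) hz1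
      refine ⟨e * x, fun h => hxM ((Subgroup.mul_mem_cancel_left M (hEM e he)).1 h), ?_⟩
      rw [(show Commute (x : ↥((c.S : Subgroup G) ⊓ D.L)) e from (hER e he x x.2).symm).mul_mul_mul_comm, hez, hzx, hzz]
  obtain ⟨t, htM, htt⟩ := hxe
  have hRM : ∀ v : ↥((c.S : Subgroup G) ⊓ D.L), (v : G) ∈ c.R → v ∈ M := fun v hv =>
    hMmem.2 fun w => Subtype.ext (D.commute_R hv (w * w).2.2).eq
  have hmem := D.mem_of_index_two (M.map (Subgroup.subtype ((c.S : Subgroup G) ⊓ D.L))) (map_subtype_le _)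
    (by rw [relIndex, subgroupOf, comap_map_eq_self_of_injective (Subgroup.subtype_injective ((c.S : Subgroup G) ⊓ D.L))]; exact hiM)
    (by
      rintro g hg hgn _ ⟨m, hm, rfl⟩
      obtain ⟨α, hα⟩ := D.exists_aut (D.nt_of_normalizer hg hgn)
      refine ⟨α m, hMmem.2 fun w => ?_, hα m⟩
      have h := (hMmem.1 hm (α.symm w)).map α.toMonoidHom
      simpa using h)
    t.2.2 t.2.1 (fun h => htM (hRM t h)) (congrArg Subtype.val htt)
  obtain ⟨m, hm, e⟩ := hmem
  exact htM (Subtype.ext e ▸ hm)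

theorem cases : D.AllGood ∨ D.Quat ∨ D.Extra := by
  haveI : Fact (Nat.Prime 2) := ⟨Nat.prime_two⟩
  set T := (c.S : Subgroup G) ⊓ D.L with hT
  have hTp : IsPGroup 2 T := c.S.isPGroup'.to_le inf_le_left
  obtain ⟨t₀, ht₀, ht₀2⟩ := D.exists_invol_T
  by_cases hone : ∀ x ∈ T, x * x = 1 → x = 1 ∨ x = t₀
  · exact (D.rankOne_case ⟨hTp, ht₀2, ht₀, hone⟩).imp_right Or.inl
  by_cases hch : ∃ A : Subgroup T, A.Characteristic ∧ IsMulCommutative A ∧ ¬ IsCyclic A
  · obtain ⟨A, h1, h2, h3⟩ := hch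
    exact Or.inl (D.abelian_case A h1 h2 h3)
  push Not at hch hone
  obtain ⟨t₁, ht₁, ht₁2, ht₁1, ht₁0⟩ := hone
  have hnoone : ∀ z : T, ¬ ∀ x : T, x * x = 1 → x = 1 ∨ x = z := fun z hz => by
    have e0 := (hz ⟨t₀, ht₀⟩ (Subtype.ext (mul_self_of_orderOf_two ht₀2))).resolve_left
      fun e => ne_one_of_orderOf_two ht₀2 (congrArg Subtype.val e)
    have e1 := (hz ⟨t₁, ht₁⟩ (Subtype.ext ht₁2)).resolve_left fun e => ht₁1 (congrArg Subtype.val e)
    exact ht₁0 (congrArg Subtype.val (e1.trans e0.symm))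
  obtain ⟨E, R₂, hER, hsup, hE, hR₂⟩ := S3762.result hTp hch
  have hdec : ∀ t : T, ∃ e ∈ E, ∃ r ∈ R₂, e * r = t := fun t => by
    have h1 : E ≤ normalizer (R₂ : Set T) := fun e he => mem_normalizer_iff.2 fun r => by
      constructor
      · intro hr; rw [hER e he r hr, mul_inv_cancel_right]; exact hr
      · intro hr
        have h2 := hER e he _ hr
        rwa [show r = e⁻¹ * (e * r * e⁻¹) * e by group, mul_assoc, ← h2, inv_mul_cancel_left]
    have h2 : t ∈ ((E ⊔ R₂ : Subgroup T) : Set T) := hsup.ge (mem_top t)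
    rw [Subgroup.coe_mul_of_left_le_normalizer_right E R₂ h1] at h2
    exact Set.mem_mul.1 h2
  haveI hWc : IsCyclic (center T) :=
    hch (center T) inferInstance ⟨⟨fun a b => Subtype.ext (mem_center_iff.1 b.2 a)⟩⟩
  have hcz : ∀ z w : T, (∀ y, Commute z y) → (∀ y, Commute w y) → z * z = 1 → w * w = 1 → z ≠ 1 → w ≠ 1 → z = w :=
    fun z w hz hw hz2 hw2 hz1 hw1 => congrArg Subtype.val (Invol.involution_unique_of_isCyclic
      (x := (⟨z, mem_center_iff.2 fun y => (hz y).symm.eq⟩ : center T))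
      (y := ⟨w, mem_center_iff.2 fun y => (hw y).symm.eq⟩)
      (orderOf_two_iff.2 ⟨Subtype.ext hz2, fun e => hz1 (congrArg Subtype.val e)⟩)
      (orderOf_two_iff.2 ⟨Subtype.ext hw2, fun e => hw1 (congrArg Subtype.val e)⟩))
  -- the extraspecial factor
  have hEx : E = ⊥ ∨ ∃ z ∈ E, z * z = 1 ∧ z ≠ 1 ∧ (∀ y, Commute z y) ∧
      (∀ e ∈ E, e * e = 1 ∨ e * e = z) ∧ (∀ e ∈ E, ∀ f ∈ E, ⁅e, f⁆ = 1 ∨ ⁅e, f⁆ = z) ∧ ∃ e ∈ E, e * e = z := by
    rcases hE with hE | ⟨⟨-, -, hcomm⟩, hcard⟩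
    · exact Or.inl hE
    refine Or.inr ?_
    obtain ⟨z, hz1, hz⟩ : ∃ z : center ↥E, z ≠ 1 ∧ ∀ w : center ↥E, w = 1 ∨ w = z := by
      obtain ⟨a, b, hab, huniv⟩ := Nat.card_eq_two_iff.1 hcard
      have h1 : (1 : center ↥E) = a ∨ (1 : center ↥E) = b := huniv.ge (Set.mem_univ _)
      rcases h1 with h1 | h1
      · exact ⟨b, fun e => hab (h1.symm.trans e.symm), fun w => (huniv.ge (Set.mem_univ w) : w = a ∨ w = b).imp_left
          fun e => e.trans h1.symm⟩
      · exact ⟨a, fun e => hab (e.trans h1), fun w => (huniv.ge (Set.mem_univ w) : w = a ∨ w = b).symm.imp_left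
          fun e => e.trans h1.symm⟩
    have hcm : ∀ e f : E, ⁅e, f⁆ ∈ center ↥E := fun e f =>
      hcomm.le (commutator_def ↥E ▸ commutator_mem_commutator (mem_top e) (mem_top f))
    have hce : ∀ w : E, w ∈ center ↥E → w = 1 ∨ w = (z : E) := fun w hw =>
      (hz ⟨w, hw⟩).imp (congrArg Subtype.val) (congrArg Subtype.val)
    have hzz : z * z = 1 := (hz (z * z)).resolve_right fun e => hz1 (mul_eq_left.1 e)
    have hsq : ∀ e : E, e * e ∈ center ↥E := fun e => mem_center_iff.2 fun f => by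
      have h1 : ⁅e, f⁆ * e = e * ⁅e, f⁆ := (mem_center_iff.1 (hcm e f) e).symm
      have h2 : ⁅e, f⁆ * ⁅e, f⁆ = 1 := by
        rcases hce _ (hcm e f) with h | h <;> rw [h]
        · exact one_mul 1
        · exact congrArg Subtype.val hzz
      have h3 : ⁅e * e, f⁆ = 1 := by
        calc ⁅e * e, f⁆ = e * ⁅e, f⁆ * e⁻¹ * ⁅e, f⁆ := by simp only [commutatorElement_def]; group
          _ = 1 := by rw [← h1, mul_inv_cancel_right, h2]
      exact (commutatorElement_eq_one_iff_mul_comm.1 h3).symm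
    refine ⟨((z : E) : T), (z : E).2, congrArg (fun w : center ↥E => (((w : E)) : T)) hzz,
      fun e => hz1 (Subtype.ext (Subtype.ext e)), fun y => ?_, fun e he => ?_, fun e he f hf => ?_, ?_⟩
    · obtain ⟨e, he, r, hr, rfl⟩ := hdec y
      exact ((show Commute ((z : E) : T) e from
        congrArg Subtype.val (mem_center_iff.1 z.2 ⟨e, he⟩).symm).mul_right (hER _ (z : E).2 r hr))
    · exact (hce _ (hsq ⟨e, he⟩)).imp (fun h => congrArg Subtype.val h) fun h => congrArg Subtype.val h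
    · exact (hce _ (hcm ⟨e, he⟩ ⟨f, hf⟩)).imp (fun h => congrArg Subtype.val h) fun h => congrArg Subtype.val h
    · by_contra hno
      push Not at hno
      have hall : ∀ e : E, e * e = 1 := fun e => (hce _ (hsq e)).resolve_right fun h =>
        hno e e.2 (congrArg Subtype.val h)
      have hab : ∀ e f : E, e * f = f * e := fun e f => by
        have h1 := hall (e * f)
        calc e * f = (e * f) * (e * f) * (f⁻¹ * e⁻¹) := by group
          _ = f * e := by rw [h1, one_mul, inv_eq_of_mul_eq_one_right (hall e), inv_eq_of_mul_eq_one_right (hall f)]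
      have h3 : commutator ↥E = ⊥ := by
        rw [commutator_def, eq_bot_iff, Subgroup.commutator_le]
        exact fun e _ f _ => mem_bot.2 (commutatorElement_eq_one_iff_mul_comm.2 (hab e f))
      rw [← hcomm, h3, card_bot] at hcard
      omega
  rcases hR₂ with hR₂c | ⟨-, h16, hmod⟩
  · -- the cyclic factor is central
    haveI := hR₂c
    rcases hEx with hE | ⟨z, hzE, hzz, hz1, hzc, hesq, hecm, -⟩
    · refine absurd ?_ D.not_cyclic_T
      rw [hE, bot_sup_eq] at hsup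
      exact isCyclic_of_surjective R₂.subtype fun t => ⟨⟨t, hsup.ge (mem_top t)⟩, rfl⟩
    have hR₂W : ∀ r ∈ R₂, ∀ y, Commute r y := fun r hr y => by
      obtain ⟨e, he, s, hs, rfl⟩ := hdec y
      exact (Commute.symm (hER e he r hr)).mul_right
        (congrArg Subtype.val ((IsCyclic.commutative (α := R₂)).is_comm.comm ⟨r, hr⟩ ⟨s, hs⟩))
    have hcm : ∀ x y : T, ⁅x, y⁆ = 1 ∨ ⁅x, y⁆ = z := fun x y => by
      obtain ⟨e, he, r, hr, rfl⟩ := hdec x
      obtain ⟨f, hf, s, hs, rfl⟩ := hdec y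
      have h1 : ⁅e * r, f * s⁆ = ⁅e, f⁆ := by
        have hr' := hR₂W r hr
        have hs' := hR₂W s hs
        simp only [commutatorElement_def, mul_inv_rev]
        calc e * r * (f * s) * (r⁻¹ * e⁻¹) * (s⁻¹ * f⁻¹)
            = e * (r * (f * s)) * (r⁻¹ * (e⁻¹ * (s⁻¹ * f⁻¹))) := by simp only [mul_assoc]
          _ = e * (f * s) * (e⁻¹ * (s⁻¹ * f⁻¹)) := by
            rw [(hr' (f * s)).eq]; simp only [mul_assoc, mul_inv_cancel_left]
          _ = e * f * (s * e⁻¹) * (s⁻¹ * f⁻¹) := by simp only [mul_assoc]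
          _ = _ := by rw [(hs' e⁻¹).eq]; simp only [mul_assoc, mul_inv_cancel_left]
      rw [h1]
      exact hecm e he f hf
    by_cases hzR : (z : G) ∈ c.R
    swap
    · refine (D.false_of_fixed z.2 hzR ?_ fun g hg hgz => ?_).elim
      · rw [show (z : G) * z = 1 from congrArg Subtype.val hzz]; exact one_mem _
      have hn := D.good_ctl z.2.1 hzR ⟨1, one_mem _, by
        rw [mul_one]; exact congrArg Subtype.val hzz⟩ hgz
      obtain ⟨α, hα⟩ := D.exists_aut (D.nt_of_normalizer hg hn)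
      have := hcz z (α z) hzc (fun y => by
        rw [← α.apply_symm_apply y]; exact (hzc _).map α.toMonoidHom)
        hzz (by rw [← map_mul, hzz, map_one]) hz1 (fun e => hz1 (α.injective (e.trans (map_one α).symm)))
      rw [← hα z, ← this, inv_mul_cancel]
      exact one_mem _
    have hab : ∀ x ∈ T, ∀ y ∈ T, ⁅x, y⁆ ∈ c.R := fun x hx y hy => by
      rcases hcm ⟨x, hx⟩ ⟨y, hy⟩ with h | h
      · rw [show ⁅x, y⁆ = 1 from congrArg Subtype.val h]; exact one_mem _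
      · rw [show ⁅x, y⁆ = (z : G) from congrArg Subtype.val h]; exact hzR
    by_cases hWR : ∀ w : T, (∀ y, Commute w y) → (w : G) ∈ c.R
    swap
    · push Not at hWR
      obtain ⟨w₀, hw₀c, hw₀R⟩ := hWR
      classical
      obtain ⟨k, hk⟩ := hTp w₀
      have hex : ∃ i, ((w₀ ^ 2 ^ i : T) : G) ∈ c.R := ⟨k, by rw [hk]; exact one_mem _⟩
      obtain ⟨i, hi⟩ : ∃ i, Nat.find hex = i + 1 := ⟨Nat.find hex - 1, by
        have : Nat.find hex ≠ 0 := fun e => hw₀R (by simpa [e] using Nat.find_spec hex)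
        omega⟩
      have hspec := Nat.find_spec hex
      rw [hi, pow_succ, pow_mul, pow_two, Subgroup.coe_mul] at hspec
      set w := w₀ ^ 2 ^ i with hw
      have hwR : (w : G) ∉ c.R := Nat.find_min hex (by omega)
      have hwc : ∀ y, Commute w y := fun y => (hw₀c y).pow_left _
      refine (D.false_of_fixed w.2 hwR hspec fun g hg hgw => ?_).elim
      obtain ⟨n, hn, hnR⟩ := D.exists_nt_conj hab w.2 hg hgw
      obtain ⟨α, hα⟩ := D.exists_aut hn
      -- the cyclic centre has one involution modulo the radical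
      let C := center T
      let N : Subgroup C := (c.R.subgroupOf T).subgroupOf C
      haveI : N.Normal := ⟨fun x hx y => by
        have : y * x * y⁻¹ = x := by
          rw [(IsCyclic.commutative (α := C)).is_comm.comm y x, mul_inv_cancel_right]
        rw [this]; exact hx⟩
      haveI : IsCyclic (C ⧸ N) := isCyclic_of_surjective (QuotientGroup.mk' N) (QuotientGroup.mk'_surjective N)
      have hinv : ∀ v : T, ∀ (hv : ∀ y, Commute v y), (v : G) ∉ c.R → (v : G) * v ∈ c.R →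
          orderOf (QuotientGroup.mk' N ⟨v, mem_center_iff.2 fun y => (hv y).symm.eq⟩) = 2 := fun v hv h1 h2 =>
        orderOf_two_iff.2 ⟨by
          rw [← map_mul]; exact (QuotientGroup.eq_one_iff _).2 h2,
          fun e => h1 ((QuotientGroup.eq_one_iff (N := N) _).1 e)⟩
      have hαc : ∀ y, Commute (α w) y := fun y => by
        rw [← α.apply_symm_apply y]; exact (hwc _).map α.toMonoidHom
      have hcj : ∀ v : G, n * v * n⁻¹ ∈ c.R ↔ v ∈ c.R := fun v =>
        inv_conj (inv_normal c.R ⊤ (hN := c.Rn)) (mem_top n)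
      have h2 := Invol.involution_unique_of_isCyclic (hinv w hwc hwR hspec) (hinv (α w) hαc
        (by rw [hα, hcj]; exact hwR)
        (by rw [hα, show n * (w : G) * n⁻¹ * (n * w * n⁻¹) = n * ((w : G) * w) * n⁻¹ by group, hcj]; exact hspec))
      have h3 : (w : G)⁻¹ * (n * w * n⁻¹) ∈ c.R := by
        have := QuotientGroup.eq.1 h2
        rw [← hα]; exact this
      have := mul_mem h3 hnR
      rwa [mul_assoc, mul_inv_cancel_left] at this
    have hdec' : ∀ x ∈ T, ∃ e : T, e ∈ E ∧ ∃ w ∈ c.Q, x = (e : G) * w := fun x hx => by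
      obtain ⟨e, he, r, hr, her⟩ := hdec ⟨x, hx⟩
      exact ⟨e, he, r, D.mem_Q r.2.2 (hWR r (hR₂W r hr)), (congrArg Subtype.val her).symm⟩
    have hzu : (z : G) = c.u := (c.hQ.uniq _ (D.mem_Q z.2.2 hzR) (congrArg Subtype.val hzz)).resolve_left
      fun e => hz1 (Subtype.ext e)
    have hesq' : ∀ e ∈ E, ((e : T) : G) * e = 1 ∨ ((e : T) : G) * e = c.u := fun e he =>
      (hesq e he).imp (congrArg Subtype.val) fun h => (congrArg Subtype.val h).trans hzu
    rcases c.root_or_small with hQ | ⟨r, hr, hrr⟩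
    · refine Or.inr (Or.inr ⟨hQ, hzu ▸ z.2.2, fun x hx => ?_, fun x hx y hy => ?_, fun v hv hvc => ?_, ?_⟩)
      · obtain ⟨e, he, w, hw, rfl⟩ := hdec' x hx
        rcases hQ w hw with rfl | rfl
        · rw [mul_one]; exact hesq' e he
        · rw [(c.ucen (e : G)).symm.mul_mul_mul_comm, c.uu, mul_one]; exact hesq' e he
      · exact (hcm ⟨x, hx⟩ ⟨y, hy⟩).imp (congrArg Subtype.val) fun h => (congrArg Subtype.val h).trans hzu
      · exact hQ v (D.mem_Q hv.2 (hWR ⟨v, hv⟩ fun y => Subtype.ext (hvc y y.2).eq))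
      · rcases eq_or_ne t₀ c.u with e | e
        · exact ⟨t₁, ht₁, ht₁2, ht₁1, fun e' => ht₁0 (e'.trans e.symm)⟩
        · exact ⟨t₀, ht₀, mul_self_of_orderOf_two ht₀2, ne_one_of_orderOf_two ht₀2, e⟩
    · refine Or.inl fun x hxL hxS hxR hxx => ?_
      obtain ⟨e, he, w, hw, rfl⟩ := hdec' x ⟨hxS, hxL⟩
      rcases hesq' e he with h | h
      · exact ⟨w⁻¹, inv_mem hw, by rw [mul_inv_cancel_right, h]⟩
      · exact ⟨w⁻¹ * r, mul_mem (inv_mem hw) hr, by
          rw [show (e : G) * w * (w⁻¹ * r) = e * r by group,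
            (D.commute_Q hr e.2.2).mul_mul_mul_comm, h, hrr, c.uu]⟩
  · exact (D.no_modular_factor hER hsup hdec hEx hnoone hcz h16 hmod).elim

end Simp

end Cfsg.Agent.Invol.RankOneInter
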