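import Cfsg.Agent.Lib.Invol.RankOneInter.SimpleConcl
import Cfsg.Agent.S3289
import Cfsg.Agent.S0111

/-!
# Tools for the simple case: closed subgroups, fusion in an abelian Sylow subgroup, transfer
-/

set_option autoImplicit false
set_option linter.style.haveILetI false
set_option linter.unusedSectionVars false

open Subgroup
open scoped commutatorElement

namespace Cfsg.Agent.Invol.RankOneInter

universe u

variable {G : Type u} [Group G] [Finite G]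

namespace Simp

variable {c : Cfg G} (D : Simp c)
include D

/-- An elementary subgroup of `S ∩ L` invariant under the elements of `L` normalising `S` makes everything good. -/
theorem allGood_of_closed (A : Subgroup G) (hA : A ≤ (c.S : Subgroup G) ⊓ D.L) (hA2 : ∀ a ∈ A, a * a = 1)
    (hAR : ¬ A ≤ c.R)
    (hinv : ∀ g ∈ D.L, g ∈ normalizer ((c.S : Subgroup G) : Set G) → ∀ a ∈ A, g * a * g⁻¹ ∈ A) : D.AllGood := by
  haveI : Fact (Nat.Prime 2) := ⟨Nat.prime_two⟩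
  haveI := D.isSimple_K
  obtain ⟨S₁, hS₁⟩ := D.exists_sylowK
  set π := QuotientGroup.mk' (center ↥D.L)
  set A' := (A.subgroupOf D.L).map π with hA'
  have hgood : ∀ a : D.L, (a : G) ∈ A → D.Good a := fun a ha =>
    ⟨1, one_mem _, by rw [mul_one, hA2 _ ha]⟩
  have key : ∀ g a : D.L, (a : G) ∈ A → π a ≠ 1 → π (g * a * g⁻¹) ∈ (S₁ : Subgroup D.K) →
      (g : G) ∈ normalizer ((c.S : Subgroup G) : Set G) := fun g a ha ha1 hg =>
    D.good_ctl (hA ha).1 (fun h => ha1 (D.mk_eq_one.2 h)) (hgood a ha) ((hS₁ _).1 hg)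
  have hle : A' ≤ (S₁ : Subgroup D.K) := by
    rintro _ ⟨a, ha, rfl⟩
    exact (hS₁ a).2 (hA ha).1
  obtain ⟨a₀, ha₀, ha₀R⟩ : ∃ a ∈ A, a ∉ c.R := by
    by_contra h
    push Not at h
    exact hAR h
  have ha₀1 : π ⟨a₀, (hA ha₀).2⟩ ≠ 1 := fun e => ha₀R (D.mk_eq_one.1 e)
  have hA'1 : A' ≠ ⊥ := fun e => ha₀1 (mem_bot.1 (e.le ⟨⟨a₀, (hA ha₀).2⟩, ha₀, rfl⟩))
  have hsc : Cfsg.IsStronglyClosed A' (S₁ : Subgroup D.K) := by
    refine ⟨hle, ?_⟩
    rintro _ ⟨a, ha, rfl⟩ k hk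
    by_cases ha1 : π a = 1
    · rw [ha1, mul_one, mul_inv_cancel]; exact one_mem _
    obtain ⟨g, rfl⟩ := QuotientGroup.mk'_surjective _ k
    rw [← map_inv, ← map_mul, ← map_mul] at hk ⊢
    exact ⟨g * a * g⁻¹, hinv g g.2 (key g a ha ha1 hk) a ha, rfl⟩
  have hC : ∀ s ∈ A', s ≠ 1 → centralizer ({s} : Set D.K) ≤ normalizer ((S₁ : Subgroup D.K) : Set D.K) := by
    rintro _ ⟨a, ha, rfl⟩ ha1 k hk
    obtain ⟨g, rfl⟩ := QuotientGroup.mk'_surjective _ k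
    refine D.normalizer_map hS₁ (key g a ha ha1 ?_)
    rw [map_mul, map_mul, map_inv, mem_centralizer_singleton_iff.1 hk, mul_inv_cancel_right]
    exact hle ⟨a, ha, rfl⟩
  have hN : normalizer ((Cfsg.omegaOne 2 A' : Subgroup D.K) : Set D.K) ≤
      normalizer ((S₁ : Subgroup D.K) : Set D.K) := by
    intro k hk
    obtain ⟨g, rfl⟩ := QuotientGroup.mk'_surjective _ k
    refine D.normalizer_map hS₁ (key g ⟨a₀, (hA ha₀).2⟩ ha₀ ha₀1 ?_)
    have hmem : π ⟨a₀, (hA ha₀).2⟩ ∈ Cfsg.omegaOne 2 A' := subset_closure ⟨⟨_, ha₀, rfl⟩, by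
      rw [← map_pow, show (⟨a₀, (hA ha₀).2⟩ : D.L) ^ 2 = 1 from Subtype.ext (by
        rw [SubmonoidClass.coe_pow, pow_two]; exact hA2 _ ha₀), map_one]⟩
    have hom : Cfsg.omegaOne 2 A' ≤ (S₁ : Subgroup D.K) := (closure_le _).2 fun x hx => hle hx.1
    rw [map_mul, map_mul, map_inv]
    exact hom ((mem_normalizer_iff.1 hk _).1 hmem)
  have hse := (S3289.result S₁ A' hA'1 hsc _ (D.normalizer_ne_top S₁) hC hN).1
  have hX : Subgroup.normalClosure (A' : Set D.K) = ⊤ :=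
    (normalClosure_normal.eq_bot_or_eq_top).resolve_left fun e => hA'1
      (le_bot_iff.1 (le_normalClosure.trans e.le))
  intro x hxL hxS hxR hxx
  have hx2 : orderOf (π ⟨x, hxL⟩) = 2 := orderOf_two_iff.2 ⟨by
    rw [← map_mul]; exact D.mk_eq_one.2 hxx, fun e => hxR (D.mk_eq_one.1 e)⟩
  have ha2 : orderOf (π ⟨a₀, (hA ha₀).2⟩) = 2 := orderOf_two_iff.2 ⟨by
    rw [← map_mul]; exact D.mk_eq_one.2 (by
      show a₀ * a₀ ∈ c.R
      rw [hA2 _ ha₀]; exact one_mem _), ha₀1⟩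
  have hmemX : ∀ k : D.K, k ∈ Subgroup.normalClosure (A' : Set D.K) := fun k => hX.ge (mem_top k)
  obtain ⟨k, hk⟩ := isConj_iff.1 (isConj_involutions hse
    (a := (⟨π ⟨a₀, (hA ha₀).2⟩, hmemX _⟩ : Subgroup.normalClosure (A' : Set D.K))) (b := ⟨π ⟨x, hxL⟩, hmemX _⟩)
    (by rw [Subgroup.orderOf_mk]; exact ha2) (by rw [Subgroup.orderOf_mk]; exact hx2))
  obtain ⟨g, hg⟩ := QuotientGroup.mk'_surjective _ (k : D.K)
  have hk' := congrArg Subtype.val hk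
  simp only [Subgroup.coe_mul, InvMemClass.coe_inv, ← hg] at hk'
  rw [← map_inv, ← map_mul, ← map_mul] at hk'
  exact D.good_congr (g := (g : G)) (hA ha₀).2 hxL (hgood ⟨a₀, (hA ha₀).2⟩ ha₀) (D.mk_eq.1 hk')

/-- No index-two normal subgroup in `L`. -/
theorem false_of_index_two (M : Subgroup D.L) [M.Normal] (hM : M.index = 2) : False := by
  have hc : ∀ a b : ↥D.L ⧸ M, a * b = b * a := fun a b => by
    haveI : IsCyclic (↥D.L ⧸ M) := isCyclic_of_prime_card (p := 2) (by rw [← index_eq_card]; exact hM)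
    exact (IsCyclic.commutative (α := ↥D.L ⧸ M)).is_comm.comm a b
  haveI : Group.IsSolvable (↥D.L ⧸ M) := Group.isSolvable_of_comm hc
  have : M = ⊤ := eq_top_iff.2 fun l _ => (QuotientGroup.eq_one_iff l).1
    (eq_one_of_perfect D.perf (QuotientGroup.mk' M) l)
  rw [this, index_top] at hM
  omega

/-- Transfer: an invariant subgroup of index two in `S ∩ L` contains its involutions. -/
theorem mem_of_index_two (M : Subgroup G) (hM : M ≤ (c.S : Subgroup G) ⊓ D.L)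
    (hi : M.relIndex ((c.S : Subgroup G) ⊓ D.L) = 2)
    (hinv : ∀ g ∈ D.L, g ∈ normalizer ((c.S : Subgroup G) : Set G) → ∀ m ∈ M, g * m * g⁻¹ ∈ M)
    {t : G} (htL : t ∈ D.L) (htS : t ∈ (c.S : Subgroup G)) (htR : t ∉ c.R) (ht2 : t * t = 1) : t ∈ M := by
  by_contra htM
  obtain ⟨P, hP⟩ := D.sylow
  have hrel : (M.subgroupOf D.L).relIndex (P : Subgroup D.L) = 2 := by
    refine Eq.trans ?_ hi
    rw [show (P : Subgroup D.L) = ((c.S : Subgroup G) ⊓ D.L).subgroupOf D.L from by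
      rw [hP, inf_subgroupOf_right], relIndex_subgroupOf (inf_le_right)]
  rcases S0111.result P (M.subgroupOf D.L) (fun m hm => (SetLike.ext_iff.1 hP m).2 (hM hm).1) hrel
    ⟨t, htL⟩ (orderOf_two_iff.2 ⟨Subtype.ext ht2, fun e => htR (by
      rw [show t = 1 from congrArg Subtype.val e]; exact one_mem _)⟩)
    ((SetLike.ext_iff.1 hP _).2 htS) htM with ⟨N, hN, hNi, -⟩ | ⟨g, hg⟩
  · haveI := hN
    exact D.false_of_index_two N hNi
  · have hgm : (g : G) * t * (g : G)⁻¹ ∈ M := hg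
    have hn := D.good_ctl htS htR ⟨1, one_mem _, by rw [mul_one, ht2]⟩ (hM hgm).1
    refine htM ?_
    have := hinv _ (inv_mem g.2) (inv_mem hn) _ hgm
    rwa [show (g : G)⁻¹ * ((g : G) * t * (g : G)⁻¹) * (g : G)⁻¹⁻¹ = t by group] at this

/-- `g` is an element of `L` normalising `S ∩ L`. -/
def NT (g : G) : Prop :=
  g ∈ D.L ∧ ∀ x ∈ (c.S : Subgroup G) ⊓ D.L, g * x * g⁻¹ ∈ (c.S : Subgroup G) ⊓ D.L

theorem nt_of_normalizer {g : G} (hg : g ∈ D.L) (hn : g ∈ normalizer ((c.S : Subgroup G) : Set G)) : D.NT g :=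
  ⟨hg, fun x hx => ⟨(mem_normalizer_iff.1 hn x).1 hx.1, D.Ln.conj_mem x hx.2 g⟩⟩

theorem nt_of_normalizerK {S₁ : Sylow 2 D.K} (hS₁ : ∀ l : D.L,
    QuotientGroup.mk' (center ↥D.L) l ∈ (S₁ : Subgroup D.K) ↔ (l : G) ∈ (c.S : Subgroup G)) {n : D.L}
    (hn : QuotientGroup.mk' (center ↥D.L) n ∈ normalizer ((S₁ : Subgroup D.K) : Set D.K)) : D.NT n := by
  refine ⟨n.2, fun x hx => ⟨?_, D.Ln.conj_mem x hx.2 n⟩⟩
  have := (mem_normalizer_iff.1 hn _).1 ((hS₁ ⟨x, hx.2⟩).2 hx.1)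
  rw [← map_inv, ← map_mul, ← map_mul] at this
  exact (hS₁ _).1 this

/-- With `S ∩ L` abelian modulo the radical, fusion is controlled by its normaliser. -/
theorem exists_nt_conj (hab : ∀ x ∈ (c.S : Subgroup G) ⊓ D.L, ∀ y ∈ (c.S : Subgroup G) ⊓ D.L, ⁅x, y⁆ ∈ c.R)
    {x g : G} (hx : x ∈ (c.S : Subgroup G) ⊓ D.L) (hg : g ∈ D.L) (hgx : g * x * g⁻¹ ∈ (c.S : Subgroup G)) :
    ∃ n, D.NT n ∧ (n * x * n⁻¹)⁻¹ * (g * x * g⁻¹) ∈ c.R := by
  haveI : Fact (Nat.Prime 2) := ⟨Nat.prime_two⟩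
  obtain ⟨S₁, hS₁⟩ := D.exists_sylowK
  set π := QuotientGroup.mk' (center ↥D.L) with hπ
  haveI : IsMulCommutative (S₁ : Subgroup D.K) := ⟨⟨by
    rintro ⟨a, ha⟩ ⟨b, hb⟩
    obtain ⟨v, rfl⟩ := QuotientGroup.mk'_surjective _ a
    obtain ⟨w, rfl⟩ := QuotientGroup.mk'_surjective _ b
    refine Subtype.ext ?_
    show π v * π w = π w * π v
    rw [← commutatorElement_eq_one_iff_mul_comm, ← map_commutatorElement]
    exact D.mk_eq_one.2 (hab v ⟨(hS₁ v).1 ha, v.2⟩ w ⟨(hS₁ w).1 hb, w.2⟩)⟩⟩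
  obtain ⟨n, hn, e⟩ := S₁.conj_eq_normalizer_conj_of_mem (π ⟨x, hx.2⟩) (π ⟨g, hg⟩)⁻¹ ((hS₁ _).2 hx.1) (by
    rw [inv_inv, ← map_inv, ← map_mul, ← map_mul]
    exact (hS₁ (⟨g, hg⟩ * ⟨x, hx.2⟩ * ⟨g, hg⟩⁻¹)).2 hgx)
  obtain ⟨m, rfl⟩ := QuotientGroup.mk'_surjective _ n
  have hm : D.NT (m⁻¹ : D.L) := D.nt_of_normalizerK hS₁ (by rw [map_inv]; exact inv_mem hn)
  refine ⟨(m⁻¹ : D.L), hm, ?_⟩
  rw [inv_inv, ← map_inv, ← map_inv, ← map_mul, ← map_mul, ← map_mul, ← map_mul] at e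
  have := D.mk_eq.1 e.symm
  simpa [mul_assoc] using this

/-- An involution modulo the radical fixed there by its fusion cannot exist. -/
theorem false_of_fixed {w : G} (hw : w ∈ (c.S : Subgroup G) ⊓ D.L) (hwR : w ∉ c.R) (hww : w * w ∈ c.R)
    (hfix : ∀ g ∈ D.L, g * w * g⁻¹ ∈ (c.S : Subgroup G) → w⁻¹ * (g * w * g⁻¹) ∈ c.R) : False := by
  haveI := D.isSimple_K
  obtain ⟨S₁, hS₁⟩ := D.exists_sylowK
  set π := QuotientGroup.mk' (center ↥D.L) with hπ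
  refine false_of_isolated D.not_comm_K (t := π ⟨w, hw.2⟩) (ZStar.isIsolated_of_sylow ((hS₁ _).2 hw.1)
    (orderOf_two_iff.2 ⟨by rw [← map_mul]; exact D.mk_eq_one.2 hww, fun e => hwR (D.mk_eq_one.1 e)⟩) fun k hk => ?_)
  obtain ⟨g, rfl⟩ := QuotientGroup.mk'_surjective _ k
  rw [← map_inv, ← map_mul, ← map_mul] at hk ⊢
  exact (D.mk_eq.2 (hfix g g.2 ((hS₁ _).1 hk))).symm

end Simp

end Cfsg.Agent.Invol.RankOneInter
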